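import Cfsg.Agent.MaxSub.Alt

/-!
Orthogonal subspaces of a bilinear form given as a function, and subspace stabilisers (helper97).
-/

set_option autoImplicit false

namespace Cfsg.Agent.MaxSub

open Matrix

variable {ι : Type} [Fintype ι] [DecidableEq ι] {F : Type*} [Field F]
variable {f : (ι → F) → (ι → F) → F}

/-- The left orthogonal of a subspace. -/
def orth (hf : Geo.IsBilinearForm f) (W : Submodule F (ι → F)) : Submodule F (ι → F) :=
  ⨅ w : W, LinearMap.ker (lmap hf (w : ι → F))

theorem mem_orth {hf : Geo.IsBilinearForm f} {W : Submodule F (ι → F)} {x : ι → F} :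
    x ∈ orth hf W ↔ ∀ w ∈ W, f x w = 0 := by
  simp [orth, Submodule.mem_iInf]

theorem finrank_orth (hf : Geo.IsBilinearForm f) (hn : Geo.IsNondegenerateForm f)
    (W : Submodule F (ι → F)) :
    Module.finrank F (orth hf W) + Module.finrank F W = Fintype.card ι := by
  let L : (ι → F) →ₗ[F] Module.Dual F W :=
    { toFun := fun x => (rmap hf x).comp W.subtype
      map_add' := fun x y => by ext w; exact hf.add_left _ _ _
      map_smul' := fun c x => by ext w; exact hf.smul_left _ _ _ }
  have hker : LinearMap.ker L = orth hf W := by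
    ext x
    simp [L, mem_orth, LinearMap.ext_iff]
  have hsur : Function.Surjective L := by
    intro ξ
    obtain ⟨η, hη⟩ := LinearMap.exists_extend ξ
    -- represent `η` by the transpose form
    let R : (ι → F) →ₗ[F] Module.Dual F (ι → F) :=
      { toFun := fun x => rmap hf x
        map_add' := fun x y => by ext w; exact hf.add_left _ _ _
        map_smul' := fun c x => by ext w; exact hf.smul_left _ _ _ }
    have hinj : Function.Injective R := by
      rw [injective_iff_map_eq_zero]
      intro x hx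
      by_contra h
      obtain ⟨y, hy⟩ := (hn x h).2
      exact hy (LinearMap.congr_fun hx y)
    obtain ⟨x, hx⟩ := (LinearMap.injective_iff_surjective_of_finrank_eq_finrank
      (by simp)).mp hinj η
    refine ⟨x, ?_⟩
    rw [← hη, ← hx]
    rfl
  have h := LinearMap.finrank_range_add_finrank_ker L
  rw [LinearMap.range_eq_top.mpr hsur, hker] at h
  simp at h
  omega

theorem mem_subspaceStabilizer [Finite F] {g : GL ι F} {W : Submodule F (ι → F)}
    (h : ∀ x ∈ W, (g : Matrix ι ι F) *ᵥ x ∈ W) : g ∈ Geo.subspaceStabilizer W := by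
  intro v
  refine ⟨h v, fun hv => ?_⟩
  let e : W → W := fun x => ⟨(g : Matrix ι ι F) *ᵥ (x : ι → F), h x x.2⟩
  have hinj : Function.Injective e := fun a b hab =>
    Subtype.ext (mulVec_injective g (congrArg Subtype.val hab))
  obtain ⟨w, hw⟩ := (Finite.injective_iff_surjective.mp hinj) ⟨_, hv⟩
  exact mulVec_injective g (congrArg Subtype.val hw) ▸ w.2

theorem subspaceStabilizer_le_of_eq_orth [Finite F] (hf : Geo.IsBilinearForm f)
    {W : Submodule F (ι → F)} {g : GL ι F} (hg : g ∈ isom f)
    (h : g ∈ Geo.subspaceStabilizer W) : g ∈ Geo.subspaceStabilizer (orth hf W) := by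
  refine mem_subspaceStabilizer fun x hx => mem_orth.mpr fun w hw => ?_
  have hw' : ((g⁻¹ : GL ι F) : Matrix ι ι F) *ᵥ w ∈ W := (inv_mem h w).mp hw
  rw [← mulVec_inv_mulVec g w, mem_isom.mp hg]
  exact mem_orth.mp hx _ hw'

/-- If `f` is non-degenerate on `W`, then `W` and its orthogonal are complements. -/
theorem exists_orth_decomp (hf : Geo.IsBilinearForm f) (hn : Geo.IsNondegenerateForm f)
    {W : Submodule F (ι → F)} (hW : Geo.IsNondegenerateOn f W) (x : ι → F) :
    ∃ a ∈ W, ∃ b ∈ orth hf W, x = a + b := by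
  have hdis : Disjoint W (orth hf W) := Submodule.disjoint_def.mpr fun v hv hv' => by
    by_contra h
    obtain ⟨y, hy, hy'⟩ := (hW v hv h).2
    exact hy' (mem_orth.mp hv' y hy)
  have htop : W ⊔ orth hf W = ⊤ := by
    refine Submodule.eq_top_of_finrank_eq ?_
    have h := Submodule.finrank_sup_add_finrank_inf_eq W (orth hf W)
    rw [disjoint_iff.mp hdis] at h
    have := finrank_orth hf hn W
    simp at h ⊢
    omega
  obtain ⟨a, ha, b, hb, h⟩ := Submodule.mem_sup.mp (htop ▸ Submodule.mem_top : x ∈ W ⊔ orth hf W)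
  exact ⟨a, ha, b, hb, h.symm⟩

/-- A subspace contained in the union of two subspaces lies in one of them. -/
theorem le_or_le_of_forall {U A B : Submodule F (ι → F)} (h : ∀ x ∈ U, x ∈ A ∨ x ∈ B) :
    U ≤ A ∨ U ≤ B := by
  by_contra hc
  obtain ⟨hA, hB⟩ := not_or.mp hc
  obtain ⟨x, hx, hxA, hxB⟩ := exists_mem_notMem_notMem (P := U) (Q := A) (R := B)
    (SetLike.not_le_iff_exists.mp hA) (SetLike.not_le_iff_exists.mp hB)
  exact (h x hx).elim hxA hxB

end Cfsg.Agent.MaxSub
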