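import Cfsg.Agent.MaxSub.OrthStab
import Cfsg.Agent.MaxSub.Orth

/-!
Maximality in `Ω` of the stabilisers of non-degenerate subspaces, in the matrix setting (helper24).
-/

set_option autoImplicit false

namespace Cfsg.Agent.OrthStab

open QuadraticMap Cfsg.Agent.UnitaryOrthogonal Matrix

universe u v

section Abstract

variable {F : Type*} [Field F] [Finite F] {V : Type*} [AddCommGroup V] [Module F V]
variable [FiniteDimensional F V] {Q : QuadraticForm F V} {W₁ W₂ : Submodule F V}

/-- An isometry stabilising `W₁` stabilises `W₂`. -/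
theorem IsOrthPair.map_mem₂ (h : IsOrthPair Q W₁ W₂) (g : UnitaryOrthogonal.orth Q) (hg : ∀ x ∈ W₁, g.1 x ∈ W₁) :
    ∀ y ∈ W₂, g.1 y ∈ W₂ := by
  intro y hy
  obtain ⟨p, hp, q, hq, e⟩ := h.exists_add (g.1 y)
  have hsurj : ∀ x ∈ W₁, ∃ x' ∈ W₁, g.1 x' = x := by
    let r : W₁ →ₗ[F] W₁ := g.1.toLinearMap.restrict hg
    have hr : Function.Injective r := fun a b hab =>
      Subtype.ext (g.1.injective (congrArg Subtype.val hab))
    intro x hx
    obtain ⟨x', hx'⟩ := (LinearMap.injective_iff_surjective.mp hr) ⟨x, hx⟩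
    exact ⟨x', x'.2, congrArg Subtype.val hx'⟩
  have hp0 : p = 0 := by
    refine congrArg Subtype.val (h.polarND_restrict ⟨p, hp⟩ fun x => ?_)
    obtain ⟨x', hx', hxx⟩ := hsurj x x.2
    have e1 : polar Q (g.1 y) (x : V) = 0 := by
      rw [← hxx, map_polar, polar_comm]; exact h.orth x' hx' y hy
    rw [← e, polar_add_left, polar_comm Q q, h.orth x x.2 q hq, add_zero] at e1
    simpa [polar] using e1
  rw [hp0, zero_add] at e
  exact e ▸ hq

end Abstract

/-- A non-degenerate even-dimensional space has a similarity with multiplier `-1`. -/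
theorem exists_neg_similar_aux {F : Type u} [Field F] [Finite F] : ∀ (n : ℕ) {V : Type v}
    [AddCommGroup V] [Module F V] [FiniteDimensional F V] (Q : QuadraticForm F V),
    Module.finrank F V = n → Even n → PolarND Q → ∃ φ : V →ₗ[F] V, ∀ x, Q (φ x) = -Q x := by
  intro n
  induction n using Nat.strong_induction_on with
  | _ n ih =>
    intro V _ _ _ Q hn hev hQ
    by_cases h2 : (2 : F) = 0
    · exact ⟨LinearMap.id, fun x => by
        rw [LinearMap.id_apply]; linear_combination Q x * h2⟩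
    by_cases haniso : ∀ x, Q x = 0 → x = 0
    · rcases Nat.lt_or_ge n 3 with hlt | hge
      · obtain ⟨j, hj⟩ := hev
        rcases Nat.eq_zero_or_pos j with rfl | hjpos
        · haveI : Subsingleton V := (Module.finrank_zero_iff (R := F)).mp (by omega)
          exact ⟨0, fun x => by simp [Subsingleton.elim x 0]⟩
        have hd : Module.finrank F V = 2 := by omega
        obtain ⟨e₁, he₁⟩ := Forms59.exists_eq_of_binary Q hd haniso (one_ne_zero (α := F))
        obtain ⟨e₂, he₂0, he₂⟩ : ∃ e₂ : V, e₂ ≠ 0 ∧ polar Q e₁ e₂ = 0 := by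
          have e := LinearMap.finrank_range_add_finrank_ker (polarBilin Q e₁)
          have e' := Submodule.finrank_le (LinearMap.range (polarBilin Q e₁))
          rw [Module.finrank_self] at e'
          have hne : LinearMap.ker (polarBilin Q e₁) ≠ ⊥ := fun hb => by
            rw [hb, finrank_bot] at e; omega
          obtain ⟨w, hw, hw0⟩ := (Submodule.ne_bot_iff _).mp hne
          exact ⟨w, hw0, hw⟩
        set d := Q e₂ with hd'
        obtain ⟨p, hp⟩ := Forms59.exists_eq_of_binary Q hd haniso (neg_ne_zero.mpr (one_ne_zero (α := F)))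
        let T : F × F →ₗ[F] V :=
          (LinearMap.toSpanSingleton F V e₁).coprod (LinearMap.toSpanSingleton F V e₂)
        have hT : ∀ a b, Q (T (a, b)) = a * a + d * (b * b) := fun a b => by
          show Q (a • e₁ + b • e₂) = _
          rw [form_add, form_smul, form_smul, he₁, polar_smul_left, polar_smul_right, he₂, hd']
          simp
          ring
        have hinj : Function.Injective T := by
          rw [injective_iff_map_eq_zero]
          rintro ⟨a, b⟩ hab
          have hab' : a • e₁ + b • e₂ = 0 := hab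
          have ha : a = 0 := by
            have e0 := congrArg (polar Q e₁) hab'
            rw [polar_add_right, polar_smul_right, polar_smul_right, he₂, polar_self_eq, he₁,
              polar_zero_right] at e0
            simpa [h2] using e0
          rw [ha, zero_smul, zero_add] at hab'
          exact Prod.ext ha ((smul_eq_zero.mp hab').resolve_right he₂0)
        let L : (F × F) ≃ₗ[F] V := LinearEquiv.ofBijective T ⟨hinj,
          (LinearMap.injective_iff_surjective_of_finrank_eq_finrank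
            (by rw [Module.finrank_prod, Module.finrank_self, hd])).mp hinj⟩
        obtain ⟨⟨α, β⟩, rfl⟩ := L.surjective p
        have hp' : α * α + d * (β * β) = -1 := (hT α β).symm.trans hp
        let A : F × F →ₗ[F] F × F :=
          { toFun := fun q => (q.1 * α - q.2 * β * d, q.1 * β + q.2 * α)
            map_add' := fun q q' => by
              refine Prod.ext ?_ ?_ <;> simp <;> ring
            map_smul' := fun c q => by
              refine Prod.ext ?_ ?_ <;> simp <;> ring }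
        refine ⟨T.comp (A.comp L.symm.toLinearMap), fun x => ?_⟩
        obtain ⟨⟨a, b⟩, rfl⟩ := L.surjective x
        show Q (T (A (L.symm (L (a, b))))) = -Q (T (a, b))
        rw [LinearEquiv.symm_apply_apply, hT a b]
        show Q (T (a * α - b * β * d, a * β + b * α)) = _
        rw [hT]
        linear_combination (a * a + d * (b * b)) * hp'
      · obtain ⟨x, -, hx0, hx⟩ := exists_singular_mem (Q := Q) ⊤ (by rw [finrank_top]; omega)
        exact absurd (haniso x hx) hx0
    simp only [not_forall] at haniso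
    obtain ⟨a, ha, ha0⟩ := haniso
    obtain ⟨b, hb, hab⟩ := exists_pair hQ.nonsing ha ha0
    have hd := finrank_perp₂ ha hb hab
    obtain ⟨e⟩ := exists_split ha hb hab
    obtain ⟨φ, hφ⟩ := ih _ (by omega : Module.finrank F (perp₂ Q a b) < n)
      (Q.comp (perp₂ Q a b).subtype) rfl (by
        obtain ⟨j, hj⟩ := hev; exact ⟨j - 1, by omega⟩) (polarND_perp₂ hQ ha hb hab)
    let ψ : (F × F) × perp₂ Q a b →ₗ[F] (F × F) × perp₂ Q a b :=
      ((LinearMap.fst F F F).prod (-LinearMap.snd F F F)).prodMap φ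
    refine ⟨e.toLinearEquiv.symm.toLinearMap.comp (ψ.comp e.toLinearEquiv.toLinearMap),
      fun x => ?_⟩
    show Q (e.toLinearEquiv.symm (ψ (e x))) = -Q x
    rw [← e.map_app, ← e.map_app x]
    show hyp _ (e.toLinearEquiv (e.toLinearEquiv.symm (ψ (e x)))) = _
    rw [LinearEquiv.apply_symm_apply]
    obtain ⟨⟨s, t⟩, w⟩ := e x
    simp [ψ, hyp_apply]
    have := hφ w
    simp at this
    rw [this]
    ring

section Mat

variable {ι : Type} [Fintype ι] [DecidableEq ι] {F : Type*} [Field F] [Finite F]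
variable {Q : QuadraticForm F (ι → F)} {W₁ W₂ : Submodule F (ι → F)}

/-- Two isometric halves of even dimension: the space is of plus type. -/
theorem isPlusTypeOn_top (h : IsOrthPair Q W₁ W₂) (hev : Even (Module.finrank F W₁))
    (he : Geo.AreIsometricFor ⇑Q W₁ W₂) : Geo.IsPlusTypeOn ⇑Q ⊤ := by
  obtain ⟨e, he⟩ := he
  obtain ⟨φ, hφ⟩ := exists_neg_similar_aux _ (Q.comp W₁.subtype) rfl hev h.polarND_restrict
  let L : W₁ →ₗ[F] (ι → F) := W₁.subtype + W₂.subtype.comp (e.toLinearMap.comp φ)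
  have hL : ∀ x : W₁, L x = (x : ι → F) + (e (φ x) : ι → F) := fun x => rfl
  have hinj : Function.Injective L := by
    rw [injective_iff_map_eq_zero]
    intro x hx
    rw [hL] at hx
    exact Subtype.ext (h.eq_zero x.2 (by
      rw [eq_neg_of_add_eq_zero_left hx]; exact neg_mem (e (φ x)).2))
  refine ⟨LinearMap.range L, le_top, ?_, ?_⟩
  · rintro _ ⟨x, rfl⟩
    have e1 : Q (φ x : ι → F) = -Q (x : ι → F) := hφ x
    rw [hL, form_add, h.orth _ x.2 _ (e (φ x)).2, he, e1]
    ring
  · rw [LinearMap.finrank_range_of_inj hinj, finrank_top,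
      ← Submodule.finrank_add_eq_of_isCompl h.compl, ← e.finrank_eq]
    omega

theorem IsOrthPair.isNondegenerateOn (h : IsOrthPair Q W₁ W₂) :
    Geo.IsNondegenerateOn (polar ⇑Q) W₁ := by
  intro w hw hw0
  suffices ∃ x ∈ W₁, polar Q w x ≠ 0 by
    obtain ⟨x, hx, hne⟩ := this
    exact ⟨⟨x, hx, by rwa [polar_comm]⟩, x, hx, hne⟩
  by_contra hc
  simp only [not_exists, not_and, not_not] at hc
  refine hw0 (congrArg Subtype.val (h.polarND_restrict ⟨w, hw⟩ fun x => ?_))
  simpa [polar] using hc x x.2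

/-- A map of one half into an equidimensional other half gives an isometry. -/
theorem areIsometricFor_of_map (g : orth Q) (hg : ∀ x ∈ W₁, g.1 x ∈ W₂)
    (hd : Module.finrank F W₂ ≤ Module.finrank F W₁) :
    Geo.AreIsometricFor ⇑Q W₁ W₂ ∧ Geo.AreIsometricFor ⇑Q W₂ W₁ := by
  let r : W₁ →ₗ[F] W₂ := g.1.toLinearMap.restrict hg
  have hr : Function.Injective r := fun a b hab =>
    Subtype.ext (g.1.injective (congrArg Subtype.val hab))
  have hdim := le_antisymm (LinearMap.finrank_le_finrank_of_injective hr) hd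
  let e := LinearEquiv.ofBijective r
    ⟨hr, (LinearMap.injective_iff_surjective_of_finrank_eq_finrank hdim).mp hr⟩
  have he : ∀ w : W₁, Q ((e w : W₂) : ι → F) = Q (w : ι → F) := fun w => map_form g (w : ι → F)
  exact ⟨⟨e, he⟩, e.symm, fun w => by rw [← he, LinearEquiv.apply_symm_apply]⟩

/-- The stabiliser in `Ω` of a member of an orthogonal pair is maximal. -/
theorem isMaximalIn_of_orthPair (h : IsOrthPair Q W₁ W₂) (hd : 6 ≤ Module.finrank F W₁)
    (hW₂ : W₂ ≠ ⊥)
    (hex : Nat.card F ≤ 3 → Module.finrank F W₂ = 2 → ∀ x ∈ W₂, Q x = 0 → x = 0)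
    (hns : ∀ g : orth Q, ¬ ∀ x ∈ W₁, g.1 x ∈ W₂) {K : Subgroup (GL ι F)}
    (hK : K ≤ Geo.omegaGL ⇑Q)
    (hKW : ∀ g ∈ Geo.omegaGL ⇑Q,
      g ∈ K ↔ ∀ x ∈ W₁, (g : Matrix ι ι F) *ᵥ x ∈ W₁) :
    Geo.IsMaximalIn (Geo.omegaGL ⇑Q) K := by
  have h5 := five_le h hd
  set ψ := isometryGroupEquiv Q (f := ⇑Q) (fun _ => rfl)
  have hψ : ∀ g₀ x, (ψ g₀).1 x = (g₀.1 : Matrix ι ι F) *ᵥ x := fun g₀ x => rfl
  have hΩ : ∀ g₀, g₀ ∈ Cfsg.Omega F ⇑Q ↔ ψ g₀ ∈ eichGroup Q := by
    intro g₀
    rw [← commutator_eq h.nd h5, commutator_def,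
      ← Subgroup.map_top_of_surjective ψ.toMonoidHom ψ.surjective, ← Subgroup.map_commutator]
    exact (Subgroup.mem_map_iff_mem (f := ψ.toMonoidHom) ψ.injective).symm
  refine ⟨lt_of_le_of_ne hK fun e => ?_, fun M hKM hMΩ => ?_⟩
  · -- an element moving `W₁`
    obtain ⟨d, hdW, hdQ, -, hd0, -⟩ := exists_perp_singular_one h hd 0
    obtain ⟨c, hc, hcd, -⟩ := h.exists_dual (S := ⊥) hdW (by simpa using hd0)
    obtain ⟨z, hz, hz0⟩ := (Submodule.ne_bot_iff _).mp hW₂
    have hdz := h.orth d hdW z hz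
    obtain ⟨g₀, hg₀⟩ := ψ.surjective (eich Q d z)
    have hmem : g₀.1 ∈ Geo.omegaGL ⇑Q :=
      ⟨g₀, (hΩ g₀).mpr (hg₀ ▸ eich_mem_eichGroup _ _), rfl⟩
    have h1 := (hKW _ hmem).mp (by rw [e]; exact hmem) c hc
    rw [← hψ, hg₀, eich_apply hdQ hdz, polar_comm Q d c, hcd, polar_comm Q z c, h.orth c hc z hz]
      at h1
    simp only [one_smul, zero_smul, sub_zero, mul_one] at h1
    refine hz0 (h.eq_zero ?_ hz)
    have h2 := add_mem (sub_mem h1 hc) (W₁.smul_mem (Q z) hdW)
    rwa [show c + z - Q z • d - c + Q z • d = z by abel] at h2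
  · by_cases hMK : M = K
    · exact Or.inl hMK
    obtain ⟨g, hgM, hgK⟩ := SetLike.exists_of_lt (lt_of_le_of_ne hKM (Ne.symm hMK))
    obtain ⟨g₀, -, rfl⟩ := hMΩ hgM
    have hgW : ¬ ∀ x ∈ W₁, (ψ g₀).1 x ∈ W₁ := fun hc => hgK ((hKW _ (hMΩ hgM)).mpr hc)
    let M' : Subgroup (orth Q) := (M.comap (Cfsg.isometryGroup F ⇑Q).subtype).map ψ.toMonoidHom
    have hH : ∀ g ∈ eichGroup Q, (∀ x ∈ W₁, g.1 x ∈ W₁) → g ∈ M' := by
      intro g hg hgs
      obtain ⟨g₁, rfl⟩ := ψ.surjective g
      exact ⟨g₁, hKM ((hKW _ ⟨g₁, (hΩ g₁).mpr hg, rfl⟩).mpr hgs), rfl⟩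
    have hle := eichGroup_le_of_stab h hd hH (fun S hSW hS0 => eq_of_invariant h hex hSW hS0)
      (g := ψ g₀) ⟨g₀, hgM, rfl⟩ hgW (hns _)
    refine Or.inr (le_antisymm hMΩ ?_)
    rintro _ ⟨g₁, hg₁, rfl⟩
    obtain ⟨g₂, hg₂, hgg⟩ := hle ((hΩ g₁).mp hg₁)
    exact (ψ.injective hgg) ▸ hg₂

/-- The stabiliser in `Ω` of a non-degenerate subspace is maximal, one side having dimension
at least six. -/
theorem subspace_isMaximalIn_of_side (hnd : PolarND Q) {W : Submodule F (ι → F)}
    (hW : Geo.IsNondegenerateOn (polar ⇑Q) W) (hW0 : W ≠ ⊥) (hW1 : W ≠ ⊤)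
    (h6 : 6 ≤ Module.finrank F W ∨ Module.finrank F W + 6 ≤ Fintype.card ι)
    (hsame : ∀ W', IsOrthPair Q W W' → Module.finrank F W = Module.finrank F W' →
      ¬ Geo.AreIsometricFor ⇑Q W W')
    (hex : Nat.card F ≤ 3 → ∀ U : Submodule F (ι → F), Module.finrank F U = 2 →
      Geo.IsNondegenerateOn (polar ⇑Q) U → Geo.IsPlusTypeOn ⇑Q U →
      (U = W ∨ (Geo.AreOrthogonalFor (polar ⇑Q) U W ∧
        Module.finrank F U + Module.finrank F W = Fintype.card ι)) → False) :
    Geo.IsMaximalIn (Geo.omegaGL ⇑Q) (Geo.subspaceStabilizer W ⊓ Geo.omegaGL ⇑Q) := by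
  have hf : Geo.IsBilinearForm (polar ⇑Q) :=
    { add_left := polar_add_left Q
      smul_left := fun c x v => by rw [polar_smul_left, smul_eq_mul]
      add_right := fun v x y => polar_add_right Q v x y
      smul_right := fun c v x => by rw [polar_smul_right, smul_eq_mul] }
  have hn : Geo.IsNondegenerateForm (polar ⇑Q) := fun v hv => by
    obtain ⟨x, hx⟩ : ∃ x, polar Q v x ≠ 0 := by
      by_contra hc
      simp only [not_exists, not_not] at hc
      exact hv (hnd v hc)
    exact ⟨⟨x, by rwa [polar_comm]⟩, x, hx⟩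
  set W' := MaxSub.orth hf W
  have hdis : Disjoint W W' := Submodule.disjoint_def.mpr fun v hv hv' => by
    by_contra hne
    obtain ⟨y, hy, hy'⟩ := (hW v hv hne).2
    exact hy' (MaxSub.mem_orth.mp hv' y hy)
  have hp : IsOrthPair Q W W' := by
    refine ⟨hnd, ⟨hdis, codisjoint_iff.mpr (eq_top_iff.mpr fun x _ => ?_)⟩, fun x hx y hy => ?_⟩
    · obtain ⟨a, ha, b, hb, rfl⟩ := MaxSub.exists_orth_decomp hf hn hW x
      exact Submodule.add_mem_sup ha hb
    · rw [polar_comm]; exact MaxSub.mem_orth.mp hy x hx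
  have hsum : Module.finrank F W + Module.finrank F W' = Fintype.card ι := by
    rw [Submodule.finrank_add_eq_of_isCompl hp.compl, Module.finrank_fintype_fun_eq_card]
  have hW'0 : W' ≠ ⊥ := fun e => hW1 (by
    have := hp.compl.sup_eq_top
    rwa [e, sup_bot_eq] at this)
  have hplane : ∀ U V' : Submodule F (ι → F), IsOrthPair Q U V' → Nat.card F ≤ 3 →
      Module.finrank F U = 2 → (U = W ∨ (Geo.AreOrthogonalFor (polar ⇑Q) U W ∧
        Module.finrank F U + Module.finrank F W = Fintype.card ι)) →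
      ∀ x ∈ U, Q x = 0 → x = 0 := fun U V' hUV hc h2 hor x hx hxQ => by
    by_contra hx0
    refine hex hc U h2 hUV.isNondegenerateOn ⟨Submodule.span F {x},
      Submodule.span_le.mpr (Set.singleton_subset_iff.mpr hx), fun w hw => ?_, ?_⟩ hor
    · obtain ⟨r, rfl⟩ := Submodule.mem_span_singleton.mp hw
      rw [form_smul, hxQ, mul_zero]
    · rw [finrank_span_singleton hx0, h2]
  have hiff : ∀ g ∈ Geo.omegaGL ⇑Q,
      g ∈ Geo.subspaceStabilizer W ⊓ Geo.omegaGL ⇑Q ↔
        ∀ x ∈ W, (g : Matrix ι ι F) *ᵥ x ∈ W := fun g hg =>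
    ⟨fun hh x hx => (hh.1 x).mp hx, fun hh => ⟨MaxSub.mem_subspaceStabilizer hh, hg⟩⟩
  rcases le_or_gt (Module.finrank F W') (Module.finrank F W) with hle | hlt
  · refine isMaximalIn_of_orthPair hp (by omega) hW'0 (fun hc h2 => ?_) (fun g hg => ?_)
      inf_le_right hiff
    · exact hplane W' W hp.symm hc h2 (Or.inr
        ⟨fun x hx y hy => hp.symm.orth x hx y hy, by omega⟩)
    · have he := areIsometricFor_of_map g hg hle
      exact hsame W' hp (le_antisymm (by
        obtain ⟨e, -⟩ := he.1; exact e.finrank_eq.le) hle) he.1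
  · refine isMaximalIn_of_orthPair hp.symm (by omega) hW0 (fun hc h2 => ?_) (fun g hg => ?_)
      inf_le_right fun g hg => (hiff g hg).trans ?_
    · exact hplane W W' hp hc h2 (Or.inl rfl)
    · obtain ⟨⟨e, -⟩, -⟩ := areIsometricFor_of_map g hg hlt.le
      have := e.finrank_eq
      omega
    · obtain ⟨g₀, -, rfl⟩ := hg
      exact ⟨fun hh => hp.map_mem₂ (isometryGroupEquiv Q (f := ⇑Q) (fun _ => rfl) g₀) hh,
        fun hh => hp.symm.map_mem₂ (isometryGroupEquiv Q (f := ⇑Q) (fun _ => rfl) g₀) hh⟩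

/-- The stabiliser in `Ω` of a non-degenerate subspace is maximal. -/
theorem subspace_isMaximalIn (hnd : PolarND Q) {W : Submodule F (ι → F)}
    (hW : Geo.IsNondegenerateOn (polar ⇑Q) W) (hW0 : W ≠ ⊥) (hW1 : W ≠ ⊤)
    (h11 : 11 ≤ Fintype.card ι)
    (hsame : ∀ W', IsOrthPair Q W W' → Module.finrank F W = Module.finrank F W' →
      ¬ Geo.AreIsometricFor ⇑Q W W')
    (hex : Nat.card F ≤ 3 → ∀ U : Submodule F (ι → F), Module.finrank F U = 2 →
      Geo.IsNondegenerateOn (polar ⇑Q) U → Geo.IsPlusTypeOn ⇑Q U →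
      (U = W ∨ (Geo.AreOrthogonalFor (polar ⇑Q) U W ∧
        Module.finrank F U + Module.finrank F W = Fintype.card ι)) → False) :
    Geo.IsMaximalIn (Geo.omegaGL ⇑Q) (Geo.subspaceStabilizer W ⊓ Geo.omegaGL ⇑Q) :=
  subspace_isMaximalIn_of_side hnd hW hW0 hW1 (by omega) hsame hex

end Mat

end Cfsg.Agent.OrthStab
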