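import Cfsg.Agent.MaxSub.Alt
import Cfsg.Agent.Lib.Forms.Sesq

/-!
Hermitian forms given as functions: isotropic vectors and unitary transvections (helper97).
-/

set_option autoImplicit false

namespace Cfsg.Agent.MaxSub

open Matrix

variable {ι : Type} [Fintype ι] [DecidableEq ι] {F : Type*} [Field F]
variable {σ : F ≃+* F} {f : (ι → F) → (ι → F) → F}

/-- The unitary transvection `x ↦ x + c f(x,v) v`. -/
noncomputable def ut (f : (ι → F) → (ι → F) → F) (v : ι → F) (c : F) : GL ι F :=
  tv v (c • rep f v)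

variable (hf : Geo.IsUnitaryForm σ f)
include hf

theorem hadd_right (x y z : ι → F) : f x (y + z) = f x y + f x z := by
  rw [hf.herm x (y + z), hf.add_left, map_add, ← hf.herm, ← hf.herm]

theorem hsmul_right (c : F) (x y : ι → F) : f x (c • y) = σ c * f x y := by
  rw [hf.herm x (c • y), hf.smul_left, map_mul, ← hf.herm]

/-- `x ↦ f x v` as a linear map. -/
def hl (v : ι → F) : (ι → F) →ₗ[F] F where
  toFun x := f x v
  map_add' x y := hf.add_left x y v
  map_smul' c x := hf.smul_left c x v

@[simp] theorem hl_apply (v x : ι → F) : hl hf v x = f x v := rfl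

theorem hzero_left (v : ι → F) : f 0 v = 0 := map_zero (hl hf v)

theorem hzero_right (v : ι → F) : f v 0 = 0 := by rw [hf.herm, hzero_left hf, map_zero]

theorem hsub_left (x y v : ι → F) : f (x - y) v = f x v - f y v := map_sub (hl hf v) x y

theorem hsub_right (x y z : ι → F) : f x (y - z) = f x y - f x z := by
  rw [hf.herm x (y - z), hsub_left hf, map_sub, ← hf.herm, ← hf.herm]

theorem hswap_ne_zero {x y : ι → F} (h : f x y ≠ 0) : f y x ≠ 0 := fun h0 =>
  h (by rw [hf.herm, h0, map_zero])

theorem hswap_zero {x y : ι → F} (h : f x y = 0) : f y x = 0 := by rw [hf.herm, h, map_zero]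

theorem hrep_dot (v x : ι → F) : rep f v ⬝ᵥ x = f x v := by
  conv_rhs => rw [← hl_apply hf, pi_eq_sum_univ' x]
  simp only [map_sum, map_smul, smul_eq_mul, dotProduct, mul_comm, hl_apply]
  rfl

theorem hrep_add (v w : ι → F) : rep f (v + w) = rep f v + rep f w :=
  funext fun _ => hadd_right hf _ v w

theorem hrep_smul (c : F) (v : ι → F) : rep f (c • v) = σ c • rep f v :=
  funext fun _ => hsmul_right hf c _ v

theorem hrep_zero : rep f (0 : ι → F) = 0 := funext fun _ => hzero_right hf _

theorem hrep_vecMul_inv {g : GL ι F} (hg : g ∈ isom f) (w : ι → F) :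
    rep f w ᵥ* ((g⁻¹ : GL ι F) : Matrix ι ι F) = rep f ((g : Matrix ι ι F) *ᵥ w) := by
  refine dotProduct_eq _ _ fun x => ?_
  rw [← dotProduct_mulVec, hrep_dot hf, hrep_dot hf]
  conv_rhs => rw [← mulVec_inv_mulVec g x]
  rw [mem_isom.mp hg]

theorem ut_dot {v : ι → F} (hv : f v v = 0) (c : F) : (c • rep f v) ⬝ᵥ v = 0 := by
  rw [smul_dotProduct, hrep_dot hf, hv, smul_zero]

theorem ut_mulVec {v : ι → F} (hv : f v v = 0) (c : F) (x : ι → F) :
    (ut f v c : Matrix ι ι F) *ᵥ x = x + (c * f x v) • v := by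
  rw [ut, tv_mulVec (ut_dot hf hv c), smul_dotProduct, hrep_dot hf, smul_eq_mul]

theorem ut_mem_isom {v : ι → F} (hv : f v v = 0) {c : F} (hc : c + σ c = 0) :
    ut f v c ∈ isom f := by
  intro x y
  show f ((ut f v c : Matrix ι ι F) *ᵥ x) ((ut f v c : Matrix ι ι F) *ᵥ y) = f x y
  rw [ut_mulVec hf hv, ut_mulVec hf hv, hf.add_left, hf.smul_left, hadd_right hf, hadd_right hf,
    hsmul_right hf, hsmul_right hf, hv, map_mul, ← hf.herm v y]
  linear_combination (f x v * f v y) * hc

theorem exists_skew : ∃ c : F, c ≠ 0 ∧ c + σ c = 0 := by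
  obtain ⟨a, ha⟩ : ∃ a, σ a ≠ a := by
    by_contra h
    simp only [not_exists, not_not] at h
    exact hf.ne_refl (RingEquiv.ext h)
  exact ⟨a - σ a, sub_ne_zero.mpr ha.symm, by rw [map_sub, hf.involutive]; ring⟩

theorem exists_trace {r : F} (hr : σ r = r) : ∃ t, t + σ t = r := by
  have hσ : (σ : F →+* F) ≠ RingHom.id F := fun h =>
    hf.ne_refl (RingEquiv.ext fun a => RingHom.congr_fun h a)
  obtain ⟨a, ha⟩ : ∃ a, a + σ a ≠ 0 := by
    by_contra h
    simp only [not_exists, not_not] at h
    have h1 := h 1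
    rw [map_one] at h1
    refine hσ (RingHom.ext fun a => ?_)
    show σ a = a
    linear_combination h a - a * h1
  exact ⟨r * a / (a + σ a), by
    rw [map_div₀, map_mul, map_add, hr, hf.involutive, add_comm (σ a) a, ← add_div, ← mul_add,
      mul_div_assoc, div_self ha, mul_one]⟩

theorem exists_norm [Finite F] {r : F} (hr : σ r = r) : ∃ s, σ s * s = r :=
  Forms.exists_norm_eq (σ := (σ : F →+* F))
    (fun h => hf.ne_refl (RingEquiv.ext fun a => RingHom.congr_fun h a)) hf.involutive hr

/-- A vector with `f z a = 1` that is orthogonal to a subspace not containing `a`. -/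
theorem exists_dual {U : Submodule F (ι → F)} {a : ι → F} (ha : a ∉ U) :
    ∃ z, f z a = 1 ∧ ∀ u ∈ U, f z u = 0 ∧ f u z = 0 := by
  let T : (ι → F) →ₗ[F] (ι → F) :=
    { toFun := fun u i => σ (rep f u i)
      map_add' := fun u w => by funext i; simp [hrep_add hf]
      map_smul' := fun c u => by funext i; simp [hrep_smul hf, hf.involutive] }
  have hT : ∀ u φ, φ ⬝ᵥ T u = f u (fun i => σ (φ i)) := fun u φ => by
    rw [hf.herm u, ← hrep_dot hf, dotProduct, dotProduct, map_sum]
    exact Finset.sum_congr rfl fun i _ => by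
      show φ i * σ (rep f u i) = σ (rep f u i * σ (φ i))
      rw [map_mul, hf.involutive, mul_comm]
  have hinj : Function.Injective T := by
    rw [injective_iff_map_eq_zero]
    intro u hu
    by_contra hu0
    obtain ⟨x, hx⟩ := (hf.nondegenerate u hu0).2
    refine hx ?_
    have h := hT u (fun i => σ (x i))
    simp only [hu, dotProduct_zero, hf.involutive] at h
    exact h.symm
  obtain ⟨φ, hφU, hφa⟩ := exists_annihilator (U := U.map T) (x := T a) fun h => by
    obtain ⟨u, hu, hua⟩ := Submodule.mem_map.mp h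
    exact ha (hinj hua ▸ hu)
  refine ⟨fun i => σ (φ i), ?_, fun u hu => ?_⟩
  · rw [hf.herm, ← hT, hφa, map_one]
  · have h := hφU (T u) (Submodule.mem_map_of_mem hu)
    rw [hT] at h
    exact ⟨hswap_zero hf h, h⟩

/-- A totally isotropic subspace has dimension at most half of the whole. -/
theorem finrank_le_half {K : Submodule F (ι → F)} (hK : ∀ x ∈ K, ∀ y ∈ K, f x y = 0) :
    2 * Module.finrank F K ≤ Fintype.card ι := by
  classical
  let b := Module.finBasis F K
  let Φ : (ι → F) →ₗ[F] (Fin (Module.finrank F K) → F) := LinearMap.pi fun j => hl hf (b j : ι → F)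
  have hsur : LinearMap.range Φ = ⊤ := by
    by_contra h
    obtain ⟨y, -, hy⟩ := SetLike.exists_of_lt (lt_top_iff_ne_top.mpr h)
    obtain ⟨a, haR, hay⟩ := exists_annihilator hy
    have h0 : (∑ j, σ (a j) • (b j : ι → F)) = 0 := by
      by_contra hne
      obtain ⟨x, hx⟩ := (hf.nondegenerate _ hne).1
      refine hx ?_
      rw [hf.herm, ← hl_apply hf, map_sum]
      simp only [map_smul, hl_apply, smul_eq_mul, map_sum, map_mul, hf.involutive]
      have := haR (Φ x) (LinearMap.mem_range_self Φ x)
      simp only [dotProduct, Φ, LinearMap.pi_apply, hl_apply] at this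
      refine this.symm.trans ?_ |>.symm
      exact Finset.sum_congr rfl fun j _ => by rw [← hf.herm]
    have h1 : ∀ j, a j = 0 := fun j => by
      have := Fintype.linearIndependent_iff.mp b.linearIndependent (fun j => σ (a j))
        (Subtype.ext (by simpa using h0)) j
      simpa using congrArg σ this
    simp [dotProduct, h1] at hay
  have hle : K ≤ LinearMap.ker Φ := fun x hx => by
    ext j
    simpa [Φ] using hK x hx _ (b j).2
  have h1 := LinearMap.finrank_range_add_finrank_ker Φ
  rw [hsur] at h1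
  have h2 := Submodule.finrank_mono hle
  simp at h1
  omega

/-- A subspace on which `f(x, x)` vanishes is totally isotropic. -/
theorem totally_isotropic {K : Submodule F (ι → F)} (hK : ∀ x ∈ K, f x x = 0) :
    ∀ x ∈ K, ∀ y ∈ K, f x y = 0 := by
  intro x hx y hy
  by_contra hne
  have key : ∀ c : F, c * f x y + σ (c * f x y) = 0 := fun c => by
    have h := hK (c • x + y) (K.add_mem (K.smul_mem c hx) hy)
    rw [hf.add_left, hadd_right hf, hadd_right hf, hK _ (K.smul_mem c hx), hK _ hy,
      hf.smul_left, hf.herm y (c • x), hf.smul_left] at h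
    simpa using h
  obtain ⟨t, ht⟩ := exists_trace hf (map_one σ)
  have := key (t / f x y)
  rw [div_mul_cancel₀ _ hne, ht] at this
  exact one_ne_zero this

/-- An isotropic vector with prescribed values of few functionals. -/
theorem exists_isotropic [Finite F] {k : ℕ} (L : (ι → F) →ₗ[F] (Fin k → F))
    (hk : 2 * (k + 1) < Fintype.card ι) (z₀ : ι → F) :
    ∃ z, L z = L z₀ ∧ f z z = 0 := by
  let L' : (ι → F) →ₗ[F] (Fin k → F) × F := L.prod (hl hf z₀)
  have hdim : Fintype.card ι ≤ Module.finrank F (LinearMap.ker L') + (k + 1) := by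
    have h := LinearMap.finrank_range_add_finrank_ker L'
    have h' := Submodule.finrank_le (LinearMap.range L')
    simp at h h'
    omega
  obtain ⟨u, hu, hne⟩ : ∃ u ∈ LinearMap.ker L', f u u ≠ 0 := by
    by_contra hc
    simp only [not_exists, not_and, not_not] at hc
    have := finrank_le_half hf (totally_isotropic hf hc)
    omega
  obtain ⟨hu1, hu2⟩ : L u = 0 ∧ f u z₀ = 0 := by simpa [L', Prod.ext_iff] using hu
  have hfix : ∀ v : ι → F, σ (f v v) = f v v := fun v => (hf.herm v v).symm
  obtain ⟨s, hs⟩ := exists_norm hf (r := -f z₀ z₀ / f u u)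
    (by rw [map_div₀, map_neg, hfix, hfix])
  refine ⟨z₀ + s • u, by rw [map_add, map_smul, hu1, smul_zero, add_zero], ?_⟩
  rw [hf.add_left, hadd_right hf, hadd_right hf, hf.smul_left, hsmul_right hf, hf.smul_left,
    hsmul_right hf, hu2, hswap_zero hf hu2]
  field_simp at hs
  linear_combination hs

/-- An isotropic vector whose value at `a` is one and which is orthogonal to `U`. -/
theorem exists_isotropic_dual [Finite F] {U : Submodule F (ι → F)} {a : ι → F} (ha : a ∉ U)
    {k : ℕ} (b : Fin k → (ι → F)) (hb : U = Submodule.span F (Set.range b))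
    (hk : 2 * (k + 2) < Fintype.card ι) :
    ∃ z, f z a = 1 ∧ f z z = 0 ∧ ∀ u ∈ U, f z u = 0 ∧ f u z = 0 := by
  obtain ⟨z₀, hz1, hz2⟩ := exists_dual hf ha
  obtain ⟨z, hz, hzz⟩ := exists_isotropic hf
    (LinearMap.pi (Fin.cons (hl hf a) fun i => hl hf (b i))) hk z₀
  have hbz : ∀ i, f z (b i) = 0 := fun i => by
    have h := congrFun hz i.succ
    simp at h
    rw [h]
    exact (hz2 _ (hb ▸ Submodule.subset_span ⟨i, rfl⟩)).1
  refine ⟨z, by simpa [hz1] using congrFun hz 0, hzz, fun u hu => ?_⟩
  have h0 : f u z = 0 := by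
    have hker : U ≤ LinearMap.ker (hl hf z) := by
      rw [hb, Submodule.span_le]
      rintro _ ⟨i, rfl⟩
      simpa using hswap_zero hf (hbz i)
    simpa using hker hu
  exact ⟨hswap_zero hf h0, h0⟩

end Cfsg.Agent.MaxSub
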