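import Cfsg.Agent.MaxSub.Basic

/-!
Symplectic transvections of an alternating form given as a function (helper97).
-/

set_option autoImplicit false

namespace Cfsg.Agent.MaxSub

open Matrix

section Bil

variable {ι : Type} [Fintype ι] [DecidableEq ι] {F : Type*} [Field F]
variable {f : (ι → F) → (ι → F) → F}

/-- The form is additive in the left argument, hence a sum over coordinates. -/
def lmap (hf : Geo.IsBilinearForm f) (v : ι → F) : (ι → F) →ₗ[F] F where
  toFun x := f x v
  map_add' x y := hf.add_left x y v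
  map_smul' c x := hf.smul_left c x v

/-- The right linear map of a bilinear form. -/
def rmap (hf : Geo.IsBilinearForm f) (u : ι → F) : (ι → F) →ₗ[F] F where
  toFun x := f u x
  map_add' x y := hf.add_right u x y
  map_smul' c x := hf.smul_right c u x

@[simp] theorem lmap_apply (hf : Geo.IsBilinearForm f) (v x : ι → F) : lmap hf v x = f x v := rfl
@[simp] theorem rmap_apply (hf : Geo.IsBilinearForm f) (u x : ι → F) : rmap hf u x = f u x := rfl

/-- The vector representing `x ↦ f x v`. -/
def rep (f : (ι → F) → (ι → F) → F) (v : ι → F) : ι → F := fun i => f (Pi.single i 1) v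

theorem rep_dot (hf : Geo.IsBilinearForm f) (v x : ι → F) : rep f v ⬝ᵥ x = f x v := by
  have h1 : x = ∑ i, x i • (Pi.single i (1 : F) : ι → F) := pi_eq_sum_univ' x
  calc rep f v ⬝ᵥ x = ∑ i, x i * f (Pi.single i 1) v :=
        Finset.sum_congr rfl fun i _ => mul_comm _ _
    _ = lmap hf v (∑ i, x i • (Pi.single i (1 : F) : ι → F)) := by simp [map_sum, hf.smul_left]
    _ = f x v := by rw [← h1]; rfl

theorem rep_add (hf : Geo.IsBilinearForm f) (v w : ι → F) : rep f (v + w) = rep f v + rep f w :=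
  funext fun _ => hf.add_right _ v w

theorem rep_smul (hf : Geo.IsBilinearForm f) (c : F) (v : ι → F) : rep f (c • v) = c • rep f v :=
  funext fun _ => hf.smul_right c _ v

theorem rep_zero (hf : Geo.IsBilinearForm f) : rep f (0 : ι → F) = 0 := by
  simpa using rep_smul hf 0 0

theorem form_zero_left (hf : Geo.IsBilinearForm f) (v : ι → F) : f 0 v = 0 :=
  map_zero (lmap hf v)

theorem form_zero_right (hf : Geo.IsBilinearForm f) (v : ι → F) : f v 0 = 0 :=
  map_zero (rmap hf v)

theorem form_sub_left (hf : Geo.IsBilinearForm f) (x y v : ι → F) : f (x - y) v = f x v - f y v :=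
  map_sub (lmap hf v) x y

theorem form_sub_right (hf : Geo.IsBilinearForm f) (v x y : ι → F) : f v (x - y) = f v x - f v y :=
  map_sub (rmap hf v) x y

theorem form_neg_right (hf : Geo.IsBilinearForm f) (v x : ι → F) : f v (-x) = -f v x :=
  map_neg (rmap hf v) x

theorem rep_ne_zero (hf : Geo.IsBilinearForm f) (hn : Geo.IsNondegenerateForm f) {v : ι → F}
    (hv : v ≠ 0) : rep f v ≠ 0 := fun h => by
  obtain ⟨x, hx⟩ := (hn v hv).1
  exact hx (by rw [← rep_dot hf, h, zero_dotProduct])

theorem exists_rep (hf : Geo.IsBilinearForm f) (hn : Geo.IsNondegenerateForm f) (φ : ι → F) :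
    ∃ v, rep f v = φ := by
  let R : (ι → F) →ₗ[F] (ι → F) :=
    { toFun := rep f, map_add' := rep_add hf, map_smul' := rep_smul hf }
  have hinj : Function.Injective R := fun x y h => by
    by_contra hxy
    apply rep_ne_zero hf hn (sub_ne_zero.mpr hxy)
    simpa [R, sub_eq_zero] using (map_sub R x y).trans (sub_eq_zero.mpr h)
  exact LinearMap.injective_iff_surjective.mp hinj φ

/-- The isometries of a two-argument form. -/
abbrev isom (f : (ι → F) → (ι → F) → F) : Subgroup (GL ι F) := preserving (glToMat ι F) f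

theorem mem_isom {g : GL ι F} :
    g ∈ isom f ↔ ∀ u v, f ((g : Matrix ι ι F) *ᵥ u) ((g : Matrix ι ι F) *ᵥ v) = f u v := Iff.rfl

theorem rep_vecMul_inv (hf : Geo.IsBilinearForm f) {g : GL ι F} (hg : g ∈ isom f) (w : ι → F) :
    rep f w ᵥ* ((g⁻¹ : GL ι F) : Matrix ι ι F) = rep f ((g : Matrix ι ι F) *ᵥ w) := by
  refine dotProduct_eq _ _ fun x => ?_
  rw [← dotProduct_mulVec, rep_dot hf, rep_dot hf]
  conv_rhs => rw [← mulVec_inv_mulVec g x]
  rw [mem_isom.mp hg]

end Bil

section Alt

variable {ι : Type} [Fintype ι] [DecidableEq ι] {F : Type*} [Field F]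
variable {f : (ι → F) → (ι → F) → F}

/-- The symplectic transvection `x ↦ x + c f(x,v) v`. -/
noncomputable def st (f : (ι → F) → (ι → F) → F) (v : ι → F) (c : F) : GL ι F := tv v (c • rep f v)

variable (hf : Geo.IsSymplecticForm f)
include hf

theorem rep_dot_self (v : ι → F) (c : F) : (c • rep f v) ⬝ᵥ v = 0 := by
  rw [smul_dotProduct, rep_dot hf.bilinear, hf.alternating, smul_zero]

theorem st_mulVec (v x : ι → F) (c : F) :
    (st f v c : Matrix ι ι F) *ᵥ x = x + (c * f x v) • v := by
  rw [st, tv_mulVec (rep_dot_self hf v c), smul_dotProduct, rep_dot hf.bilinear, smul_eq_mul]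

theorem st_mem_isom (v : ι → F) (c : F) : st f v c ∈ isom f := by
  intro x y
  show f ((st f v c : Matrix ι ι F) *ᵥ x) ((st f v c : Matrix ι ι F) *ᵥ y) = f x y
  rw [st_mulVec hf, st_mulVec hf, hf.bilinear.add_left, hf.bilinear.smul_left,
    hf.bilinear.add_right, hf.bilinear.add_right, hf.bilinear.smul_right, hf.bilinear.smul_right,
    hf.alternating, hf.skew v y]
  ring

theorem st_conj {g : GL ι F} (hg : g ∈ isom f) (v : ι → F) (c : F) :
    g * st f v c * g⁻¹ = st f ((g : Matrix ι ι F) *ᵥ v) c := by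
  rw [st, tv_conj g (rep_dot_self hf v c), smul_vecMul, rep_vecMul_inv hf.bilinear hg, st]

/-- The vectors all of whose transvections lie in `M`. -/
def centres (f : (ι → F) → (ι → F) → F) (M : Subgroup (GL ι F)) : Set (ι → F) :=
  {v | ∀ c : F, st f v c ∈ M}

theorem smul_mem_centres {M : Subgroup (GL ι F)} {v : ι → F} (h : v ∈ centres f M) (a : F) :
    a • v ∈ centres f M := by
  intro c
  rw [st, rep_smul hf.bilinear, tv_smul_comm a (by simp [rep_dot hf.bilinear, hf.alternating]),
    smul_smul, smul_smul]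
  exact h _

theorem conj_mem_centres {M : Subgroup (GL ι F)} {g : GL ι F} (hg : g ∈ M) (hgi : g ∈ isom f)
    {v : ι → F} (h : v ∈ centres f M) : (g : Matrix ι ι F) *ᵥ v ∈ centres f M := fun c =>
  st_conj hf hgi v c ▸ mul_mem (mul_mem hg (h c)) (inv_mem hg)

theorem add_smul_mem_centres {M : Subgroup (GL ι F)} {v w : ι → F} (hv : v ∈ centres f M)
    (hw : w ∈ centres f M) (h : f v w ≠ 0) (a : F) : v + a • w ∈ centres f M := by
  have := conj_mem_centres hf (hw (a / f v w)) (st_mem_isom hf w _) hv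
  rwa [st_mulVec hf, div_mul_cancel₀ _ h] at this

theorem exists_form_ne_zero_ne_zero {W : Submodule F (ι → F)} {a b : ι → F}
    (ha : ∃ x ∈ W, f a x ≠ 0) (hb : ∃ x ∈ W, f x b ≠ 0) :
    ∃ z ∈ W, f a z ≠ 0 ∧ f z b ≠ 0 := by
  obtain ⟨z, hz, h1, h2⟩ := exists_mem_notMem_notMem (P := W)
    (Q := LinearMap.ker (rmap hf.bilinear a)) (R := LinearMap.ker (lmap hf.bilinear b))
    (by simpa using ha) (by simpa using hb)
  exact ⟨z, hz, by simpa using h1, by simpa using h2⟩

/-- Inside a subspace of centres on which `f` is non-degenerate, the component can be changed. -/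
theorem change_component {M : Subgroup (GL ι F)} {W : Submodule F (ι → F)}
    (hW : ∀ w ∈ W, w ∈ centres f M) (hnd : Geo.IsNondegenerateOn f W) {b : ι → F}
    (hb : ∀ w ∈ W, f b w = 0) {a a' : ι → F} (ha : a ∈ W) (ha0 : a ≠ 0) (ha' : a' ∈ W)
    (ha'0 : a' ≠ 0) (h : a + b ∈ centres f M) : a' + b ∈ centres f M := by
  have step : ∀ a a' : ι → F, a ∈ W → a' ∈ W → f a a' ≠ 0 → a + b ∈ centres f M →
      a' + b ∈ centres f M := by
    intro a a' ha ha' hne h
    have hd : a' - a ∈ W := sub_mem ha' ha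
    have h1 : f (a + b) (a' - a) ≠ 0 := by
      rwa [hf.bilinear.add_left, hb _ hd, add_zero, form_sub_right hf.bilinear, hf.alternating,
        sub_zero]
    have := add_smul_mem_centres hf h (hW _ hd) h1 1
    convert this using 1
    simp [add_comm, add_left_comm]
  obtain ⟨z, hz, h1, h2⟩ := exists_form_ne_zero_ne_zero hf (hnd a ha ha0).2 (hnd a' ha' ha'0).1
  exact step z a' hz ha' h2 (step a z ha hz h1 h)

/-- Transvections are transitive on non-zero vectors. -/
theorem exists_mem_mulVec_eq {M : Subgroup (GL ι F)} (hM : ∀ v c, st f v c ∈ M) {u v : ι → F}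
    (hu : u ≠ 0) (hv : v ≠ 0) :
    ∃ g ∈ M, g ∈ isom f ∧ (g : Matrix ι ι F) *ᵥ u = v := by
  have step : ∀ u v : ι → F, f u v ≠ 0 →
      ∃ g ∈ M, g ∈ isom f ∧ (g : Matrix ι ι F) *ᵥ u = v := by
    intro u v h
    refine ⟨st f (v - u) (f u v)⁻¹, hM _ _, st_mem_isom hf _ _, ?_⟩
    rw [st_mulVec hf, form_sub_right hf.bilinear, hf.alternating, sub_zero, inv_mul_cancel₀ h,
      one_smul, add_sub_cancel]
  obtain ⟨z, -, h1, h2⟩ := exists_form_ne_zero_ne_zero hf (W := ⊤)
    (a := u) (b := v) (by simpa using (hf.nondegenerate u hu).2)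
    (by simpa using (hf.nondegenerate v hv).1)
  obtain ⟨g, hg, hgi, hgu⟩ := step u z h1
  obtain ⟨g', hg', hgi', hgu'⟩ := step z v h2
  exact ⟨g' * g, mul_mem hg' hg, mul_mem hgi' hgi,
    by rw [Units.val_mul, ← mulVec_mulVec, hgu, hgu']⟩

theorem isom_le_of_st_mem [Finite F] {M : Subgroup (GL ι F)} (hM : ∀ v c, st f v c ∈ M) :
    isom f ≤ M := by
  let fx : GL ι F → Set (ι → F) := fun g => {x | (g : Matrix ι ι F) *ᵥ x = x}
  suffices ∀ k, ∀ g ∈ isom f, Nat.card (ι → F) - (fx g).ncard = k → g ∈ M from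
    fun g hg => this _ g hg rfl
  intro k
  induction k using Nat.strong_induction_on with
  | _ k ih =>
    intro g hg hk
    by_cases hg1 : ∀ x, (g : Matrix ι ι F) *ᵥ x = x
    · exact (gl_ext (h := 1) fun x => by simpa using hg1 x) ▸ one_mem M
    simp only [not_forall] at hg1
    obtain ⟨v, hv⟩ := hg1
    -- one step: if `f (h v) v ≠ 0` the fixed set grows
    have key : ∀ h : GL ι F, h ∈ isom f → fx g ⊆ fx h → f ((h : Matrix ι ι F) *ᵥ v) v ≠ 0 →
        h ∈ M := by
      intro h hh hsub hne
      set u := (h : Matrix ι ι F) *ᵥ v with hu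
      let t := st f (v - u) (f u v)⁻¹
      have hth : t * h ∈ isom f := mul_mem (st_mem_isom hf _ _) hh
      have hfix : fx h ⊆ fx (t * h) := by
        intro x hx
        simp only [fx, Set.mem_setOf_eq] at hx ⊢
        rw [Units.val_mul, ← mulVec_mulVec, hx, st_mulVec hf]
        have : f x (v - u) = 0 := by
          rw [form_sub_right hf.bilinear, sub_eq_zero, hu]
          conv_rhs => rw [← hx, mem_isom.mp hh]
        simp [this]
      have hvmem : v ∈ fx (t * h) := by
        show ((t * h : GL ι F) : Matrix ι ι F) *ᵥ v = v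
        rw [Units.val_mul, ← mulVec_mulVec, ← hu, st_mulVec hf, form_sub_right hf.bilinear,
          hf.alternating, sub_zero, inv_mul_cancel₀ hne, one_smul, add_sub_cancel]
      have hvnot : v ∉ fx h := fun hx => hne (by rw [hu, show _ = v from hx, hf.alternating])
      have hlt : (fx g).ncard < (fx (t * h)).ncard :=
        Set.ncard_lt_ncard ⟨hsub.trans hfix, fun hc => hvnot (hsub (hc hvmem))⟩ (Set.toFinite _)
      have hle : (fx (t * h)).ncard ≤ Nat.card (ι → F) := by
        rw [← Set.ncard_univ]; exact Set.ncard_le_ncard (Set.subset_univ _) (Set.toFinite _)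
      have hmem := ih _ (by omega) (t * h) hth rfl
      simpa [t] using mul_mem (inv_mem (hM (v - u) (f u v)⁻¹)) hmem
    by_cases hne : f ((g : Matrix ι ι F) *ᵥ v) v ≠ 0
    · exact key g hg subset_rfl hne
    rw [not_not] at hne
    set u := (g : Matrix ι ι F) *ᵥ v with hu
    let D : (ι → F) →ₗ[F] (ι → F) := Matrix.mulVecLin (g : Matrix ι ι F) - LinearMap.id
    have h1 : ∃ x ∈ LinearMap.range D, f u x ≠ 0 := by
      obtain ⟨y, hy⟩ := (hf.nondegenerate (v - u) (sub_ne_zero.mpr (Ne.symm hv))).2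
      refine ⟨D y, LinearMap.mem_range_self D y, ?_⟩
      simp only [D, LinearMap.sub_apply, Matrix.mulVecLin_apply, LinearMap.id_coe, id_eq]
      rw [form_sub_right hf.bilinear, hu, mem_isom.mp hg, ← form_sub_left hf.bilinear]
      exact hy
    have h2 : ∃ x ∈ LinearMap.range D, f x v ≠ 0 := by
      set w := ((g⁻¹ : GL ι F) : Matrix ι ι F) *ᵥ v with hw
      have hwv : w - v ≠ 0 := sub_ne_zero.mpr fun h => hv <| by
        conv_lhs => rw [hu, ← h, hw, mulVec_inv_mulVec]
      obtain ⟨y, hy⟩ := (hf.nondegenerate (w - v) hwv).1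
      refine ⟨D y, LinearMap.mem_range_self D y, ?_⟩
      simp only [D, LinearMap.sub_apply, Matrix.mulVecLin_apply, LinearMap.id_coe, id_eq]
      rw [form_sub_left hf.bilinear]
      conv => congr; congr; rw [← mulVec_inv_mulVec g v, mem_isom.mp hg]
      rw [← hw, ← form_sub_right hf.bilinear]
      exact hy
    obtain ⟨w, hw, hw1, hw2⟩ := exists_form_ne_zero_ne_zero hf h1 h2
    have hfix : fx g ⊆ fx (st f w 1 * g) := by
      intro x hx
      simp only [fx, Set.mem_setOf_eq] at hx ⊢
      rw [Units.val_mul, ← mulVec_mulVec, hx, st_mulVec hf]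
      obtain ⟨y, rfl⟩ := hw
      simp only [D, LinearMap.sub_apply, Matrix.mulVecLin_apply, LinearMap.id_coe, id_eq]
      have : f x ((g : Matrix ι ι F) *ᵥ y - y) = 0 := by
        rw [form_sub_right hf.bilinear, sub_eq_zero]
        conv_lhs => rw [← hx, mem_isom.mp hg]
      simp [this]
    have hnew : f (((st f w 1 * g : GL ι F) : Matrix ι ι F) *ᵥ v) v ≠ 0 := by
      rw [Units.val_mul, ← mulVec_mulVec, ← hu, st_mulVec hf, hf.bilinear.add_left,
        hf.bilinear.smul_left, hne, zero_add, one_mul]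
      exact mul_ne_zero hw1 hw2
    have := key (st f w 1 * g) (mul_mem (st_mem_isom hf _ _) hg) hfix hnew
    simpa using mul_mem (inv_mem (hM w 1)) this

end Alt

section Std

variable {F : Type*} [Field F]

theorem sympForm_apply (m : ℕ) (u v : Fin m ⊕ Fin m → F) :
    sympForm m F u v = ∑ i : Fin m, (u (Sum.inr i) * v (Sum.inl i) - u (Sum.inl i) * v (Sum.inr i)) := by
  simp [sympForm, Matrix.J, fromBlocks_mulVec, dotProduct, Fintype.sum_sum_type,
    Finset.sum_sub_distrib, neg_mulVec]
  ring

theorem isSymplecticForm_sympForm (m : ℕ) : Geo.IsSymplecticForm (sympForm m F) where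
  bilinear :=
    { add_left := fun x y v => by simp [sympForm, add_dotProduct]
      smul_left := fun c x v => by simp [sympForm, smul_dotProduct]
      add_right := fun v x y => by simp [sympForm, mulVec_add, dotProduct_add]
      smul_right := fun c v x => by simp [sympForm, mulVec_smul, dotProduct_smul] }
  skew v w := by
    rw [sympForm_apply, sympForm_apply, ← Finset.sum_neg_distrib]
    exact Finset.sum_congr rfl fun i _ => by ring
  alternating v := by
    rw [sympForm_apply]
    exact Finset.sum_eq_zero fun i _ => by ring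
  nondegenerate v hv := by
    have h : ∀ u, sympForm m F u v = u ⬝ᵥ (Matrix.J (Fin m) F *ᵥ v) := fun _ => rfl
    have hne : Matrix.J (Fin m) F *ᵥ v ≠ 0 := fun h0 => hv <| by
      have := congrArg (Matrix.J (Fin m) F *ᵥ ·) h0
      simpa [mulVec_mulVec, Matrix.J_squared, neg_mulVec] using this
    obtain ⟨x, hx⟩ := exists_dotProduct_ne_zero hne
    refine ⟨⟨x, by rwa [h, dotProduct_comm]⟩, ⟨x, ?_⟩⟩
    rw [sympForm_apply]
    rw [← neg_ne_zero, ← Finset.sum_neg_distrib]
    rw [dotProduct_comm, ← h, sympForm_apply] at hx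
    convert hx using 3 with i
    ring

theorem spGL_eq_isom (m : ℕ) : spGL m F = isom (sympForm m F) := rfl

end Std

end Cfsg.Agent.MaxSub
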