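import Cfsg.Agent.MaxSub.OrthVector
import Cfsg.Agent.MaxSub.OrthStabGL

/-!
Stabilisers in `Ω` of totally singular subspaces, non-singular vectors and small planes, in the
matrix setting (helper24).
-/

set_option autoImplicit false

namespace Cfsg.Agent.OrthStab

open QuadraticMap Cfsg.Agent.UnitaryOrthogonal Matrix

variable {ι : Type} [Fintype ι] [DecidableEq ι] {F : Type*} [Field F] [Finite F]

omit [DecidableEq ι] [Finite F] in
theorem exists_form {Q : (ι → F) → F} (hQ : Geo.IsNondegenerateQuadraticForm Q) :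
    ∃ Qf : QuadraticForm F (ι → F), Q = ⇑Qf ∧ PolarND Qf := by
  refine ⟨QuadraticMap.ofPolar Q (fun a x => by rw [smul_eq_mul, hQ.smul, _root_.sq])
      hQ.polar_bilinear.add_left
      (fun a x y => by rw [smul_eq_mul]; exact hQ.polar_bilinear.smul_left a x y), rfl,
    fun u hu => ?_⟩
  by_contra h
  obtain ⟨x, hx⟩ := (hQ.nondegenerate u h).2
  exact hx (hu x)

variable {Q : QuadraticForm F (ι → F)}

/-- An isometry as a linear map. -/
noncomputable abbrev toOrth (g₀ : Cfsg.isometryGroup F ⇑Q) : UnitaryOrthogonal.orth Q :=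
  isometryGroupEquiv Q (f := ⇑Q) (fun _ => rfl) g₀

theorem mem_omega_iff (hnd : PolarND Q) (h5 : 5 ≤ Module.finrank F (ι → F))
    (g₀ : Cfsg.isometryGroup F ⇑Q) : g₀ ∈ Cfsg.Omega F ⇑Q ↔ toOrth g₀ ∈ eichGroup Q := by
  set ψ := isometryGroupEquiv Q (f := ⇑Q) (fun _ => rfl)
  rw [← commutator_eq hnd h5, commutator_def,
    ← Subgroup.map_top_of_surjective ψ.toMonoidHom ψ.surjective, ← Subgroup.map_commutator]
  exact (Subgroup.mem_map_iff_mem (f := ψ.toMonoidHom) ψ.injective).symm

theorem exists_lift (hnd : PolarND Q) (h5 : 5 ≤ Module.finrank F (ι → F))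
    {g : UnitaryOrthogonal.orth Q} (hg : g ∈ eichGroup Q) :
    ∃ g₀ : Cfsg.isometryGroup F ⇑Q, g₀.1 ∈ Geo.omegaGL ⇑Q ∧ toOrth g₀ = g := by
  obtain ⟨g₀, rfl⟩ := (isometryGroupEquiv Q (f := ⇑Q) (fun _ => rfl)).surjective g
  exact ⟨g₀, ⟨g₀, (mem_omega_iff hnd h5 g₀).mpr hg, rfl⟩, rfl⟩

theorem mem_stab_iff (g₀ : Cfsg.isometryGroup F ⇑Q) (W : Submodule F (ι → F)) :
    g₀.1 ∈ Geo.subspaceStabilizer W ↔ ∀ x ∈ W, (toOrth g₀).1 x ∈ W :=
  ⟨fun h x hx => (h x).mp hx, fun h => MaxSub.mem_subspaceStabilizer h⟩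

/-- The maximality criterion. -/
theorem isMaximalIn_of_gen (hnd : PolarND Q) (h5 : 5 ≤ Module.finrank F (ι → F))
    (W : Submodule F (ι → F)) (hne : ∃ g ∈ eichGroup Q, ¬ ∀ x ∈ W, g.1 x ∈ W)
    (hgen : ∀ (M : Subgroup (UnitaryOrthogonal.orth Q)) (g : UnitaryOrthogonal.orth Q),
      (∀ h ∈ eichGroup Q, (∀ x ∈ W, h.1 x ∈ W) → h ∈ M) → g ∈ M → (¬ ∀ x ∈ W, g.1 x ∈ W) →
      eichGroup Q ≤ M) :
    Geo.IsMaximalIn (Geo.omegaGL ⇑Q) (Geo.subspaceStabilizer W ⊓ Geo.omegaGL ⇑Q) := by
  refine ⟨lt_of_le_of_ne inf_le_right fun e => ?_, fun M hKM hMΩ => ?_⟩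
  · obtain ⟨g, hg, hgW⟩ := hne
    obtain ⟨g₀, hg₀, rfl⟩ := exists_lift hnd h5 hg
    exact hgW ((mem_stab_iff g₀ W).mp (inf_le_left (a := Geo.subspaceStabilizer W) (e ▸ hg₀)))
  · by_cases hMK : M = Geo.subspaceStabilizer W ⊓ Geo.omegaGL ⇑Q
    · exact Or.inl hMK
    obtain ⟨g, hgM, hgK⟩ := SetLike.exists_of_lt (lt_of_le_of_ne hKM (Ne.symm hMK))
    obtain ⟨g₀, hg₀, rfl⟩ := hMΩ hgM
    let M' : Subgroup (UnitaryOrthogonal.orth Q) := (M.comap (Cfsg.isometryGroup F ⇑Q).subtype).map
      (isometryGroupEquiv Q (f := ⇑Q) (fun _ => rfl)).toMonoidHom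
    have hle := hgen M' (toOrth g₀) (fun h hh hs => by
        obtain ⟨h₀, hh₀, rfl⟩ := exists_lift hnd h5 hh
        exact ⟨h₀, hKM ⟨(mem_stab_iff h₀ W).mpr hs, hh₀⟩, rfl⟩)
      ⟨g₀, hgM, rfl⟩ fun hs => hgK ⟨(mem_stab_iff g₀ W).mpr hs, hMΩ hgM⟩
    refine Or.inr (le_antisymm hMΩ ?_)
    rintro _ ⟨g₁, hg₁, rfl⟩
    obtain ⟨g₂, hg₂, hgg⟩ := hle ((mem_omega_iff hnd h5 g₁).mp hg₁)
    exact ((isometryGroupEquiv Q (f := ⇑Q) (fun _ => rfl)).injective hgg) ▸ hg₂

/-- A stabiliser strictly between a stabiliser and `Ω`. -/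
theorem exists_between (hnd : PolarND Q) (h5 : 5 ≤ Module.finrank F (ι → F))
    (W U : Submodule F (ι → F))
    (hle : ∀ g ∈ eichGroup Q, (∀ x ∈ W, g.1 x ∈ W) → ∀ x ∈ U, g.1 x ∈ U)
    (h1 : ∃ g ∈ eichGroup Q, (∀ x ∈ U, g.1 x ∈ U) ∧ ¬ ∀ x ∈ W, g.1 x ∈ W)
    (h2 : ∃ g ∈ eichGroup Q, ¬ ∀ x ∈ U, g.1 x ∈ U) :
    ∃ K : Subgroup (GL ι F), Geo.subspaceStabilizer W ⊓ Geo.omegaGL ⇑Q < K ∧
      K < Geo.omegaGL ⇑Q := by
  refine ⟨Geo.subspaceStabilizer U ⊓ Geo.omegaGL ⇑Q,
    lt_of_le_not_ge ?_ fun hge => ?_, lt_of_le_not_ge inf_le_right fun hge => ?_⟩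
  · rintro g ⟨hgW, hgΩ⟩
    obtain ⟨g₀, hg₀, rfl⟩ := hgΩ
    exact ⟨(mem_stab_iff g₀ U).mpr (hle _ ((mem_omega_iff hnd h5 g₀).mp hg₀)
      ((mem_stab_iff g₀ W).mp hgW)), g₀, hg₀, rfl⟩
  · obtain ⟨g, hg, hgU, hgW⟩ := h1
    obtain ⟨g₀, hg₀, rfl⟩ := exists_lift hnd h5 hg
    exact hgW ((mem_stab_iff g₀ W).mp (hge ⟨(mem_stab_iff g₀ U).mpr hgU, hg₀⟩).1)
  · obtain ⟨g, hg, hgU⟩ := h2
    obtain ⟨g₀, hg₀, rfl⟩ := exists_lift hnd h5 hg
    exact hgU ((mem_stab_iff g₀ U).mp (hge hg₀).1)

omit [DecidableEq ι] in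
theorem exists_moves (hnd : PolarND Q) (h5 : 5 ≤ Module.finrank F (ι → F))
    {W : Submodule F (ι → F)} (hW : ∀ x ∈ W, Q x = 0) (hW0 : W ≠ ⊥) :
    ∃ g ∈ eichGroup Q, ¬ ∀ x ∈ W, g.1 x ∈ W := by
  obtain ⟨w, hw, hw0⟩ := W.ne_bot_iff.mp hW0
  obtain ⟨f, hf, hwf, -⟩ := exists_partner (S := ⊥) hnd (by simpa using hw0) (hW w hw)
    fun x hx => by rw [(Submodule.mem_bot F).mp hx, polar_zero_right]
  have hf0 : f ≠ 0 := fun e => one_ne_zero (hwf.symm.trans (by rw [e, polar_zero_right]))
  obtain ⟨g, hg, hgw⟩ := exists_eich_map_of_form_eq hnd h5 hw0 hf0 (by rw [hW w hw, hf])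
  exact ⟨g, hg, fun h => one_ne_zero
    (hwf.symm.trans (polar_eq_zero_of_singular hW hw (hgw ▸ h w hw)))⟩

/-- The stabiliser in `Ω` of a totally singular subspace is maximal. -/
theorem singular_isMaximalIn (hnd : PolarND Q) (h5 : 5 ≤ Module.finrank F (ι → F))
    {W : Submodule F (ι → F)} (hW : ∀ x ∈ W, Q x = 0) (hW0 : W ≠ ⊥)
    (hbig : ∀ u, Q u = 0 → u ∉ W → (∀ w ∈ W, polar Q w u = 0) →
      2 * Module.finrank F W + 3 ≤ Module.finrank F (ι → F)) :
    Geo.IsMaximalIn (Geo.omegaGL ⇑Q) (Geo.subspaceStabilizer W ⊓ Geo.omegaGL ⇑Q) :=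
  isMaximalIn_of_gen hnd h5 W (exists_moves hnd h5 hW hW0) fun _ _ hH hg hgW =>
    eichGroup_le_of_singular_stab hnd h5 hW hbig hH hg hgW

/-- In characteristic two, the stabiliser in `Ω` of a non-singular point is maximal. -/
theorem vector_isMaximalIn (hnd : PolarND Q) (h7 : 7 ≤ Module.finrank F (ι → F))
    {v : ι → F} (hv : Q v ≠ 0) :
    Geo.IsMaximalIn (Geo.omegaGL ⇑Q)
      (Geo.subspaceStabilizer (Submodule.span F {v}) ⊓ Geo.omegaGL ⇑Q) := by
  refine isMaximalIn_of_gen hnd (by omega) _ ?_ fun M g hH hg hgW => ?_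
  · have hp : IsOrthPair Q ⊤ ⊥ := ⟨hnd, isCompl_top_bot, fun x _ y hy => by
      rw [(Submodule.mem_bot F).mp hy, polar_zero_right]⟩
    obtain ⟨d, -, hd, hdv, -, hd0, -⟩ := exists_perp_singular hp (by rwa [finrank_top]) v v
    have hdm : d ∉ Submodule.span F {v} := fun hm => by
      obtain ⟨r, rfl⟩ := Submodule.mem_span_singleton.mp hm
      rw [form_smul] at hd
      rcases mul_eq_zero.mp hd with h | h
      · exact hd0 (by rw [mul_self_eq_zero.mp h, zero_smul])
      · exact hv h
    have hQ' : Q (v + d) = Q v := by rw [form_add, hd, polar_comm, hdv, add_zero, add_zero]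
    obtain ⟨g, hg, hgv⟩ := exists_eich_map_of_form_eq hnd (by omega)
      (fun e => hv (by rw [e, QuadraticMap.map_zero]))
      (fun e => hv (by rw [← hQ', e, QuadraticMap.map_zero])) hQ'.symm
    refine ⟨g, hg, fun h => hdm ?_⟩
    have := sub_mem (h v (Submodule.mem_span_singleton_self v))
      (Submodule.mem_span_singleton_self v)
    rwa [hgv, add_sub_cancel_left] at this
  · refine eichGroup_le_of_vector_stab (v := v) hnd h7 (fun h hh hhv => hH h hh fun x hx => ?_) hg
      fun hm => hgW fun x hx => ?_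
    · obtain ⟨r, rfl⟩ := Submodule.mem_span_singleton.mp hx
      rw [map_smul, hhv]; exact hx
    · obtain ⟨r, rfl⟩ := Submodule.mem_span_singleton.mp hx
      rw [map_smul]; exact Submodule.smul_mem _ _ hm

/-- Over at most three elements the stabiliser of a plane with a singular line is not maximal. -/
theorem plane_not_maximal (hnd : PolarND Q) (h7 : 7 ≤ Module.finrank F (ι → F))
    (hq : Nat.card F ≤ 3) {W : Submodule F (ι → F)} (hd : Module.finrank F W = 2)
    (hW : Geo.IsNondegenerateOn (polar ⇑Q) W) (hWp : Geo.IsPlusTypeOn ⇑Q W) :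
    ∃ K : Subgroup (GL ι F), Geo.subspaceStabilizer W ⊓ Geo.omegaGL ⇑Q < K ∧
      K < Geo.omegaGL ⇑Q := by
  classical
  obtain ⟨L, hLW, hLs, hL⟩ := hWp
  obtain ⟨u, huL, hu0⟩ := L.ne_bot_iff.mp fun e => by rw [e, finrank_bot] at hL; omega
  have hu := hLW huL
  have huQ := hLs u huL
  obtain ⟨c, hc, hne⟩ := (hW u hu hu0).2
  -- a singular partner inside `W`
  obtain ⟨c₁, hc₁W, hc₁⟩ : ∃ c₁ ∈ W, polar Q u c₁ = 1 :=
    ⟨(polar Q u c)⁻¹ • c, W.smul_mem _ hc, by
      rw [polar_smul_right, smul_eq_mul, inv_mul_cancel₀ hne]⟩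
  set w := c₁ - Q c₁ • u with hwdef
  have hw : w ∈ W := sub_mem hc₁W (W.smul_mem _ hu)
  have huu : polar Q u u = 0 := by rw [polar_self_eq, huQ, mul_zero]
  have hwQ : Q w = 0 := by
    rw [hwdef, sub_eq_add_neg, ← neg_smul, form_add, form_smul, huQ, polar_smul_right,
      polar_comm Q c₁ u, hc₁, smul_eq_mul]
    ring
  have huw : polar Q u w = 1 := by
    rw [hwdef, polar_sub_right, polar_smul_right, huu, hc₁, smul_zero, sub_zero]
  have hspan : ∀ x ∈ W, ∃ a b : F, a • u + b • w = x := by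
    intro x hx
    refine ⟨polar Q w x, polar Q u x, ?_⟩
    by_contra hne'
    set y := polar Q w x • u + polar Q u x • w - x with hy
    have hyW : y ∈ W := sub_mem (add_mem (W.smul_mem _ hu) (W.smul_mem _ hw)) hx
    have hww : polar Q w w = 0 := by rw [polar_self_eq, hwQ, mul_zero]
    have hyu : polar Q u y = 0 := by
      rw [hy, polar_sub_right, polar_add_right, polar_smul_right, polar_smul_right, huu, huw]
      simp
    have hyw : polar Q w y = 0 := by
      rw [hy, polar_sub_right, polar_add_right, polar_smul_right, polar_smul_right, hww,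
        polar_comm Q w u, huw]
      simp
    have hlt : Submodule.span F (({u, w} : Finset (ι → F)) : Set (ι → F)) = W := by
      refine Submodule.eq_of_le_of_finrank_le (Submodule.span_le.mpr (by
        simp [Set.insert_subset_iff, hu, hw])) ?_
      have hli : LinearIndependent F ![u, w] := by
        rw [LinearIndependent.pair_iff]
        intro a b hab
        have ea := congrArg (polar Q w) hab
        have eb := congrArg (polar Q u) hab
        rw [polar_add_right, polar_smul_right, polar_smul_right, hww, polar_comm Q w u, huw,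
          polar_zero_right] at ea
        rw [polar_add_right, polar_smul_right, polar_smul_right, huu, huw,
          polar_zero_right] at eb
        exact ⟨by simpa using ea, by simpa using eb⟩
      have hr : (({u, w} : Finset (ι → F)) : Set (ι → F)) = Set.range ![u, w] := by
        simp [Matrix.range_cons, Matrix.range_empty, Set.union_singleton, Set.pair_comm]
      rw [hd, hr, finrank_span_eq_card hli]
      simp
    obtain ⟨z, hz, hzne⟩ := (hW y hyW (sub_ne_zero.mpr hne')).2
    rw [← hlt, Finset.coe_insert, Finset.coe_singleton, Submodule.mem_span_pair] at hz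
    obtain ⟨a, b, rfl⟩ := hz
    rw [polar_add_right, polar_smul_right, polar_smul_right, polar_comm Q y u, hyu,
      polar_comm Q y w, hyw] at hzne
    simp at hzne
  set v := u + w with hvdef
  have hvQ : Q v = 1 := by rw [hvdef, form_add, huQ, hwQ, huw]; simp
  haveI := Fintype.ofFinite F
  have hone : ∀ a b : F, a * b = 1 → a = b := by
    intro a b hab
    have ha : a ≠ 0 := fun e => by rw [e, zero_mul] at hab; exact zero_ne_one hab
    rw [Nat.card_eq_fintype_card] at hq
    have hpow := FiniteField.pow_card_sub_one_eq_one a ha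
    have h1 := Fintype.one_lt_card (α := F)
    have hsq : a * a = 1 := by
      obtain h | h : Fintype.card F = 2 ∨ Fintype.card F = 3 := by omega
      · rw [h, pow_one] at hpow; rw [hpow, mul_one]
      · rw [h, pow_two] at hpow; exact hpow
    exact mul_left_cancel₀ ha (hsq.trans hab.symm)
  -- a singular vector orthogonal to `W`
  have hp : IsOrthPair Q ⊤ ⊥ := ⟨hnd, isCompl_top_bot, fun x _ y hy => by
    rw [(Submodule.mem_bot F).mp hy, polar_zero_right]⟩
  obtain ⟨a, -, ha, hau, haw, ha0, hind⟩ := exists_perp_singular hp (by rwa [finrank_top]) u w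
  have hav : polar Q a v = 0 := by rw [hvdef, polar_add_right, hau, haw, add_zero]
  have haW : a ∉ W := fun hm => by
    obtain ⟨r, t, hrt⟩ := hspan a hm
    exact hind r t hrt.symm
  refine exists_between hnd (by omega) W (Submodule.span F {v}) (fun g _ hgW x hx => ?_) ?_ ?_
  · obtain ⟨r, rfl⟩ := Submodule.mem_span_singleton.mp hx
    obtain ⟨p, t, hpt⟩ := hspan _ (hgW v (add_mem hu hw))
    have e : Q (p • u + t • w) = 1 := by rw [hpt, map_form, hvQ]
    rw [form_add, form_smul, form_smul, huQ, hwQ, polar_smul_left, polar_smul_right, huw] at e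
    simp at e
    rw [map_smul, ← hpt, hone p t e, ← smul_add, smul_smul]
    exact Submodule.smul_mem _ _ (Submodule.mem_span_singleton_self v)
  · have hz : polar Q a (u - w) = 0 := by rw [polar_sub_right, hau, haw, sub_zero]
    have hzv : polar Q (u - w) v = 0 := by
      rw [hvdef, polar_sub_left, polar_add_right, polar_add_right, huu, huw, polar_comm Q w u,
        huw, show polar Q w w = 0 by rw [polar_self_eq, hwQ, mul_zero]]
      simp
    refine ⟨eich Q a (u - w), eich_mem_eichGroup _ _, fun x hx => ?_, fun h => haW ?_⟩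
    · obtain ⟨r, rfl⟩ := Submodule.mem_span_singleton.mp hx
      rw [map_smul, eich_apply ha hz, hav, hzv]
      simpa using hx
    · have h1 := h u hu
      rw [eich_apply ha hz, hau, polar_sub_left, huu, polar_comm Q w u, huw] at h1
      simp at h1
      exact (Submodule.add_mem_iff_right W hu).mp h1
  · have hQ' : Q (v + a) = Q v := by rw [form_add, ha, polar_comm Q v a, hav, add_zero, add_zero]
    obtain ⟨g, hg, hgv⟩ := exists_eich_map_of_form_eq hnd (by omega)
      (fun e => one_ne_zero (hvQ.symm.trans (by rw [e, QuadraticMap.map_zero])))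
      (fun e => one_ne_zero (hvQ.symm.trans (by rw [← hQ', e, QuadraticMap.map_zero]))) hQ'.symm
    refine ⟨g, hg, fun h => haW ?_⟩
    have h1 := sub_mem (h v (Submodule.mem_span_singleton_self v))
      (Submodule.mem_span_singleton_self v)
    rw [hgv, add_sub_cancel_left] at h1
    exact (Submodule.span_le.mpr (Set.singleton_subset_iff.mpr (add_mem hu hw))) h1

/-- In plus type the stabiliser of a totally singular subspace one short of a half is not
maximal. -/
theorem submaximal_not_maximal (hnd : PolarND Q) (h5 : 5 ≤ Module.finrank F (ι → F))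
    (hplus : Geo.IsPlusTypeOn ⇑Q ⊤) {W : Submodule F (ι → F)} (hW : ∀ x ∈ W, Q x = 0)
    (hdim : 2 * (Module.finrank F W + 1) = Module.finrank F (ι → F)) :
    ∃ K : Subgroup (GL ι F), Geo.subspaceStabilizer W ⊓ Geo.omegaGL ⇑Q < K ∧
      K < Geo.omegaGL ⇑Q := by
  classical
  obtain ⟨H, -, hHs, hHd⟩ := hplus
  rw [finrank_top] at hHd
  obtain ⟨w, hw, hw0⟩ := W.ne_bot_iff.mp fun e => by rw [e, finrank_bot] at hdim; omega
  -- a half above `W`
  obtain ⟨u, huQ, huW, huP⟩ : ∃ u, Q u = 0 ∧ u ∉ W ∧ ∀ x ∈ W, polar Q x u = 0 := by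
    by_contra hc
    simp only [not_exists, not_and] at hc
    -- the singular part of `H` orthogonal to `W` lies in `W`
    have hle : H ⊓ perpOf Q W ≤ W := fun x hx => by
      by_contra hxW
      exact hc x (hHs x hx.1) hxW fun y hy => by
        rw [polar_comm]; exact mem_perpOf.mp hx.2 y hy
    have hHW : ∀ x ∈ H ⊓ perpOf Q W, x ∈ H ⊓ W := fun x hx => ⟨hx.1, hle hx⟩
    have e1 := finrank_perpOf hnd W
    have e2 := Submodule.finrank_sup_add_finrank_inf_eq H (perpOf Q W)
    have hsup : H ⊔ perpOf Q W ≤ perpOf Q (H ⊓ W) := sup_le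
      (fun x hx => mem_perpOf.mpr fun y hy => polar_eq_zero_of_singular hHs hx hy.1)
      (fun x hx => mem_perpOf.mpr fun y hy => mem_perpOf.mp hx y hy.2)
    have e3 := Submodule.finrank_mono hsup
    have e4 := finrank_perpOf hnd (H ⊓ W)
    have e5 := Submodule.finrank_mono (show H ⊓ perpOf Q W ≤ H ⊓ W from hHW)
    have e6 : Module.finrank F ↥(H ⊓ W) ≤ Module.finrank F W :=
      Submodule.finrank_mono inf_le_right
    omega
  obtain ⟨f, hf, huf, hfW⟩ := exists_partner hnd huW huQ fun x hx => by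
    rw [polar_comm]; exact huP x hx
  set U := W ⊔ Submodule.span F {u}
  set U' := W ⊔ Submodule.span F {f}
  have hUs := singular_sup hW huQ huP
  have hfU : f ∉ U := fun hm => one_ne_zero (huf.symm.trans
    (polar_eq_zero_of_singular hUs (Submodule.mem_sup_right (Submodule.mem_span_singleton_self u))
      hm))
  have hfnW : f ∉ W := fun hm => hfU (Submodule.mem_sup_left hm)
  have hU : IsHalf Q U := ⟨hUs, by rw [finrank_sup_singleton huW]; omega⟩
  have hU' : IsHalf Q U' := ⟨singular_sup hW hf fun x hx => by rw [polar_comm]; exact hfW x hx,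
    by rw [finrank_sup_singleton hfnW]; omega⟩
  -- the perpendicular of `W`
  have hperp : perpOf Q W = U ⊔ Submodule.span F {f} := by
    refine (Submodule.eq_of_le_of_finrank_le (sup_le (sup_le (fun x hx => mem_perpOf.mpr
      fun y hy => polar_eq_zero_of_singular hW hx hy)
      (Submodule.span_le.mpr (Set.singleton_subset_iff.mpr (mem_perpOf.mpr fun y hy => by
        rw [polar_comm]; exact huP y hy))))
      (Submodule.span_le.mpr (Set.singleton_subset_iff.mpr (mem_perpOf.mpr hfW)))) ?_).symm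
    rw [finrank_sup_singleton hfU, finrank_sup_singleton huW]
    have := finrank_perpOf hnd W
    omega
  refine exists_between hnd h5 W U (fun g hg hgW => ?_) ?_ ?_
  · -- the two halves cannot be exchanged
    have hsurj : ∀ y ∈ W, ∃ x ∈ W, g.1 x = y := by
      let r : W →ₗ[F] W := g.1.toLinearMap.restrict hgW
      have hr : Function.Injective r := fun a b hab =>
        Subtype.ext (g.1.injective (congrArg Subtype.val hab))
      intro y hy
      obtain ⟨x, hx⟩ := (LinearMap.injective_iff_surjective.mp hr) ⟨y, hy⟩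
      exact ⟨x, x.2, congrArg Subtype.val hx⟩
    have hgu : g.1 u ∈ perpOf Q W := mem_perpOf.mpr fun y hy => by
      obtain ⟨x, hx, rfl⟩ := hsurj y hy
      rw [map_polar, polar_comm]; exact huP x hx
    rw [hperp] at hgu
    obtain ⟨p, hp, q, hq, hpq⟩ := Submodule.mem_sup.mp hgu
    obtain ⟨s, rfl⟩ := Submodule.mem_span_singleton.mp hq
    obtain ⟨w₁, hw₁, t, ht, rfl⟩ := Submodule.mem_sup.mp hp
    obtain ⟨r, rfl⟩ := Submodule.mem_span_singleton.mp ht
    have e : Q (w₁ + r • u + s • f) = 0 := by rw [hpq, map_form, huQ]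
    rw [form_add, hUs _ hp, form_smul, hf, polar_add_left, polar_smul_right, polar_comm Q w₁ f,
      hfW w₁ hw₁, polar_smul_left, polar_smul_right, huf] at e
    simp at e
    have hmapU : ∀ Z : Submodule F (ι → F), (∀ y ∈ W, y ∈ Z) → g.1 u ∈ Z → ∀ x ∈ U, g.1 x ∈ Z :=
      fun Z hZ hu' x hx => by
        obtain ⟨a, ha, b, hb, rfl⟩ := Submodule.mem_sup.mp hx
        obtain ⟨c, rfl⟩ := Submodule.mem_span_singleton.mp hb
        rw [map_add, map_smul]
        exact add_mem (hZ _ (hgW a ha)) (Z.smul_mem _ hu')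
    rcases e with hr0 | hs0
    · exfalso
      have hUU' : U ⊓ U' = W := by
        refine le_antisymm ?_ (le_inf le_sup_left le_sup_left)
        rintro x ⟨h1, h2⟩
        obtain ⟨a, ha, b, hb, rfl⟩ := Submodule.mem_sup.mp h2
        obtain ⟨c, rfl⟩ := Submodule.mem_span_singleton.mp hb
        by_cases hc0 : c = 0
        · rwa [hc0, zero_smul, add_zero]
        · exact absurd ((Submodule.smul_mem_iff U hc0).mp
            ((Submodule.add_mem_iff_right U (Submodule.mem_sup_left ha)).mp h1)) hfU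
      have hto : ∀ x ∈ U, g.1 x ∈ U' := hmapU U' (fun y hy => Submodule.mem_sup_left hy) (by
        rw [← hpq, hr0, zero_smul, add_zero]
        exact add_mem (Submodule.mem_sup_left hw₁)
          (Submodule.mem_sup_right (Submodule.smul_mem _ _ (Submodule.mem_span_singleton_self f))))
      have hmap : U.map g.1.toLinearMap = U' := by
        refine Submodule.eq_of_le_of_finrank_le ?_ ?_
        · rintro _ ⟨x, hx, rfl⟩; exact hto x hx
        · rw [LinearEquiv.finrank_map_eq g.1 U]
          have h1 := hU.2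
          have h2 := hU'.2
          omega
      have h := cast_finrank_inf_map hnd h5 hg hU hU
      rw [hmap, hUU', inf_idem, finrank_sup_singleton huW] at h
      push_cast at h
      simpa using h
    · intro x hx
      refine hmapU U (fun y hy => Submodule.mem_sup_left hy) ?_ x hx
      rw [← hpq, hs0, zero_smul, add_zero]
      exact hp
  · -- fix the half, move `W`
    have hwu : w ∉ Submodule.span F {u} := fun hm => by
      obtain ⟨r, rfl⟩ := Submodule.mem_span_singleton.mp hm
      exact huW ((Submodule.smul_mem_iff W fun e => hw0 (by rw [e, zero_smul])).mp hw)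
    obtain ⟨z, hzw, hzS⟩ := exists_dual_vec hnd hwu
    have huz : polar Q u z = 0 := by
      rw [polar_comm]; exact hzS u (Submodule.mem_span_singleton_self u)
    have huU : u ∈ U := Submodule.mem_sup_right (Submodule.mem_span_singleton_self u)
    refine ⟨eich Q u z, eich_mem_eichGroup _ _, fun x hx => ?_, fun h => huW ?_⟩
    · rw [eich_apply huQ huz, polar_eq_zero_of_singular hUs huU hx]
      simp only [zero_smul, add_zero, mul_zero, sub_zero]
      exact sub_mem hx (U.smul_mem _ huU)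
    · have h1 := h w hw
      rw [eich_apply huQ huz, polar_comm Q u w, huP w hw, hzw] at h1
      simpa using sub_mem hw h1
  · exact exists_moves hnd h5 hU.1 fun e => hfU (by
      have := hU.2; rw [e, finrank_bot] at this; omega)

end Cfsg.Agent.OrthStab
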