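import Cfsg.Agent.MaxSub.SubfieldTwo

/-!
The symplectic subfield group is maximal in `SU` (helper24).
-/

set_option autoImplicit false

namespace Cfsg.Agent.SubfieldTwo

open Matrix Cfsg.Agent.MaxSub Cfsg.Agent.HermStab

variable {ι : Type} [Fintype ι] [DecidableEq ι] {F : Type*} [Field F] [Finite F]
variable {F₀ : Subfield F} {P : GL ι F} {σ : F ≃+* F} {ε : F}
variable {f : (ι → F) → (ι → F) → F}
variable (hf : Geo.IsUnitaryForm σ f) (hd : IsIndexTwo F₀ σ ε)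
variable (hrat : ∀ x y, Rat F₀ P x → Rat F₀ P y → f x y + σ (f x y) = 0)
include hf hd hrat

omit [Finite F] in
theorem swap_rat {x y : ι → F} (hx : Rat F₀ P x) (hy : Rat F₀ P y) : f y x = -f x y := by
  rw [hf.herm y x]
  linear_combination hrat x y hx hy

omit [Finite F] in
theorem rat_ut {v : ι → F} (hv : Rat F₀ P v) (hvv : f v v = 0) {c : F} (hc : c + σ c = 0)
    {x : ι → F} (hx : Rat F₀ P x) : Rat F₀ P ((ut f v c : Matrix ι ι F) *ᵥ x) := by
  rw [ut_mulVec hf hvv]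
  refine rat_add hx (rat_smul ((hd.mem_iff _).mpr ?_) hv)
  rw [map_mul, eq_neg_of_add_eq_zero_right hc, eq_neg_of_add_eq_zero_right (hrat x v hx hv)]
  ring

variable (halt : ∀ x, Rat F₀ P x → f x x = 0)
include halt

omit [Finite F] in
theorem iso_split {x y : ι → F} (hx : Rat F₀ P x) (hy : Rat F₀ P y)
    (hz : f (x + ε • y) (x + ε • y) = 0) : f x y = 0 := by
  rw [hf.add_left, hadd_right hf, hadd_right hf, hf.smul_left, hsmul_right hf, hf.smul_left,
    hsmul_right hf, halt x hx, halt y hy, swap_rat hf hd hrat hx hy] at hz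
  have : (σ ε - ε) * f x y = 0 := by linear_combination hz
  exact (mul_eq_zero.mp this).resolve_left (sub_ne_zero.mpr hd.eps)

omit [Finite F] in
theorem exists_rat_dual {x y : ι → F} (hx : Rat F₀ P x) (hy : y ∉ Submodule.span F {x}) :
    ∃ z, Rat F₀ P z ∧ f z x = 0 ∧ f z y ≠ 0 := by
  obtain ⟨w, hw, hwx⟩ := exists_dual hf hy
  obtain ⟨a, b, ha, hb, rfl⟩ := exists_rat_split (P := P) hd w
  have h0 := (hwx x (Submodule.mem_span_singleton_self x)).1
  rw [hf.add_left, hf.smul_left] at h0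
  have hz : f a x = 0 ∧ f b x = 0 := by
    have h1 := congrArg σ h0
    rw [map_add, map_mul, map_zero, eq_neg_of_add_eq_zero_right (hrat a x ha hx),
      eq_neg_of_add_eq_zero_right (hrat b x hb hx)] at h1
    have : (σ ε - ε) * f b x = 0 := by linear_combination -h1 - h0
    have hb0 := (mul_eq_zero.mp this).resolve_left (sub_ne_zero.mpr hd.eps)
    exact ⟨by simpa [hb0] using h0, hb0⟩
  by_cases h : f a y = 0
  · refine ⟨b, hb, hz.2, fun h' => one_ne_zero (α := F) ?_⟩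
    rw [← hw, hf.add_left, hf.smul_left, h, h', mul_zero, add_zero]
  · exact ⟨a, ha, hz.1, h⟩

variable {M : Subgroup (GL ι F)} (hC : ∀ v, Rat F₀ P v → Centre σ f M v)
include hC

omit [Finite F] in
theorem one_step {p d : ι → F} (hp : Rat F₀ P p) (hd' : Rat F₀ P d) (h : f p d ≠ 0) :
    ∃ k ∈ M, k ∈ isom f ∧ (∀ x, Rat F₀ P x → Rat F₀ P ((k : Matrix ι ι F) *ᵥ x)) ∧
      (∀ x, f x d = 0 → (k : Matrix ι ι F) *ᵥ x = x) ∧ (k : Matrix ι ι F) *ᵥ p = p + d := by
  have hdd := halt d hd'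
  have hc : (f p d)⁻¹ + σ (f p d)⁻¹ = 0 := by
    rw [map_inv₀, eq_neg_of_add_eq_zero_right (hrat p d hp hd'), inv_neg, add_neg_cancel]
  exact ⟨_, (hC d hd').2 _ hc, ut_mem_isom hf hdd hc, fun x hx => rat_ut hf hd hrat hd' hdd hc hx,
    fun x hx => by rw [ut_mulVec hf hdd, hx, mul_zero, zero_smul, add_zero],
    by rw [ut_mulVec hf hdd, inv_mul_cancel₀ h, one_smul]⟩

omit [Finite F] in
/-- Transitivity on orthogonal independent rational pairs. -/
theorem exists_move_pair {x y x' y' : ι → F} (hx : Rat F₀ P x) (hy : Rat F₀ P y)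
    (hx' : Rat F₀ P x') (hy' : Rat F₀ P y') (hyn : y ∉ Submodule.span F {x})
    (hyn' : y' ∉ Submodule.span F {x'}) (hx0 : x ≠ 0) (hx0' : x' ≠ 0) (h : f x y = 0)
    (h' : f x' y' = 0) :
    ∃ k ∈ M, k ∈ isom f ∧ (k : Matrix ι ι F) *ᵥ x = x' ∧ (k : Matrix ι ι F) *ᵥ y = y' := by
  have both : ∀ a b : ι → F, Rat F₀ P a → Rat F₀ P b → ∀ u, Rat F₀ P u → ∀ u', Rat F₀ P u' →
      f u a ≠ 0 → f u' b ≠ 0 → ∀ z, f a z = 0 → f b z = 0 →
      ∃ e, Rat F₀ P e ∧ f u e ≠ 0 ∧ f u' e ≠ 0 ∧ f e z = 0 := by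
    intro a b ha hb u hu u' hu' h1 h2 z haz hbz
    by_cases h3 : f u b = 0
    · by_cases h4 : f u' a = 0
      · exact ⟨a + b, rat_add ha hb, by rwa [hadd_right hf, h3, add_zero],
          by rwa [hadd_right hf, h4, zero_add], by rw [hf.add_left, haz, hbz, add_zero]⟩
      · exact ⟨a, ha, h1, h4, haz⟩
    · exact ⟨b, hb, h3, h2, hbz⟩
  have pdual : ∀ u : ι → F, u ≠ 0 → ∃ a, Rat F₀ P a ∧ f u a ≠ 0 := by
    intro u hu
    obtain ⟨a, ha, -, hne⟩ := exists_rat_dual hf hd hrat halt (x := 0) rat_zero (y := u) (by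
      simpa using hu)
    exact ⟨a, ha, hswap_ne_zero hf hne⟩
  -- move the first vector
  obtain ⟨k₁, hk₁, hk₁i, hk₁r, hk₁x⟩ : ∃ k ∈ M, k ∈ isom f ∧
      (∀ v, Rat F₀ P v → Rat F₀ P ((k : Matrix ι ι F) *ᵥ v)) ∧
      (k : Matrix ι ι F) *ᵥ x = x' := by
    by_cases hxx : f x x' = 0
    swap
    · obtain ⟨k, hk, hki, hkr, -, hkx⟩ := one_step hf hd hrat halt hC hx (rat_sub hx' hx)
        (by rwa [hsub_right hf, halt x hx, sub_zero])
      exact ⟨k, hk, hki, hkr, by rw [hkx, add_sub_cancel]⟩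
    obtain ⟨a, ha, hxa⟩ := pdual x hx0
    obtain ⟨b, hb, hxb⟩ := pdual x' hx0'
    obtain ⟨e, he, h1, h2, -⟩ := both a b ha hb x hx x' hx' hxa hxb 0 (hzero_right hf a)
      (hzero_right hf b)
    obtain ⟨k, hk, hki, hkr, -, hkx⟩ := one_step hf hd hrat halt hC hx (rat_sub he hx)
      (by rwa [hsub_right hf, halt x hx, sub_zero])
    obtain ⟨l, hl, hli, hlr, -, hlx⟩ := one_step hf hd hrat halt hC he (rat_sub hx' he)
      (by rw [hsub_right hf, halt e he, sub_zero]; exact hswap_ne_zero hf h2)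
    exact ⟨l * k, mul_mem hl hk, mul_mem hli hki, fun v hv => by
      rw [Units.val_mul, ← mulVec_mulVec]; exact hlr _ (hkr v hv),
      by rw [Units.val_mul, ← mulVec_mulVec, hkx, add_sub_cancel, hlx, add_sub_cancel]⟩
  set y₁ := (k₁ : Matrix ι ι F) *ᵥ y with hy₁
  have hy₁r : Rat F₀ P y₁ := hk₁r y hy
  have hy₁x : f y₁ x' = 0 := by
    rw [← hk₁x, hy₁, mem_isom.mp hk₁i]; exact hswap_zero hf h
  have hy₁n : y₁ ∉ Submodule.span F {x'} := fun hm => by
    obtain ⟨r, hr⟩ := Submodule.mem_span_singleton.mp hm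
    refine hyn (Submodule.mem_span_singleton.mpr ⟨r, mulVec_injective k₁ ?_⟩)
    show _ *ᵥ _ = _ *ᵥ _
    rw [mulVec_smul, hk₁x, hr]
  have hy'x : f y' x' = 0 := hswap_zero hf h'
  -- move the second vector
  obtain ⟨k₂, hk₂, hk₂i, hk₂x, hk₂y⟩ : ∃ k ∈ M, k ∈ isom f ∧
      (k : Matrix ι ι F) *ᵥ x' = x' ∧ (k : Matrix ι ι F) *ᵥ y₁ = y' := by
    by_cases hyy : f y₁ y' = 0
    swap
    · obtain ⟨k, hk, hki, -, hkf, hky⟩ := one_step hf hd hrat halt hC hy₁r (rat_sub hy' hy₁r)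
        (by rwa [hsub_right hf, halt _ hy₁r, sub_zero])
      exact ⟨k, hk, hki, hkf x' (by rw [hsub_right hf, h', hswap_zero hf hy₁x, sub_zero]),
        by rw [hky, add_sub_cancel]⟩
    obtain ⟨a, ha, hax, hay⟩ := exists_rat_dual hf hd hrat halt hx' hy₁n
    obtain ⟨b, hb, hbx, hby⟩ := exists_rat_dual hf hd hrat halt hx' hyn'
    obtain ⟨e, he, h1, h2, hex⟩ := both a b ha hb y₁ hy₁r y' hy' (hswap_ne_zero hf hay)
      (hswap_ne_zero hf hby) x' hax hbx
    obtain ⟨k, hk, hki, -, hkf, hky⟩ := one_step hf hd hrat halt hC hy₁r (rat_sub he hy₁r)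
      (by rwa [hsub_right hf, halt _ hy₁r, sub_zero])
    obtain ⟨l, hl, hli, -, hlf, hly⟩ := one_step hf hd hrat halt hC he (rat_sub hy' he)
      (by rw [hsub_right hf, halt e he, sub_zero]; exact hswap_ne_zero hf h2)
    exact ⟨l * k, mul_mem hl hk, mul_mem hli hki,
      by rw [Units.val_mul, ← mulVec_mulVec,
        hkf x' (by rw [hsub_right hf, hswap_zero hf hex, hswap_zero hf hy₁x, sub_zero]),
        hlf x' (by rw [hsub_right hf, h', hswap_zero hf hex, sub_zero])],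
      by rw [Units.val_mul, ← mulVec_mulVec, hky, add_sub_cancel, hly, add_sub_cancel]⟩
  exact ⟨k₂ * k₁, mul_mem hk₂ hk₁, mul_mem hk₂i hk₁i,
    by rw [Units.val_mul, ← mulVec_mulVec, hk₁x, hk₂x],
    by rw [Units.val_mul, ← mulVec_mulVec, ← hy₁, hk₂y]⟩

omit [Finite F] in
/-- One non-rational centre gives all. -/
theorem centre_all {v : ι → F} (hv : Rat F₀ P v) {g : GL ι F} (hg : g ∈ M) (hgi : g ∈ isom f)
    (hne : ∀ (b : F) (w : ι → F), Rat F₀ P w → (g : Matrix ι ι F) *ᵥ v ≠ b • w) :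
    ∀ z, f z z = 0 → Centre σ f M z := by
  intro z hz
  have hcu := centre_map hf (hC v hv) hg hgi
  obtain ⟨x, y, hx, hy, hxy⟩ := exists_rat_split (P := P) hd ((g : Matrix ι ι F) *ᵥ v)
  have hx0 : x ≠ 0 := fun h => hne ε y hy (by rw [← hxy, h, zero_add])
  have hyn : y ∉ Submodule.span F {x} := fun hm => by
    obtain ⟨a, ha⟩ := Submodule.mem_span_singleton.mp hm
    obtain ⟨b, w, hw, e⟩ := smul_of_dependent hd hx hy ha.symm
    exact hne b w hw (hxy.symm.trans e)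
  have hxy0 := iso_split hf hd hrat halt hx hy (by rw [hxy]; exact hcu.1)
  obtain ⟨x', y', hx', hy', rfl⟩ := exists_rat_split (P := P) hd z
  by_cases hx0' : x' = 0
  · rw [hx0', zero_add]; exact centre_smul hf (hC y' hy') ε
  by_cases hyn' : y' ∈ Submodule.span F {x'}
  · obtain ⟨a, ha⟩ := Submodule.mem_span_singleton.mp hyn'
    obtain ⟨b, w, hw, e⟩ := smul_of_dependent hd hx' hy' ha.symm
    rw [e]; exact centre_smul hf (hC w hw) b
  obtain ⟨k, hk, hki, hkx, hky⟩ := exists_move_pair hf hd hrat halt hC hx hy hx' hy' hyn hyn'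
    hx0 hx0' hxy0 (iso_split hf hd hrat halt hx' hy' hz)
  have := centre_map hf hcu hk hki
  rwa [← hxy, mulVec_add, mulVec_smul, hkx, hky] at this

end Cfsg.Agent.SubfieldTwo
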