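import Cfsg.Agent.MaxSub.HermStab

/-!
The standard unitary form: subspace stabilisers are maximal in `SU` (helper24).
-/

set_option autoImplicit false

namespace Cfsg.Agent.HermStab

open Matrix Cfsg.Agent.MaxSub

variable {F : Type*} [Field F] [Fintype F] {n q : ℕ}

theorem exists_setup (hF : Fintype.card F = q ^ 2) :
    ∃ σ : F ≃+* F, (∀ x, σ x = x ^ q) ∧ Geo.IsUnitaryForm σ (hermForm n F q) := by
  refine ⟨{ toFun := Unitary.conjHom hF
            invFun := Unitary.conjHom hF
            left_inv := Unitary.pow_q_pow_q hF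
            right_inv := Unitary.pow_q_pow_q hF
            map_mul' := map_mul _
            map_add' := map_add _ }, fun x => rfl,
    fun h => Unitary.conjHom_ne_id hF (RingHom.ext fun a => RingEquiv.congr_fun h a),
    Unitary.pow_q_pow_q hF, Unitary.herm_add_left, Unitary.herm_smul_left,
    fun v w => (Unitary.herm_swap hF w v), fun v hv => ⟨?_, ?_⟩⟩
  · by_contra hc
    simp only [not_exists, not_not] at hc
    exact hv (Unitary.eq_zero_of_herm hF fun y => (Unitary.herm_eq_zero_comm hF).mpr (hc y))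
  · by_contra hc
    simp only [not_exists, not_not] at hc
    exact hv (Unitary.eq_zero_of_herm hF hc)

theorem su_eq : su (hermForm n F q) = GU n F q ⊓ Geo.specialLinear (Fin n) F := rfl

theorem le_of_centres (hF : Fintype.card F = q ^ 2) {σ : F ≃+* F} (hσ : ∀ x, σ x = x ^ q)
    (hf : Geo.IsUnitaryForm σ (hermForm n F q)) (hn : 4 ≤ n) {M : Subgroup (GL (Fin n) F)}
    (h : ∀ v, hermForm n F q v v = 0 → Centre σ (hermForm n F q) M v) :
    su (hermForm n F q) ≤ M := by
  rw [su_eq]
  refine LagPair.le_of_T_mem hF (by omega) fun v a hv ha => ?_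
  have e : LagPair.T (hermForm n F q) v a = ut (hermForm n F q) v a := gl_ext fun x => by
    rw [LagPair.T_mulVec (LagPair.isPairForm_herm hF) hv, ut_mulVec hf hv]
  rw [e]
  refine (h v hv).2 a ?_
  have : Unitary.conjHom hF a = σ a := by rw [hσ]; rfl
  rw [this] at ha
  linear_combination -ha

theorem singular_isMaximalIn (hF : Fintype.card F = q ^ 2) (hn : 5 ≤ n)
    {W : Submodule F (Fin n → F)} (hW0 : W ≠ ⊥)
    (hW : Geo.IsTotallySingularFor (hermForm n F q) W) :
    Geo.IsMaximalIn (GU n F q ⊓ Geo.specialLinear (Fin n) F)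
      (Geo.subspaceStabilizer W ⊓ (GU n F q ⊓ Geo.specialLinear (Fin n) F)) := by
  obtain ⟨σ, hσ, hf⟩ := exists_setup (n := n) hF
  rw [← su_eq]
  refine isMaximalIn_of inf_le_right ?_ fun M hHM hMG g hg hgH => ?_
  · obtain ⟨e, he, he0⟩ := W.ne_bot_iff.mp hW0
    obtain ⟨z₀, hz₀, -⟩ := exists_dual hf (U := ⊥) (by simpa using he0)
    obtain ⟨z, hz, hzz⟩ := exists_isotropic_coset hf (LinearMap.pi ![hl hf e]) (by simp; omega) z₀
    have hze : hermForm n F q z e = 1 := by simpa [hz₀] using congrFun hz 0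
    obtain ⟨c, hc0, hc⟩ := exists_skew hf
    refine ⟨ut _ z c, ut_mem_su hf hzz hc, fun h => ?_⟩
    have h1 := (h.1 e).mp he
    change (ut (hermForm n F q) z c : Matrix (Fin n) (Fin n) F) *ᵥ e ∈ W at h1
    rw [ut_mulVec hf hzz] at h1
    have h2 := (Submodule.add_mem_iff_right W he).mp h1
    rw [Submodule.smul_mem_iff W (mul_ne_zero hc0
      (hswap_ne_zero hf (by rw [hze]; exact one_ne_zero)))] at h2
    exact one_ne_zero (hze.symm.trans (hW z h2 e he))
  · exact le_of_centres hF hσ hf (by omega) (centre_of_singular_stab hf (by simp; omega) hW hMG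
      (fun k hk hs => hHM ⟨mem_subspaceStabilizer hs, hk⟩) hg
      fun hs => hgH ⟨mem_subspaceStabilizer hs, hMG hg⟩)

theorem nondeg_isMaximalIn (hF : Fintype.card F = q ^ 2) (hn : 6 ≤ n)
    {W : Submodule F (Fin n → F)} (hW0 : W ≠ ⊥)
    (hW : Geo.IsNondegenerateOn (hermForm n F q) W) (hdim : 2 * Module.finrank F W < n) :
    Geo.IsMaximalIn (GU n F q ⊓ Geo.specialLinear (Fin n) F)
      (Geo.subspaceStabilizer W ⊓ (GU n F q ⊓ Geo.specialLinear (Fin n) F)) := by
  obtain ⟨σ, hσ, hf⟩ := exists_setup (n := n) hF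
  rw [← su_eq]
  have hWn : IsNd hf W := fun x hx hall => by
    by_contra hx0
    obtain ⟨y, hy, hy'⟩ := (hW x hx hx0).2
    exact hy' (hall y hy)
  have hsum : n ≤ Module.finrank F W + Module.finrank F (perp hf W) := by
    have h := Submodule.finrank_sup_add_finrank_inf_eq W (perp hf W)
    have htop : W ⊔ perp hf W = ⊤ := eq_top_iff.mpr fun x _ => by
      obtain ⟨p, hp, hxp⟩ := exists_proj hf hWn x
      simpa using Submodule.add_mem_sup hp hxp
    rw [htop, finrank_top, Module.finrank_fintype_fun_eq_card, Fintype.card_fin] at h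
    omega
  have hW'nd : IsNd hf (perp hf W) := fun b hb hall => by
    by_contra hb0
    obtain ⟨y, hy⟩ := (hf.nondegenerate b hb0).2
    obtain ⟨p, hp, hyp⟩ := exists_proj hf hWn y
    rw [← add_sub_cancel p y, hadd_right hf, (mem_perp hf).mp hb p hp, hall _ hyp, add_zero] at hy
    exact hy rfl
  refine isMaximalIn_of inf_le_right ?_ fun M hHM hMG g hg hgH => ?_
  · obtain ⟨a, ha, ha0⟩ := W.ne_bot_iff.mp hW0
    obtain ⟨y, hy, hy0⟩ := (perp hf W).ne_bot_iff.mp fun e => by
      rw [e, finrank_bot] at hsum; omega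
    obtain ⟨z₀, hz₀, hz₀y, -⟩ := exists_dual_in hf hW'nd (S := ⊥) bot_le hy (by simpa using hy0)
    obtain ⟨b, hb, hLb, hbb⟩ := exists_norm_in hf hW'nd (LinearMap.pi ![hl hf y]) (Or.inl (by omega)) hz₀
      (r := -hermForm n F q a a) (by rw [map_neg, ← hf.herm])
    obtain ⟨x, hx, hxa⟩ := (hW a ha ha0).1
    have hiso : hermForm n F q (a + b) (a + b) = 0 := by
      rw [hf.add_left, hadd_right hf, hadd_right hf, (mem_perp hf).mp hb a ha,
        hswap_zero hf ((mem_perp hf).mp hb a ha), hbb]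
      ring
    have hbW : b ∉ W := fun h => by
      have h0 : b = 0 := hWn b h fun w hw => (mem_perp hf).mp hb w hw
      have := congrFun hLb 0
      simp [h0, hzero_left hf, hz₀y] at this
    obtain ⟨c, hc0, hc⟩ := exists_skew hf
    refine ⟨ut _ (a + b) c, ut_mem_su hf hiso hc, fun h => ?_⟩
    have h1 := (h.1 x).mp hx
    change (ut (hermForm n F q) (a + b) c : Matrix (Fin n) (Fin n) F) *ᵥ x ∈ W at h1
    rw [ut_mulVec hf hiso, hadd_right hf, hswap_zero hf ((mem_perp hf).mp hb x hx), add_zero] at h1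
    have h2 := (Submodule.add_mem_iff_right W hx).mp h1
    rw [Submodule.smul_mem_iff W (mul_ne_zero hc0 hxa), Submodule.add_mem_iff_right W ha] at h2
    exact hbW h2
  · exact le_of_centres hF hσ hf (by omega) (centre_of_nondeg_stab hf hWn hW0 (by omega) (by omega)
      hMG (fun k hk hs => hHM ⟨mem_subspaceStabilizer hs, hk⟩) hg
      fun hs => hgH ⟨mem_subspaceStabilizer hs, hMG hg⟩)

end Cfsg.Agent.HermStab
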