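import Mathlib
import Cfsg.Prelude.Def_GeometricClasses
import Cfsg.Agent.Lib.LinearGroup.Generation

/-!
Transvections `x ↦ x + (φ ⬝ x) • v` in `GL ι F` and the dual sets of a subgroup (helper97).
-/

set_option autoImplicit false

namespace Cfsg.Agent.MaxSub

open Matrix
open scoped commutatorElement

variable {ι : Type} [Fintype ι] [DecidableEq ι] {F : Type*} [Field F]

open scoped Classical in
/-- The transvection `x ↦ x + (φ ⬝ x) • v` (when `φ ⬝ v = 0`; the identity otherwise). -/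
noncomputable def tv (v φ : ι → F) : GL ι F :=
  if h : φ ⬝ᵥ v = 0 then
    ⟨1 + vecMulVec v φ, 1 - vecMulVec v φ,
      by rw [mul_sub, mul_one, add_mul, one_mul, vecMulVec_mul_vecMulVec, h]; simp,
      by rw [sub_mul, one_mul, mul_add, mul_one, vecMulVec_mul_vecMulVec, h]; simp⟩
  else 1

theorem tv_coe {v φ : ι → F} (h : φ ⬝ᵥ v = 0) : (tv v φ : Matrix ι ι F) = 1 + vecMulVec v φ := by
  simp [tv, h]

theorem tv_inv_coe {v φ : ι → F} (h : φ ⬝ᵥ v = 0) :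
    ((tv v φ)⁻¹ : GL ι F).1 = 1 - vecMulVec v φ := by
  simp [tv, h]

theorem tv_mulVec {v φ : ι → F} (h : φ ⬝ᵥ v = 0) (x : ι → F) :
    (tv v φ : Matrix ι ι F) *ᵥ x = x + (φ ⬝ᵥ x) • v := by
  rw [tv_coe h, add_mulVec, one_mulVec, vecMulVec_mulVec, op_smul_eq_smul]

theorem gl_ext {g h : GL ι F} (H : ∀ x, (g : Matrix ι ι F) *ᵥ x = (h : Matrix ι ι F) *ᵥ x) :
    g = h :=
  Units.ext (Matrix.ext_iff_mulVec.mpr H)

@[simp] theorem tv_zero_right (v : ι → F) : tv v (0 : ι → F) = 1 :=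
  Units.ext (by rw [tv_coe (zero_dotProduct v)]; simp)

@[simp] theorem tv_zero_left (φ : ι → F) : tv (0 : ι → F) φ = 1 :=
  Units.ext (by rw [tv_coe (dotProduct_zero φ)]; simp)

theorem tv_mul_right {v φ ψ : ι → F} (h : φ ⬝ᵥ v = 0) (h' : ψ ⬝ᵥ v = 0) :
    tv v φ * tv v ψ = tv v (φ + ψ) := by
  refine gl_ext fun x => ?_
  rw [Units.val_mul, ← mulVec_mulVec, tv_mulVec h', tv_mulVec h,
    tv_mulVec (by rw [add_dotProduct, h, h', add_zero])]
  simp [dotProduct_add, add_dotProduct, h]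
  module

theorem tv_mul_left {v w φ : ι → F} (h : φ ⬝ᵥ v = 0) (h' : φ ⬝ᵥ w = 0) :
    tv v φ * tv w φ = tv (v + w) φ := by
  refine gl_ext fun x => ?_
  rw [Units.val_mul, ← mulVec_mulVec, tv_mulVec h', tv_mulVec h,
    tv_mulVec (by rw [dotProduct_add, h, h', add_zero])]
  simp [dotProduct_add, h']
  module

theorem tv_inv {v φ : ι → F} (h : φ ⬝ᵥ v = 0) : (tv v φ)⁻¹ = tv v (-φ) := by
  refine inv_eq_of_mul_eq_one_right ?_
  rw [tv_mul_right h (by rw [neg_dotProduct, h, neg_zero]), add_neg_cancel, tv_zero_right]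

theorem tv_smul_comm {v φ : ι → F} (c : F) (h : φ ⬝ᵥ v = 0) :
    tv (c • v) φ = tv v (c • φ) := by
  refine gl_ext fun x => ?_
  rw [tv_mulVec (by simp [h]), tv_mulVec (by simp [h])]
  simp [smul_smul, mul_comm]

theorem inv_mulVec_mulVec (g : GL ι F) (x : ι → F) :
    ((g⁻¹ : GL ι F) : Matrix ι ι F) *ᵥ ((g : Matrix ι ι F) *ᵥ x) = x := by
  rw [mulVec_mulVec, Units.inv_mul, one_mulVec]

theorem mulVec_inv_mulVec (g : GL ι F) (x : ι → F) :
    (g : Matrix ι ι F) *ᵥ (((g⁻¹ : GL ι F) : Matrix ι ι F) *ᵥ x) = x := by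
  rw [mulVec_mulVec, Units.mul_inv, one_mulVec]

theorem mulVec_injective (g : GL ι F) : Function.Injective ((g : Matrix ι ι F) *ᵥ ·) :=
  fun x y h => by simpa [inv_mulVec_mulVec] using congrArg (((g⁻¹ : GL ι F) : Matrix ι ι F) *ᵥ ·) h

theorem mulVec_ne_zero (g : GL ι F) {v : ι → F} (hv : v ≠ 0) :
    (g : Matrix ι ι F) *ᵥ v ≠ 0 :=
  fun h => hv (mulVec_injective g (by simpa using h))

theorem vecMul_inv_dotProduct (g : GL ι F) (φ x : ι → F) :
    (φ ᵥ* ((g⁻¹ : GL ι F) : Matrix ι ι F)) ⬝ᵥ ((g : Matrix ι ι F) *ᵥ x) = φ ⬝ᵥ x := by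
  rw [← dotProduct_mulVec, inv_mulVec_mulVec]

theorem tv_conj (g : GL ι F) {v φ : ι → F} (h : φ ⬝ᵥ v = 0) :
    g * tv v φ * g⁻¹ =
      tv ((g : Matrix ι ι F) *ᵥ v) (φ ᵥ* ((g⁻¹ : GL ι F) : Matrix ι ι F)) := by
  refine gl_ext fun x => ?_
  rw [Units.val_mul, Units.val_mul, ← mulVec_mulVec, ← mulVec_mulVec, tv_mulVec h,
    tv_mulVec (by rw [vecMul_inv_dotProduct, h]), mulVec_add, mulVec_inv_mulVec, mulVec_smul,
    ← dotProduct_mulVec]

theorem tv_comm {v w φ ψ : ι → F} (hv : φ ⬝ᵥ v = 0) (hw : ψ ⬝ᵥ w = 0) (h : ψ ⬝ᵥ v = 0) :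
    ⁅tv v φ, tv w ψ⁆ = tv v ((φ ⬝ᵥ w) • ψ) := by
  refine gl_ext fun x => ?_
  have hnv : (-φ) ⬝ᵥ v = 0 := by rw [neg_dotProduct, hv, neg_zero]
  have hnw : (-ψ) ⬝ᵥ w = 0 := by rw [neg_dotProduct, hw, neg_zero]
  have hc : ((φ ⬝ᵥ w) • ψ) ⬝ᵥ v = 0 := by rw [smul_dotProduct, h, smul_zero]
  rw [commutatorElement_def, tv_inv hv, tv_inv hw, Units.val_mul, Units.val_mul, Units.val_mul,
    ← mulVec_mulVec, ← mulVec_mulVec, ← mulVec_mulVec]
  simp only [tv_mulVec hnv, tv_mulVec hnw, tv_mulVec hv, tv_mulVec hw, tv_mulVec hc]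
  simp [dotProduct_add, dotProduct_smul, hv, hw, h, smul_smul]
  module

theorem det_tv (v φ : ι → F) : Matrix.GeneralLinearGroup.det (tv v φ) = 1 := by
  by_cases h : φ ⬝ᵥ v = 0
  · refine Units.ext ?_
    rw [Matrix.GeneralLinearGroup.val_det_apply, tv_coe h, vecMulVec_eq Unit,
      det_one_add_replicateCol_mul_replicateRow, h, add_zero, Units.val_one]
  · simp [tv, h]

theorem tv_mem_specialLinear (v φ : ι → F) : tv v φ ∈ Geo.specialLinear ι F :=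
  det_tv v φ

theorem exists_dotProduct_ne_zero {φ : ι → F} (hφ : φ ≠ 0) : ∃ x, φ ⬝ᵥ x ≠ 0 := by
  obtain ⟨i, hi⟩ := Function.ne_iff.mp hφ
  exact ⟨Pi.single i 1, by simpa using hi⟩

/-- A subgroup containing all transvections contains the special linear group. -/
theorem specialLinear_le_of_tv_mem {M : Subgroup (GL ι F)}
    (h : ∀ v φ : ι → F, φ ⬝ᵥ v = 0 → tv v φ ∈ M) : Geo.specialLinear ι F ≤ M := by
  intro g hg
  have hdet : (g : Matrix ι ι F).det = 1 := by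
    have := congrArg Units.val (show Matrix.GeneralLinearGroup.det g = 1 from hg)
    simpa using this
  have htop : M.comap (Matrix.SpecialLinearGroup.toGL (n := ι) (R := F)) = ⊤ := by
    refine LinearGroup.eq_top_of_transvection_mem fun i j hij c => ?_
    have h0 : (c • Pi.single j (1 : F)) ⬝ᵥ Pi.single i (1 : F) = 0 := by simp [hij.symm]
    rw [Subgroup.mem_comap]
    convert h (Pi.single i 1) (c • Pi.single j 1) h0 using 1
    refine Units.ext ?_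
    rw [tv_coe h0]
    simp only [Matrix.SpecialLinearGroup.toGL, MonoidHom.coe_mk, OneHom.coe_mk]
    rw [Matrix.SpecialLinearGroup.transvection_coe, vecMulVec_smul]
    ext a b
    simp [vecMulVec, Matrix.single, Matrix.one_apply, Pi.single_apply]
    grind
  let A : Matrix.SpecialLinearGroup ι F := ⟨(g : Matrix ι ι F), hdet⟩
  have hm : A ∈ M.comap (Matrix.SpecialLinearGroup.toGL (n := ι) (R := F)) :=
    htop ▸ Subgroup.mem_top _
  rw [Subgroup.mem_comap] at hm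
  exact (show Matrix.SpecialLinearGroup.toGL A = g from Units.ext rfl) ▸ hm

/-- The functionals `φ` with `φ ⬝ v = 0` and `tv v φ ∈ M`. -/
def dualSet (M : Subgroup (GL ι F)) (v : ι → F) : AddSubgroup (ι → F) where
  carrier := {φ | φ ⬝ᵥ v = 0 ∧ tv v φ ∈ M}
  zero_mem' := ⟨zero_dotProduct v, by simp [one_mem]⟩
  add_mem' := by
    rintro φ ψ ⟨h1, h2⟩ ⟨h3, h4⟩
    exact ⟨by rw [add_dotProduct, h1, h3, add_zero], tv_mul_right h1 h3 ▸ mul_mem h2 h4⟩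
  neg_mem' := by
    rintro φ ⟨h1, h2⟩
    exact ⟨by rw [neg_dotProduct, h1, neg_zero], tv_inv h1 ▸ inv_mem h2⟩

theorem mem_dualSet {M : Subgroup (GL ι F)} {v φ : ι → F} :
    φ ∈ dualSet M v ↔ φ ⬝ᵥ v = 0 ∧ tv v φ ∈ M := Iff.rfl

/-- The centres `v` with `φ ⬝ v = 0` and `tv v φ ∈ M`. -/
def centreSet (M : Subgroup (GL ι F)) (φ : ι → F) : AddSubgroup (ι → F) where
  carrier := {v | φ ⬝ᵥ v = 0 ∧ tv v φ ∈ M}
  zero_mem' := ⟨dotProduct_zero φ, by simp [one_mem]⟩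
  add_mem' := by
    rintro v w ⟨h1, h2⟩ ⟨h3, h4⟩
    exact ⟨by rw [dotProduct_add, h1, h3, add_zero], tv_mul_left h1 h3 ▸ mul_mem h2 h4⟩
  neg_mem' := by
    rintro v ⟨h1, h2⟩
    refine ⟨by rw [dotProduct_neg, h1, neg_zero], ?_⟩
    rw [← neg_one_smul F v, tv_smul_comm _ h1, neg_one_smul, ← tv_inv h1]
    exact inv_mem h2

theorem mem_centreSet {M : Subgroup (GL ι F)} {v φ : ι → F} :
    v ∈ centreSet M φ ↔ φ ∈ dualSet M v := Iff.rfl

theorem smul_mem_centreSet {M : Subgroup (GL ι F)} {v φ : ι → F} (c : F)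
    (h : c • φ ∈ dualSet M v) (h' : φ ⬝ᵥ v = 0) : c • v ∈ centreSet M φ :=
  ⟨by simp [h'], tv_smul_comm c h' ▸ h.2⟩

theorem conj_mem_dualSet {M : Subgroup (GL ι F)} {g : GL ι F} (hg : g ∈ M) {v φ : ι → F}
    (h : φ ∈ dualSet M v) :
    φ ᵥ* ((g⁻¹ : GL ι F) : Matrix ι ι F) ∈ dualSet M ((g : Matrix ι ι F) *ᵥ v) :=
  ⟨by rw [vecMul_inv_dotProduct, h.1], tv_conj g h.1 ▸ mul_mem (mul_mem hg h.2) (inv_mem hg)⟩

theorem comm_mem_dualSet {M : Subgroup (GL ι F)} {v w φ ψ : ι → F} (hφ : φ ∈ dualSet M v)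
    (hψ : ψ ∈ dualSet M w) (h : ψ ⬝ᵥ v = 0) : (φ ⬝ᵥ w) • ψ ∈ dualSet M v :=
  ⟨by simp [h], tv_comm hφ.1 hψ.1 h ▸ mul_mem (mul_mem (mul_mem hφ.2 hψ.2) (inv_mem hφ.2)) (inv_mem hψ.2)⟩

/-- An additive subgroup containing the complement of a proper subgroup of `P` contains `P`. -/
theorem addSubgroup_le_of_diff {A : Type*} [AddGroup A] {P Q D : AddSubgroup A}
    (hne : ∃ x ∈ P, x ∉ Q) (h : ∀ x ∈ P, x ∉ Q → x ∈ D) : P ≤ D := by
  intro x hx
  by_cases hxQ : x ∈ Q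
  · obtain ⟨y, hy, hyQ⟩ := hne
    have h1 : x + y ∈ D := h _ (add_mem hx hy) fun h' => hyQ <| by
      simpa using add_mem (neg_mem hxQ) h'
    simpa using add_mem h1 (neg_mem (h y hy hyQ))
  · exact h x hx hxQ

/-- An element of an additive subgroup outside two others, if it is contained in neither. -/
theorem exists_mem_notMem_notMem {A S : Type*} [AddGroup A] [SetLike S A] [AddSubgroupClass S A]
    {P Q R : S} (h1 : ∃ x ∈ P, x ∉ Q) (h2 : ∃ x ∈ P, x ∉ R) : ∃ x ∈ P, x ∉ Q ∧ x ∉ R := by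
  obtain ⟨a, ha, haQ⟩ := h1
  obtain ⟨b, hb, hbR⟩ := h2
  by_cases haR : a ∈ R
  · by_cases hbQ : b ∈ Q
    · refine ⟨a + b, add_mem ha hb, fun h => haQ ?_, fun h => hbR ?_⟩
      · simpa using add_mem h (neg_mem hbQ)
      · simpa using add_mem (neg_mem haR) h
    · exact ⟨b, hb, hbQ, hbR⟩
  · exact ⟨a, ha, haQ, haR⟩

/-- Maximality, from: strictly bigger subgroups of `K` are all of `K`. -/
theorem isMaximalIn_of {G : Type*} [Group G] {K H : Subgroup G} (hle : H ≤ K)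
    (hne : ∃ x ∈ K, x ∉ H)
    (h : ∀ M : Subgroup G, H ≤ M → M ≤ K → ∀ g ∈ M, g ∉ H → K ≤ M) :
    Geo.IsMaximalIn K H := by
  obtain ⟨x, hx, hx'⟩ := hne
  refine ⟨lt_of_le_of_ne hle fun he => hx' (he ▸ hx), fun M hHM hMK => ?_⟩
  by_cases hMH : M ≤ H
  · exact Or.inl (le_antisymm hMH hHM)
  · obtain ⟨g, hg, hgH⟩ := SetLike.not_le_iff_exists.mp hMH
    exact Or.inr (le_antisymm hMK (h M hHM hMK g hg hgH))

end Cfsg.Agent.MaxSub

namespace Cfsg.Agent.MaxSub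

open Matrix

/-- A functional vector vanishing on a subspace and equal to one at a vector outside it. -/
theorem exists_annihilator {ι : Type} [Fintype ι] [DecidableEq ι] {F : Type*} [Field F]
    {U : Submodule F (ι → F)} {x : ι → F} (hx : x ∉ U) :
    ∃ φ : ι → F, (∀ u ∈ U, φ ⬝ᵥ u = 0) ∧ φ ⬝ᵥ x = 1 := by
  obtain ⟨ξ, hξ, hU⟩ := U.exists_dual_map_eq_bot_of_notMem hx inferInstance
  refine ⟨(ξ x)⁻¹ • fun i => ξ (Pi.single i 1), ?_⟩
  have h : ∀ y, (fun i => ξ (Pi.single i 1)) ⬝ᵥ y = ξ y := fun y => by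
    conv_rhs => rw [pi_eq_sum_univ' y]
    simp only [map_sum, map_smul, smul_eq_mul, dotProduct, mul_comm]
  refine ⟨fun u hu => ?_, by rw [smul_dotProduct, h, smul_eq_mul, inv_mul_cancel₀ hξ]⟩
  rw [smul_dotProduct, h, (Submodule.eq_bot_iff _).mp hU (ξ u) ⟨u, hu, rfl⟩, smul_zero]

end Cfsg.Agent.MaxSub
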