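import Cfsg.Agent.MaxSub.Lagrangian
import Cfsg.Agent.Lib.Unitary.Generation
import Cfsg.Prelude.Def_GeometricClasses

/-!
The standard unitary form as a pair form, and generation of `GU ⊓ SL` by transvections in the
general linear group (helper24).
-/

set_option autoImplicit false

namespace Cfsg.Agent.LagPair

open Matrix Cfsg.Agent.MaxSub

variable {F : Type*} [Field F] [Fintype F] {n q : ℕ} (hF : Fintype.card F = q ^ 2)
include hF

theorem isPairForm_herm : IsPairForm (Unitary.conjHom hF) (-1 : F) (hermForm n F q) where
  add_left := Unitary.herm_add_left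
  smul_left := Unitary.herm_smul_left
  add_right := Unitary.herm_add_right hF
  smul_right := Unitary.herm_smul_right hF
  invol := Unitary.pow_q_pow_q hF
  c_sq := by ring
  map_c := by rw [map_neg, map_one]
  swap x y := by
    rw [neg_neg, one_mul, Unitary.conjHom_apply]
    exact (Unitary.herm_swap hF y x).symm
  nondeg v hv := Unitary.eq_zero_of_herm hF fun y => (Unitary.herm_eq_zero_comm hF).mpr (hv y)

theorem exists_skew_ne_zero :
    ∃ θ : F, θ ≠ 0 ∧ (-1 : F) * Unitary.conjHom hF θ = θ := by
  obtain ⟨a, ha⟩ : ∃ a, Unitary.conjHom hF a ≠ a := by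
    by_contra h
    simp only [not_exists, not_not] at h
    exact Unitary.conjHom_ne_id hF (RingHom.ext h)
  refine ⟨a - Unitary.conjHom hF a, sub_ne_zero.mpr ha.symm, ?_⟩
  rw [map_sub, Unitary.conjHom_apply hF (Unitary.conjHom hF a), Unitary.conjHom_apply,
    Unitary.pow_q_pow_q hF]
  ring

theorem exists_skew_eq {a : F} (ha : (-1 : F) * Unitary.conjHom hF a = a) :
    ∃ t, Unitary.conjHom hF t + (-1) * t = a := by
  set s := Unitary.conjHom hF with hs
  have hinv : ∀ x, s (s x) = x := Unitary.pow_q_pow_q hF
  obtain ⟨r, hr⟩ : ∃ r, r + s r ≠ 0 := by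
    by_contra h
    simp only [not_exists, not_not] at h
    refine Unitary.conjHom_ne_id hF (RingHom.ext fun x => ?_)
    have h1 := h 1
    rw [map_one] at h1
    show s x = x
    linear_combination h x - x * h1
  refine ⟨-(a * r) / (r + s r), ?_⟩
  have hsa : s a = -a := by linear_combination (-1 : F) * ha
  rw [map_div₀, map_add, map_neg, map_mul, hinv, hsa, add_comm (s r) r]
  field_simp
  ring

theorem le_of_T_mem (h32 : ¬ (n = 3 ∧ q = 2)) {M : Subgroup (GL (Fin n) F)}
    (hM : ∀ v a, hermForm n F q v v = 0 → (-1 : F) * Unitary.conjHom hF a = a →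
      T (hermForm n F q) v a ∈ M) :
    GU n F q ⊓ Geo.specialLinear (Fin n) F ≤ M := by
  classical
  intro g hg
  have hdet : (g : Matrix (Fin n) (Fin n) F).det = 1 := by
    have := congrArg Units.val (show Matrix.GeneralLinearGroup.det g = 1 from hg.2)
    simpa using this
  let A : SU n F q := ⟨⟨(g : Matrix (Fin n) (Fin n) F), hdet⟩, hg.1⟩
  let φ : SU n F q →* GL (Fin n) F :=
    (Matrix.SpecialLinearGroup.toGL (n := Fin n) (R := F)).comp (SU n F q).subtype
  have hle : Subgroup.closure {A : SU n F q | ∃ (v : Fin n → F) (c : F),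
      Unitary.herm q v v = 0 ∧
      ((A : Matrix.SpecialLinearGroup (Fin n) F) : Matrix (Fin n) (Fin n) F) =
        unitaryTransvection n q v c} ≤ M.comap φ := by
    rw [Subgroup.closure_le]
    rintro B ⟨v, c, hv, hB⟩
    have hf := isPairForm_herm (n := n) hF
    by_cases hv0 : v = 0
    · have : φ B = 1 := Units.ext (hB.trans (by simp [unitaryTransvection, hv0]))
      rw [SetLike.mem_coe, Subgroup.mem_comap, this]
      exact one_mem M
    obtain ⟨x, hx⟩ : ∃ x, hermForm n F q x v ≠ 0 := by
      by_contra h
      simp only [not_exists, not_not] at h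
      exact hv0 (hf.nondeg v h)
    have hBx : ∀ y, ((B : Matrix.SpecialLinearGroup (Fin n) F) : Matrix (Fin n) (Fin n) F) *ᵥ y =
        y + (c * hermForm n F q y v) • v := by
      intro y
      rw [hB, unitaryTransvection, add_mulVec, one_mulVec, smul_mulVec, vecMulVec_mulVec,
        op_smul_eq_smul, smul_smul]
      congr 2
      simp only [hermForm, dotProduct]
      congr 1
      exact Finset.sum_congr rfl fun i _ => mul_comm _ _
    have hc : (-1 : F) * Unitary.conjHom hF c = c := by
      have h := B.2 x x
      change hermForm n F q (((B : Matrix.SpecialLinearGroup (Fin n) F) : Matrix (Fin n) (Fin n) F) *ᵥ x)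
        (((B : Matrix.SpecialLinearGroup (Fin n) F) : Matrix (Fin n) (Fin n) F) *ᵥ x) = _ at h
      rw [hBx, hf.add_left, hf.add_right, hf.add_right, hf.smul_left, hf.smul_left, hf.smul_right,
        hf.smul_right, show hermForm n F q v v = 0 from hv, map_mul] at h
      have hsw := hf.swap v x
      rw [neg_neg, one_mul] at hsw
      rw [← hsw] at h
      have hne : hermForm n F q x v * Unitary.conjHom hF (hermForm n F q x v) ≠ 0 :=
        mul_ne_zero hx ((map_ne_zero _).mpr hx)
      have : (c + Unitary.conjHom hF c) *
          (hermForm n F q x v * Unitary.conjHom hF (hermForm n F q x v)) = 0 := by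
        linear_combination h
      linear_combination (-1 : F) * (mul_eq_zero.mp this).resolve_right hne
    have : φ B = T (hermForm n F q) v c :=
      gl_ext fun y => by rw [T_mulVec hf hv]; exact hBx y
    rw [SetLike.mem_coe, Subgroup.mem_comap, this]
    exact hM v c hv hc
  rw [Unitary.closure_transvections hF h32] at hle
  have : φ A = g := Units.ext rfl
  exact this ▸ hle (Subgroup.mem_top A)

end Cfsg.Agent.LagPair
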