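import Cfsg.Agent.MaxSub.Herm
import Cfsg.Agent.MaxSub.Orth
import Cfsg.Agent.MaxSub.LagrangianHerm

/-!
Stabilisers of totally isotropic and of non-degenerate subspaces in `SU` (helper24).
-/

set_option autoImplicit false

namespace Cfsg.Agent.HermStab

open Matrix Cfsg.Agent.MaxSub

variable {ι : Type} [Fintype ι] [DecidableEq ι] {F : Type*} [Field F] [Finite F]
variable {σ : F ≃+* F} {f : (ι → F) → (ι → F) → F}

/-- `M` contains every transvection centred at the isotropic vector `v`. -/
def Centre (σ : F ≃+* F) (f : (ι → F) → (ι → F) → F) (M : Subgroup (GL ι F)) (v : ι → F) : Prop :=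
  f v v = 0 ∧ ∀ c, c + σ c = 0 → ut f v c ∈ M

/-- The isometries of determinant one. -/
def su (f : (ι → F) → (ι → F) → F) : Subgroup (GL ι F) := isom f ⊓ Geo.specialLinear ι F

/-- `x ↦ x + f(x,u) z - f(x,z) u + b f(x,u) u`. -/
noncomputable def qe (f : (ι → F) → (ι → F) → F) (u z : ι → F) (b : F) : GL ι F :=
  tv z (rep f u) * tv u (b • rep f u - rep f z)

omit [Finite F] in
theorem qe_det (u z : ι → F) (b : F) : qe f u z b ∈ Geo.specialLinear ι F :=
  mul_mem (tv_mem_specialLinear _ _) (tv_mem_specialLinear _ _)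

variable (hf : Geo.IsUnitaryForm σ f)
include hf

omit [Finite F] in
theorem qe_mulVec {u z : ι → F} (hu : f u u = 0) (hzu : f z u = 0) (b : F) (x : ι → F) :
    (qe f u z b : Matrix ι ι F) *ᵥ x = x + f x u • z - f x z • u + (b * f x u) • u := by
  have h1 : rep f u ⬝ᵥ z = 0 := by rw [hrep_dot hf, hzu]
  have h2 : (b • rep f u - rep f z) ⬝ᵥ u = 0 := by
    rw [sub_dotProduct, smul_dotProduct, hrep_dot hf, hrep_dot hf, hu, hswap_zero hf hzu]
    simp
  rw [qe, Units.val_mul, ← mulVec_mulVec, tv_mulVec h2, tv_mulVec h1, hrep_dot hf,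
    sub_dotProduct, smul_dotProduct, hrep_dot hf, hrep_dot hf, hf.add_left, hf.smul_left, hu,
    mul_zero, add_zero, smul_eq_mul]
  module

omit [Finite F] in
theorem qe_mem_su {u z : ι → F} (hu : f u u = 0) (hzu : f z u = 0) {b : F}
    (hb : b + σ b = -f z z) : qe f u z b ∈ su f := by
  refine ⟨fun x y => ?_, qe_det u z b⟩
  have huz := hswap_zero hf hzu
  show f ((qe f u z b : Matrix ι ι F) *ᵥ x) ((qe f u z b : Matrix ι ι F) *ᵥ y) = f x y
  rw [qe_mulVec hf hu hzu, qe_mulVec hf hu hzu]
  simp only [hf.add_left, hf.smul_left, hsub_left hf, hadd_right hf, hsub_right hf,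
    hsmul_right hf, hu, hzu, huz, map_mul, ← hf.herm]
  linear_combination (f x u * f u y) * hb

omit [Finite F] in
theorem ut_mem_su {v : ι → F} (hv : f v v = 0) {c : F} (hc : c + σ c = 0) : ut f v c ∈ su f :=
  ⟨ut_mem_isom hf hv hc, tv_mem_specialLinear _ _⟩

variable {M : Subgroup (GL ι F)}

omit [Finite F] in
theorem centre_smul {v : ι → F} (hv : Centre σ f M v) (r : F) : Centre σ f M (r • v) := by
  refine ⟨by rw [hf.smul_left, hsmul_right hf, hv.1]; simp, fun c hc => ?_⟩
  have e : ut f (r • v) c = ut f v (c * σ r * r) := gl_ext fun x => by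
    rw [ut_mulVec hf (by rw [hf.smul_left, hsmul_right hf, hv.1]; simp), ut_mulVec hf hv.1,
      hsmul_right hf]
    module
  rw [e]
  refine hv.2 _ ?_
  rw [map_mul, map_mul, hf.involutive]
  linear_combination σ r * r * hc

omit [Finite F] in
theorem centre_map {v : ι → F} (hv : Centre σ f M v) {k : GL ι F} (hk : k ∈ M)
    (hki : k ∈ isom f) : Centre σ f M ((k : Matrix ι ι F) *ᵥ v) := by
  refine ⟨(mem_isom.mp hki v v).trans hv.1, fun c hc => ?_⟩
  have e : k * ut f v c * k⁻¹ = ut f ((k : Matrix ι ι F) *ᵥ v) c := by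
    rw [ut, tv_conj k (ut_dot hf hv.1 c), smul_vecMul, hrep_vecMul_inv hf hki, ut]
  rw [← e]
  exact mul_mem (mul_mem hk (hv.2 c hc)) (inv_mem hk)

omit [Finite F] in
theorem centre_zero : Centre σ f M 0 :=
  ⟨hzero_left hf 0, fun c _ => by rw [ut, tv_zero_left]; exact one_mem M⟩

omit [Finite F] in
theorem centre_move {v w : ι → F} (hv : Centre σ f M v) (hw : Centre σ f M w) {c : F}
    (hc : c + σ c = 0) : Centre σ f M (w + (c * f w v) • v) := by
  have := centre_map hf hw (hv.2 c hc) (ut_mem_isom hf hv.1 hc)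
  rwa [ut_mulVec hf hv.1] at this

/-- An isotropic vector in a coset of the common kernel of less than half as many functionals as
the dimension. -/
theorem exists_isotropic_coset {k : ℕ} (L : (ι → F) →ₗ[F] (Fin k → F))
    (hk : 2 * k < Fintype.card ι) (z₀ : ι → F) : ∃ z, L z = L z₀ ∧ f z z = 0 := by
  have hdim : Fintype.card ι ≤ Module.finrank F (LinearMap.ker L) + k := by
    have h := LinearMap.finrank_range_add_finrank_ker L
    have h' := Submodule.finrank_le (LinearMap.range L)
    simp at h h'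
    omega
  obtain ⟨u, hu, hne⟩ : ∃ u ∈ LinearMap.ker L, f u u ≠ 0 := by
    by_contra hc
    simp only [not_exists, not_and, not_not] at hc
    have := finrank_le_half hf (totally_isotropic hf hc)
    omega
  set z₁ := z₀ - (f z₀ u / f u u) • u with hz₁
  have hu2 : f z₁ u = 0 := by rw [hz₁, hsub_left hf, hf.smul_left, div_mul_cancel₀ _ hne, sub_self]
  have hL : L z₁ = L z₀ := by rw [hz₁, map_sub, map_smul, LinearMap.mem_ker.mp hu]; simp
  obtain ⟨s, hs⟩ := exists_norm hf (r := -f z₁ z₁ / f u u)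
    (by rw [map_div₀, map_neg, ← hf.herm, ← hf.herm])
  refine ⟨z₁ + s • u, by rw [map_add, map_smul, LinearMap.mem_ker.mp hu, hL]; simp, ?_⟩
  rw [hf.add_left, hadd_right hf, hadd_right hf, hf.smul_left, hsmul_right hf, hf.smul_left,
    hsmul_right hf, hu2, hswap_zero hf hu2]
  field_simp at hs
  linear_combination hs

/-- A centre `e` with its whole radical and a centre not orthogonal to it give all centres. -/
theorem centre_of_radical (hn : 5 ≤ Fintype.card ι) {e : ι → F} (hce : Centre σ f M e)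
    (hrad : ∀ w b, f w e = 0 → b + σ b = -f w w → qe f e w b ∈ M)
    {y : ι → F} (hyc : Centre σ f M y) (hye : f y e ≠ 0) :
    ∀ v, f v v = 0 → Centre σ f M v := by
  classical
  have hee := hce.1
  -- everything not orthogonal to `e`
  have step : ∀ v, f v v = 0 → f v e ≠ 0 → Centre σ f M v := by
    intro v hv hve
    set y' := (f v e / f y e) • y with hy'
    have hy'c : Centre σ f M y' := centre_smul hf hyc _
    set s := f v e with hs
    have hy'e : f y' e = s := by rw [hy', hf.smul_left, div_mul_cancel₀ _ hye]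
    set w := s⁻¹ • (v - y') with hw
    have hwe : f w e = 0 := by rw [hw, hf.smul_left, hsub_left hf, hy'e, ← hs, sub_self, mul_zero]
    obtain ⟨b, hb⟩ := exists_trace hf (r := -f w w) (by rw [map_neg, ← hf.herm])
    have hk : qe f e w b ∈ M := hrad w b hwe hb
    have h1 := centre_map hf hy'c hk (qe_mem_su hf hee hwe hb).1
    set δ := b * s - f y' w with hδ
    have himg : (qe f e w b : Matrix ι ι F) *ᵥ y' = v + δ • e := by
      rw [qe_mulVec hf hee hwe, hy'e, hδ, hw, smul_smul, mul_inv_cancel₀ hve, one_smul]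
      module
    rw [himg] at h1
    have hv1 := h1.1
    rw [hf.add_left, hadd_right hf, hadd_right hf, hf.smul_left, hsmul_right hf, hf.smul_left,
      hsmul_right hf, hee, hv, ← hs, hf.herm e v, ← hs] at hv1
    have hc : -δ / s + σ (-δ / s) = 0 := by
      have : σ s ≠ 0 := (map_ne_zero σ).mpr hve
      rw [map_div₀, map_neg]
      field_simp
      linear_combination -hv1
    have h2 := centre_move hf hce h1 hc
    rw [hf.add_left, hf.smul_left, hee, mul_zero, add_zero, ← hs, div_mul_cancel₀ _ hve] at h2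
    rwa [neg_smul, add_neg_cancel_right] at h2
  intro v hv
  by_cases hve : f v e ≠ 0
  · exact step v hv hve
  simp only [not_not] at hve
  by_cases hv0 : v = 0
  · rw [hv0]; exact centre_zero hf
  by_cases hvs : v ∈ Submodule.span F {e}
  · obtain ⟨r, rfl⟩ := Submodule.mem_span_singleton.mp hvs
    exact centre_smul hf hce r
  have he0 : e ≠ 0 := fun h => hye (by rw [h, hzero_right hf])
  have hev : e ∉ Submodule.span F {v} := fun h => by
    obtain ⟨r, hr⟩ := Submodule.mem_span_singleton.mp h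
    exact hvs (Submodule.mem_span_singleton.mpr ⟨r⁻¹, by
      rw [← hr, smul_smul, inv_mul_cancel₀ fun h0 => he0 (by rw [← hr, h0, zero_smul]), one_smul]⟩)
  obtain ⟨z₁, hz₁, hz₁e⟩ := exists_dual hf hvs
  obtain ⟨z₂, hz₂, hz₂v⟩ := exists_dual hf hev
  obtain ⟨z, hz, hzz⟩ := exists_isotropic_coset hf
    (LinearMap.pi ![hl hf e, hl hf v]) (by omega) (z₁ + z₂)
  have hze : f z e = 1 := by
    simpa [hf.add_left, hz₂, (hz₁e e (Submodule.mem_span_singleton_self e)).1] using congrFun hz 0
  have hzv : f z v = 1 := by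
    simpa [hf.add_left, hz₁, (hz₂v v (Submodule.mem_span_singleton_self v)).1] using congrFun hz 1
  obtain ⟨c, hc0, hc⟩ := exists_skew hf
  have hzC : Centre σ f M z := step z hzz (by rw [hze]; exact one_ne_zero)
  have hk := hzC.2 c hc
  have hki := ut_mem_isom hf hzz hc
  have h1 := centre_map hf (step _ ((mem_isom.mp hki v v).trans hv) (by
    rw [ut_mulVec hf hzz, hf.add_left, hf.smul_left, hve, zero_add, hze, mul_one]
    exact mul_ne_zero hc0 (hswap_ne_zero hf (by rw [hzv]; exact one_ne_zero))))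
    (inv_mem hk) (inv_mem hki)
  rwa [inv_mulVec_mulVec] at h1

/-! ### Totally isotropic subspaces -/

/-- A subgroup with the stabiliser of a totally isotropic subspace and one more element. -/
theorem centre_of_singular_stab (hn : 5 ≤ Fintype.card ι) {W : Submodule F (ι → F)}
    (hW : ∀ x ∈ W, ∀ y ∈ W, f x y = 0) (hMG : M ≤ su f)
    (hH : ∀ g ∈ su f, (∀ x ∈ W, (g : Matrix ι ι F) *ᵥ x ∈ W) → g ∈ M)
    {g : GL ι F} (hg : g ∈ M) (hgW : ¬ ∀ x ∈ W, (g : Matrix ι ι F) *ᵥ x ∈ W) :
    ∀ v, f v v = 0 → Centre σ f M v := by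
  classical
  have hperp : ∀ v, f v v = 0 → (∀ w ∈ W, f w v = 0) → Centre σ f M v := fun v hv hvW =>
    ⟨hv, fun c hc => hH _ (ut_mem_su hf hv hc) fun x hx => by
      rw [ut_mulVec hf hv, hvW x hx, mul_zero, zero_smul, add_zero]; exact hx⟩
  have hgi : g ∈ isom f := (hMG hg).1
  -- `e ∈ W` and a centre not orthogonal to it
  obtain ⟨e, he, a, ha, hga⟩ :
      ∃ e ∈ W, ∃ a, a ∉ W ∧ (g : Matrix ι ι F) *ᵥ a = e := by
    by_contra hc
    simp only [not_exists, not_and] at hc
    have hinv : ∀ x ∈ W, ((g⁻¹ : GL ι F) : Matrix ι ι F) *ᵥ x ∈ W := fun x hx => by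
      by_contra h; exact hc x hx _ h (mulVec_inv_mulVec g x)
    exact hgW fun x hx => (inv_mem (mem_subspaceStabilizer hinv) x).mp hx |> fun h => by
      simpa using h
  have hee := hW e he e he
  have haa : f a a = 0 := by rw [← mem_isom.mp hgi a a, hga]; exact hee
  obtain ⟨z, hzc, hza⟩ : ∃ z, Centre σ f M z ∧ f z a ≠ 0 := by
    by_cases hc : ∃ w ∈ W, f a w ≠ 0
    · obtain ⟨w, hw, haw⟩ := hc
      exact ⟨w, hperp w (hW w hw w hw) fun x hx => hW x hx w hw, hswap_ne_zero hf haw⟩
    simp only [not_exists, not_and, not_not] at hc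
    obtain ⟨z₀, hz₀, hz₀W⟩ := exists_dual hf ha
    obtain ⟨t, ht⟩ := exists_trace hf (r := -f z₀ z₀) (by rw [map_neg, ← hf.herm])
    refine ⟨z₀ + t • a, hperp _ ?_ fun x hx => ?_, ?_⟩
    · rw [hf.add_left, hadd_right hf, hadd_right hf, hf.smul_left, hsmul_right hf, hf.smul_left,
        hsmul_right hf, haa, hz₀, hf.herm a z₀, hz₀, map_one]
      linear_combination ht
    · rw [hadd_right hf, hsmul_right hf, (hz₀W x hx).2, hswap_zero hf (hc x hx)]
      simp
    · rw [hf.add_left, hf.smul_left, hz₀, haa, mul_zero, add_zero]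
      exact one_ne_zero
  obtain ⟨y, hyc, hye⟩ : ∃ y, Centre σ f M y ∧ f y e ≠ 0 :=
    ⟨_, centre_map hf hzc hg hgi, by rw [← hga, mem_isom.mp hgi]; exact hza⟩
  exact centre_of_radical hf hn (hperp e hee fun x hx => hW x hx e he)
    (fun w b hwe hb => hH _ (qe_mem_su hf hee hwe hb) fun x hx => by
      rw [qe_mulVec hf hee hwe, hW x hx e he, zero_smul, add_zero, mul_zero, zero_smul, add_zero]
      exact sub_mem hx (W.smul_mem _ he)) hyc hye

/-! ### Non-degenerate subspaces -/

omit [Finite F] in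
/-- The vectors orthogonal to a subspace. -/
def perp (U : Submodule F (ι → F)) : Submodule F (ι → F) :=
  ⨅ u : U, LinearMap.ker (hl hf (u : ι → F))

omit [Finite F] in
theorem mem_perp {U : Submodule F (ι → F)} {x : ι → F} :
    x ∈ perp hf U ↔ ∀ u ∈ U, f x u = 0 := by
  simp [perp, Submodule.mem_iInf]

/-- `f` is non-degenerate on `U`. -/
def IsNd (_ : Geo.IsUnitaryForm σ f) (U : Submodule F (ι → F)) : Prop :=
  ∀ x ∈ U, (∀ y ∈ U, f x y = 0) → x = 0

omit [Finite F] in
theorem exists_proj {U : Submodule F (ι → F)} (hU : IsNd hf U) (x : ι → F) :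
    ∃ p ∈ U, x - p ∈ perp hf U := by
  classical
  let b := Module.finBasis F U
  let Φ : (ι → F) →ₗ[F] (Fin (Module.finrank F U) → F) :=
    LinearMap.pi fun j => hl hf (b j : ι → F)
  have hmem : ∀ z : ι → F, Φ z = 0 → ∀ u ∈ U, f z u = 0 := fun z hz u hu => by
    have hspan : (⟨u, hu⟩ : U) ∈ Submodule.span F (Set.range b) := by
      rw [b.span_eq]; exact Submodule.mem_top
    suffices ∀ w : U, w ∈ Submodule.span F (Set.range b) → f z (w : ι → F) = 0 from this _ hspan
    intro w hw
    induction hw using Submodule.span_induction with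
    | mem w hw =>
      obtain ⟨j, rfl⟩ := hw
      simpa [Φ] using congrFun hz j
    | zero => simp [hzero_right hf]
    | add p q _ _ hp hq => simp [hadd_right hf, hp, hq]
    | smul r p _ hp => simp [hsmul_right hf, hp]
  have hinj : Function.Injective (Φ.comp U.subtype) := by
    rw [injective_iff_map_eq_zero]
    exact fun p hp => Subtype.ext (hU p p.2 (hmem _ hp))
  obtain ⟨p, hp⟩ := (LinearMap.injective_iff_surjective_of_finrank_eq_finrank (by simp)).mp hinj
    (Φ x)
  refine ⟨p, p.2, (mem_perp hf).mpr (hmem _ ?_)⟩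
  rw [map_sub, ← hp]
  exact sub_self _

omit [Finite F] in
theorem exists_dual_in {U S : Submodule F (ι → F)} (hU : IsNd hf U) (hSU : S ≤ U) {a : ι → F}
    (ha : a ∈ U) (haS : a ∉ S) : ∃ z ∈ U, f z a = 1 ∧ ∀ s ∈ S, f z s = 0 := by
  obtain ⟨z, hz, hzS⟩ := exists_dual hf haS
  obtain ⟨p, hp, hzp⟩ := exists_proj hf hU z
  have e : ∀ u ∈ U, f p u = f z u := fun u hu => by
    have := (mem_perp hf).mp hzp u hu
    rw [hsub_left hf, sub_eq_zero] at this
    exact this.symm
  exact ⟨p, hp, (e a ha).trans hz, fun s hs => (e s (hSU hs)).trans (hzS s hs).1⟩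

omit [Finite F] in
theorem finrank_le_half_in {U K : Submodule F (ι → F)} (hU : IsNd hf U) (hKU : K ≤ U)
    (hK : ∀ x ∈ K, ∀ y ∈ K, f x y = 0) :
    2 * Module.finrank F K ≤ Module.finrank F U := by
  classical
  let b := Module.finBasis F K
  let Φ : U →ₗ[F] (Fin (Module.finrank F K) → F) :=
    (LinearMap.pi fun j => hl hf (b j : ι → F)).comp U.subtype
  have hli : LinearIndependent F fun j => (b j : ι → F) :=
    b.linearIndependent.map' K.subtype K.ker_subtype
  have hsur : LinearMap.range Φ = ⊤ := by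
    refine eq_top_iff.mpr fun x _ => ?_
    have hx : x = ∑ j, x j • Pi.single (M := fun _ => F) j 1 := pi_eq_sum_univ' x
    rw [hx]
    refine sum_mem fun j _ => Submodule.smul_mem _ _ ?_
    obtain ⟨z, hz, hzj, hzS⟩ := exists_dual_in hf hU
      (S := Submodule.span F ((fun i => (b i : ι → F)) '' (Set.univ \ {j})))
      (Submodule.span_le.mpr (by rintro _ ⟨i, -, rfl⟩; exact hKU (b i).2)) (hKU (b j).2)
      (hli.notMem_span_image (by simp))
    refine ⟨⟨z, hz⟩, funext fun i => ?_⟩
    by_cases hij : i = j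
    · subst hij; simpa [Φ] using hzj
    · simpa [Φ, Pi.single_eq_of_ne hij] using
        hzS _ (Submodule.subset_span ⟨i, by simpa using hij, rfl⟩)
  have hle : K.comap U.subtype ≤ LinearMap.ker Φ := fun x hx => by
    ext j
    simpa [Φ] using hK _ hx _ (b j).2
  have h1 := LinearMap.finrank_range_add_finrank_ker Φ
  rw [hsur] at h1
  have h2 := Submodule.finrank_mono hle
  rw [(Submodule.comapSubtypeEquivOfLe hKU).finrank_eq] at h2
  simp at h1
  omega

/-- A non-zero isotropic vector in a subspace of dimension at least two. -/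
theorem exists_iso_mem {K : Submodule F (ι → F)} (hK : 2 ≤ Module.finrank F K) :
    ∃ e ∈ K, e ≠ 0 ∧ f e e = 0 := by
  obtain ⟨x, hx, hx0⟩ := K.ne_bot_iff.mp fun h => by rw [h, finrank_bot] at hK; omega
  by_cases hxx : f x x = 0
  · exact ⟨x, hx, hx0, hxx⟩
  obtain ⟨y, hy, hyn⟩ := SetLike.not_le_iff_exists.mp fun h : K ≤ Submodule.span F {x} => by
    have := Submodule.finrank_mono h
    rw [finrank_span_singleton hx0] at this
    omega
  set y' := y - (f y x / f x x) • x with hy'
  have hy'x : f y' x = 0 := by rw [hy', hsub_left hf, hf.smul_left, div_mul_cancel₀ _ hxx, sub_self]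
  obtain ⟨s, hs⟩ := exists_norm hf (r := -f y' y' / f x x)
    (by rw [map_div₀, map_neg, ← hf.herm, ← hf.herm])
  refine ⟨y' + s • x, add_mem (sub_mem hy (K.smul_mem _ hx)) (K.smul_mem _ hx), fun h => hyn ?_,
    ?_⟩
  · rw [Submodule.mem_span_singleton]
    refine ⟨f y x / f x x - s, ?_⟩
    rw [hy', sub_add_eq_add_sub, sub_eq_zero] at h
    rw [sub_smul, ← h]; module
  · rw [hf.add_left, hadd_right hf, hadd_right hf, hf.smul_left, hsmul_right hf, hf.smul_left,
      hsmul_right hf, hy'x, hswap_zero hf hy'x]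
    field_simp at hs
    linear_combination hs

omit [Finite F] in
/-- A totally isotropic subspace of half the dimension contains its orthogonal complement. -/
theorem mem_of_half {U K : Submodule F (ι → F)} (hU : IsNd hf U) (hKU : K ≤ U)
    (hK : ∀ x ∈ K, ∀ y ∈ K, f x y = 0) (hhalf : Module.finrank F U ≤ 2 * Module.finrank F K)
    {z : ι → F} (hz : z ∈ U) (hzK : ∀ x ∈ K, f x z = 0) : z ∈ K := by
  by_contra hzn
  have hzK' : ∀ x ∈ K, f z x = 0 := fun x hx => hswap_zero hf (hzK x hx)
  by_cases hzz : f z z = 0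
  · have hlt : K < K ⊔ Submodule.span F {z} :=
      lt_of_le_of_ne le_sup_left fun e => hzn (e ▸ Submodule.mem_sup_right
        (Submodule.mem_span_singleton_self z))
    have h1 := finrank_le_half_in hf hU (K := K ⊔ Submodule.span F {z})
      (sup_le hKU (Submodule.span_le.mpr (by simpa using hz))) fun x hx y hy => by
        obtain ⟨k, hk, _, hl₁, rfl⟩ := Submodule.mem_sup.mp hx
        obtain ⟨k', hk', _, hl₂, rfl⟩ := Submodule.mem_sup.mp hy
        obtain ⟨r, rfl⟩ := Submodule.mem_span_singleton.mp hl₁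
        obtain ⟨r', rfl⟩ := Submodule.mem_span_singleton.mp hl₂
        simp [hf.add_left, hadd_right hf, hf.smul_left, hsmul_right hf, hK k hk k' hk', hzK k hk,
          hzK' k' hk', hzz]
    have h2 := Submodule.finrank_lt_finrank_of_lt hlt
    omega
  · set U' := U ⊓ LinearMap.ker (hl hf z) with hU'
    have hU'nd : IsNd hf U' := fun x hx hall => by
      refine hU x hx.1 fun y hy => ?_
      have hxz : f x z = 0 := by simpa using hx.2
      have hy' : y - (f y z / f z z) • z ∈ U' := ⟨sub_mem hy (U.smul_mem _ hz), by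
        simp [hsub_left hf, hf.smul_left, hzz]⟩
      have := hall _ hy'
      rwa [hsub_right hf, hsmul_right hf, hxz, mul_zero, sub_zero] at this
    have hlt : U' < U := lt_of_le_of_ne inf_le_left fun e => hzz (by
      have hm : z ∈ U' := e.symm ▸ hz
      simpa using hm.2)
    have h1 := finrank_le_half_in hf hU'nd (K := K)
      (fun x hx => ⟨hKU hx, by simpa using hzK x hx⟩) hK
    have h2 := Submodule.finrank_lt_finrank_of_lt hlt
    omega

/-- A vector of prescribed norm and values: the functionals are fewer than half of the dimension,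
or exactly half and one of the two side conditions holds. -/
theorem exists_norm_in {U : Submodule F (ι → F)} (hU : IsNd hf U) {k : ℕ}
    (L : (ι → F) →ₗ[F] (Fin k → F)) {z₀ : ι → F}
    (hk : 2 * k < Module.finrank F U ∨ (2 * k ≤ Module.finrank F U ∧
      (L z₀ ≠ 0 ∨ ∃ y ∈ U, f y y ≠ 0 ∧ ∀ x ∈ U, L x = 0 → f x y = 0)))
    (hz₀ : z₀ ∈ U) {r : F} (hr : σ r = r) : ∃ z ∈ U, L z = L z₀ ∧ f z z = r := by
  classical
  set K := U ⊓ LinearMap.ker L with hKdef
  have hKU : K ≤ U := inf_le_left
  have hK0 : ∀ u ∈ K, L u = 0 := fun u hu => LinearMap.mem_ker.mp hu.2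
  by_cases hex : ∃ u ∈ K, f u u ≠ 0
  · obtain ⟨u, hu, hne⟩ := hex
    set z₁ := z₀ - (f z₀ u / f u u) • u with hz₁
    have hu2 : f z₁ u = 0 := by
      rw [hz₁, hsub_left hf, hf.smul_left, div_mul_cancel₀ _ hne, sub_self]
    have hL : L z₁ = L z₀ := by rw [hz₁, map_sub, map_smul, hK0 u hu]; simp
    obtain ⟨s, hs⟩ := exists_norm hf (r := (r - f z₁ z₁) / f u u)
      (by rw [map_div₀, map_sub, hr, ← hf.herm, ← hf.herm])
    refine ⟨z₁ + s • u, add_mem (sub_mem hz₀ (U.smul_mem _ (hKU hu))) (U.smul_mem _ (hKU hu)),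
      by rw [map_add, map_smul, hK0 u hu, hL]; simp, ?_⟩
    rw [hf.add_left, hadd_right hf, hadd_right hf, hf.smul_left, hsmul_right hf, hf.smul_left,
      hsmul_right hf, hu2, hswap_zero hf hu2]
    field_simp at hs
    linear_combination hs
  simp only [not_exists, not_and, not_not] at hex
  -- the kernel is a totally isotropic subspace of half the dimension
  have hKt := totally_isotropic hf hex
  have hdim : Module.finrank F U ≤ Module.finrank F K + k := by
    have h := LinearMap.finrank_range_add_finrank_ker (L.comp U.subtype)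
    have h' := Submodule.finrank_le (LinearMap.range (L.comp U.subtype))
    have e : (LinearMap.ker (L.comp U.subtype)).map U.subtype = K := by
      ext x; simp [hKdef, and_comm]
    rw [← e, ← (Submodule.equivMapOfInjective _ U.injective_subtype _).finrank_eq]
    simp at h'
    omega
  have hle := finrank_le_half_in hf hU hKU hKt
  obtain hk | ⟨hk2, hk | ⟨y, hy, hyy, hyK⟩⟩ := hk
  · omega
  · obtain ⟨u, hu, huz⟩ : ∃ u ∈ K, f u z₀ ≠ 0 := by
      by_contra hc
      simp only [not_exists, not_and, not_not] at hc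
      exact hk (hK0 _ (mem_of_half hf hU hKU hKt (by omega) hz₀ hc))
    obtain ⟨t, ht⟩ := exists_trace hf (r := r - f z₀ z₀) (by rw [map_sub, hr, ← hf.herm])
    refine ⟨z₀ + (t / f u z₀) • u, add_mem hz₀ (U.smul_mem _ (hKU hu)),
      by rw [map_add, map_smul, hK0 u hu]; simp, ?_⟩
    rw [hf.add_left, hadd_right hf, hadd_right hf, hf.smul_left, hsmul_right hf, hf.smul_left,
      hsmul_right hf, hex u hu, hf.herm z₀ u, ← map_mul, div_mul_cancel₀ _ huz]
    linear_combination ht
  · exact absurd (hex y (mem_of_half hf hU hKU hKt (by omega) hy fun x hx => hyK x hx.1 (hK0 x hx)))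
      hyy

/-- Isotropic vectors span a non-degenerate subspace of dimension at least two. -/
theorem le_of_iso_mem {U S : Submodule F (ι → F)} (hU : IsNd hf U)
    (h2 : 2 ≤ Module.finrank F U) (hS : ∀ x ∈ U, f x x = 0 → x ∈ S) : U ≤ S := by
  obtain ⟨e, he, he0, hee⟩ := exists_iso_mem hf h2
  obtain ⟨z₀, hz₀, hz₀e, -⟩ := exists_dual_in hf hU (S := ⊥) bot_le he (by simpa using he0)
  obtain ⟨t, ht⟩ := exists_trace hf (r := -f z₀ z₀) (by rw [map_neg, ← hf.herm])
  set z := z₀ + t • e with hz
  have hzU : z ∈ U := add_mem hz₀ (U.smul_mem _ he)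
  have hze : f z e = 1 := by rw [hz, hf.add_left, hf.smul_left, hz₀e, hee, mul_zero, add_zero]
  have hez : f e z = 1 := by rw [hf.herm, hze, map_one]
  have hzz : f z z = 0 := by
    rw [hz, hf.add_left, hadd_right hf, hadd_right hf, hf.smul_left, hsmul_right hf, hf.smul_left,
      hsmul_right hf, hee, hz₀e, hf.herm e z₀, hz₀e, map_one]
    linear_combination ht
  intro x hx
  set x' := x - f x z • e - f x e • z with hx'
  have hx'e : f x' e = 0 := by
    rw [hx', hsub_left hf, hsub_left hf, hf.smul_left, hf.smul_left, hee, hze]; ring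
  have hx'z : f x' z = 0 := by
    rw [hx', hsub_left hf, hsub_left hf, hf.smul_left, hf.smul_left, hez, hzz]; ring
  have hx'U : x' ∈ U := sub_mem (sub_mem hx (U.smul_mem _ he)) (U.smul_mem _ hzU)
  obtain ⟨t', ht'⟩ := exists_trace hf (r := -f x' x') (by rw [map_neg, ← hf.herm])
  have hmem : z + t' • e + x' ∈ S :=
    hS _ (add_mem (add_mem hzU (U.smul_mem _ he)) hx'U) (by
      simp only [hf.add_left, hadd_right hf, hf.smul_left, hsmul_right hf, hee, hzz, hze, hez,
        hx'e, hx'z, hswap_zero hf hx'e, hswap_zero hf hx'z]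
      linear_combination ht')
  have hzS := hS z hzU hzz
  have heS := hS e he hee
  have hx'S : x' ∈ S := by
    have := sub_mem (sub_mem hmem hzS) (S.smul_mem t' heS)
    rwa [show z + t' • e + x' - z - t' • e = x' by abel] at this
  have := add_mem (add_mem hx'S (S.smul_mem (f x z) heS)) (S.smul_mem (f x e) hzS)
  rwa [show x' + f x z • e + f x e • z = x by rw [hx']; abel] at this

/-- The transvections of a large subspace are transitive on its vectors of given norm. -/
theorem exists_move_in {U : Submodule F (ι → F)} (hU : IsNd hf U) (h7 : 4 ≤ Module.finrank F U)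
    (hM : ∀ v ∈ U, f v v = 0 → Centre σ f M v) {b b' : ι → F} (hb : b ∈ U) (hb' : b' ∈ U)
    (hb0 : b ≠ 0) (hb'0 : b' ≠ 0) (hn : f b b = f b' b') :
    ∃ k ∈ M, k ∈ isom f ∧ (∀ x ∈ perp hf U, (k : Matrix ι ι F) *ᵥ x = x) ∧
      (k : Matrix ι ι F) *ᵥ b = b' := by
  classical
  obtain ⟨c₀, hc₀, hc₀'⟩ := exists_skew hf
  have one : ∀ p ∈ U, ∀ d ∈ U, f d d = 0 → f p d ≠ 0 → f (p + d) (p + d) = f p p →
      ∃ k ∈ M, k ∈ isom f ∧ (∀ x ∈ perp hf U, (k : Matrix ι ι F) *ᵥ x = x) ∧
        (k : Matrix ι ι F) *ᵥ p = p + d := by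
    intro p hp d hd hdd hpd hnorm
    rw [hf.add_left, hadd_right hf, hadd_right hf, hdd, hf.herm d p] at hnorm
    have hσ : σ (f p d) ≠ 0 := (map_ne_zero σ).mpr hpd
    have hc : (f p d)⁻¹ + σ (f p d)⁻¹ = 0 := by
      rw [map_inv₀]; field_simp; linear_combination hnorm
    refine ⟨ut f d (f p d)⁻¹, (hM d hd hdd).2 _ hc, ut_mem_isom hf hdd hc, fun x hx => ?_, ?_⟩
    · rw [ut_mulVec hf hdd, (mem_perp hf).mp hx d hd, mul_zero, zero_smul, add_zero]
    · rw [ut_mulVec hf hdd, inv_mul_cancel₀ hpd, one_smul]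
  have indep : ∀ p ∈ U, ∀ p' ∈ U, p ∉ Submodule.span F {p'} → p' ∉ Submodule.span F {p} →
      f p p = f p' p' →
      ∃ k ∈ M, k ∈ isom f ∧ (∀ x ∈ perp hf U, (k : Matrix ι ι F) *ᵥ x = x) ∧
        (k : Matrix ι ι F) *ᵥ p = p' := by
    intro p hp p' hp' h1 h2 hnp
    obtain ⟨z₁, hz₁U, hz₁, hz₁'⟩ := exists_dual_in hf hU
      (S := Submodule.span F {p'}) (Submodule.span_le.mpr (by simpa using hp')) hp h1
    obtain ⟨z₂, hz₂U, hz₂, hz₂'⟩ := exists_dual_in hf hU
      (S := Submodule.span F {p}) (Submodule.span_le.mpr (by simpa using hp)) hp' h2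
    set n₀ := f p p with hn₀
    have hn₀' : σ n₀ = n₀ := (hf.herm p p).symm
    obtain ⟨q, hq, hL, hqq⟩ := exists_norm_in hf hU (LinearMap.pi ![hl hf p, hl hf p'])
      (z₀ := (n₀ + c₀) • z₁ + (n₀ + c₀) • z₂) (Or.inr ⟨by omega, by
        by_cases hnc : n₀ + c₀ = 0
        · refine Or.inr ⟨p, hp, fun h => hc₀ ?_, fun x _ hLx => ?_⟩
          · rw [← hn₀] at h
            rwa [h, zero_add] at hnc
          · simpa using congrFun hLx 0
        · refine Or.inl fun h => hnc ?_
          simpa [hf.add_left, hf.smul_left, hz₁,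
            hz₂' p (Submodule.mem_span_singleton_self p)] using congrFun h 0⟩)
      (add_mem (U.smul_mem (n₀ + c₀) hz₁U) (U.smul_mem (n₀ + c₀) hz₂U)) hn₀'
    have hqp : f q p = n₀ + c₀ := by
      simpa [hf.add_left, hf.smul_left, hz₁, hz₂' p (Submodule.mem_span_singleton_self p)] using
        congrFun hL 0
    have hqp' : f q p' = n₀ + c₀ := by
      simpa [hf.add_left, hf.smul_left, hz₂, hz₁' p' (Submodule.mem_span_singleton_self p')] using
        congrFun hL 1
    have hpq : f p q = n₀ + σ c₀ := by rw [hf.herm, hqp, map_add, hn₀']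
    have hp'q : f p' q = n₀ + σ c₀ := by rw [hf.herm, hqp', map_add, hn₀']
    obtain ⟨k1, hk1, hk1i, hk1f, hk1p⟩ := one p hp (q - p) (sub_mem hq hp)
      (by rw [hsub_left hf, hsub_right hf, hsub_right hf, hqq, hqp, hpq, ← hn₀]
          linear_combination -hc₀')
      (by rw [hsub_right hf, hpq, ← hn₀]; simpa using hc₀)
      (by rw [add_sub_cancel, hqq])
    obtain ⟨k2, hk2, hk2i, hk2f, hk2p⟩ := one q hq (p' - q) (sub_mem hp' hq)
      (by rw [hsub_left hf, hsub_right hf, hsub_right hf, hqq, hqp', hp'q, ← hnp]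
          linear_combination -hc₀')
      (by rw [hsub_right hf, hqp', hqq]; simpa using hc₀)
      (by rw [add_sub_cancel, ← hnp, hqq])
    rw [add_sub_cancel] at hk1p hk2p
    exact ⟨k2 * k1, mul_mem hk2 hk1, mul_mem hk2i hk1i,
      fun x hx => by rw [Units.val_mul, ← mulVec_mulVec, hk1f x hx, hk2f x hx],
      by rw [Units.val_mul, ← mulVec_mulVec, hk1p, hk2p]⟩
  -- a vector independent of both
  obtain ⟨y, hy, hyn⟩ := SetLike.not_le_iff_exists.mp
    fun h : U ≤ Submodule.span F (({b, b'} : Finset (ι → F)) : Set (ι → F)) => by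
      have := (Submodule.finrank_mono h).trans
        ((finrank_span_finset_le_card _).trans Finset.card_le_two)
      omega
  obtain ⟨z₀, hz₀U, hz₀y, hz₀S⟩ := exists_dual_in hf hU
    (S := Submodule.span F (({b, b'} : Finset (ι → F)) : Set (ι → F)))
    (Submodule.span_le.mpr (by simp [Set.insert_subset_iff, hb, hb'])) hy hyn
  obtain ⟨q, hq, hL, hqq⟩ := exists_norm_in hf hU
    (LinearMap.pi ![hl hf y]) (Or.inl (by omega)) hz₀U (r := f b b) (hf.herm b b).symm
  have hqy : f q y = 1 := by simpa [hz₀y] using congrFun hL 0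
  by_cases hdep : b ∈ Submodule.span F {b'} ∨ b' ∈ Submodule.span F {b}
  swap
  · rw [not_or] at hdep
    exact indep b hb b' hb' hdep.1 hdep.2 hn
  have hline : ∀ p ∈ Submodule.span F (({b, b'} : Finset (ι → F)) : Set (ι → F)), p ≠ 0 →
      ∃ r : F, r • b = p := by
    intro p hp hp0
    obtain ⟨s, hs⟩ : ∃ s : F, s • b = b' := by
      rcases hdep with h | h
      · obtain ⟨s, hs⟩ := Submodule.mem_span_singleton.mp h
        exact ⟨s⁻¹, by rw [← hs, smul_smul, inv_mul_cancel₀ fun h0 => hb0 (by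
          rw [← hs, h0, zero_smul]), one_smul]⟩
      · exact Submodule.mem_span_singleton.mp h
    simp only [Finset.coe_insert, Finset.coe_singleton, Submodule.mem_span_pair] at hp
    obtain ⟨u, w, huw⟩ := hp
    exact ⟨u + w * s, by rw [add_smul, mul_smul, hs, huw]⟩
  -- pick the intermediate vector outside the line
  obtain ⟨m, hmU, hmn, hml⟩ : ∃ m ∈ U, f m m = f b b ∧
      m ∉ Submodule.span F (({b, b'} : Finset (ι → F)) : Set (ι → F)) := by
    obtain ⟨w, hwU, hwn⟩ : ∃ w ∈ U, f b w = 0 ∧ w ∉ Submodule.span F {b} := by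
      have h1 := LinearMap.finrank_range_add_finrank_ker ((hl hf b).comp U.subtype)
      have h2 := Submodule.finrank_le (LinearMap.range ((hl hf b).comp U.subtype))
      rw [Module.finrank_self] at h2
      obtain ⟨w, hw, hwn⟩ := SetLike.not_le_iff_exists.mp
        fun h : (LinearMap.ker ((hl hf b).comp U.subtype)).map U.subtype ≤
          Submodule.span F {b} => by
          have := Submodule.finrank_mono h
          rw [← (Submodule.equivMapOfInjective _ U.injective_subtype _).finrank_eq,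
            finrank_span_singleton hb0] at this
          omega
      obtain ⟨w', hw', rfl⟩ := hw
      exact ⟨_, w'.2, hswap_zero hf (by simpa using hw'), hwn⟩
    obtain ⟨z', hz'U, hz'w, -⟩ := exists_dual_in hf hU (S := Submodule.span F {b})
      (Submodule.span_le.mpr (by simpa using hb)) hwU hwn.2
    obtain ⟨m, hm, hLm, hmm⟩ := exists_norm_in hf hU
      (LinearMap.pi ![hl hf w]) (Or.inl (by omega)) hz'U (r := f b b) (hf.herm b b).symm
    refine ⟨m, hm, hmm, fun hp => ?_⟩
    have hmw : f m w = 1 := by simpa [hz'w] using congrFun hLm 0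
    obtain ⟨r, rfl⟩ := hline m hp fun h => by rw [h, hzero_left hf] at hmw; exact zero_ne_one hmw
    rw [hf.smul_left, hwn.1, mul_zero] at hmw
    exact zero_ne_one hmw
  have hm0 : m ≠ 0 := fun h => hml (h ▸ zero_mem _)
  have hnot : ∀ p ∈ ({b, b'} : Finset (ι → F)), p ≠ 0 →
      p ∉ Submodule.span F {m} ∧ m ∉ Submodule.span F {p} := by
    intro p hp hp0
    refine ⟨fun h => ?_, fun h => hml (Submodule.span_mono (by simpa using hp) h)⟩
    obtain ⟨r, hr⟩ := Submodule.mem_span_singleton.mp h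
    exact hml ((Submodule.smul_mem_iff _ fun h0 => hp0 (by rw [← hr, h0, zero_smul])).mp
      (hr ▸ Submodule.subset_span hp))
  obtain ⟨k1, hk1, hk1i, hk1f, hk1p⟩ := indep b hb m hmU (hnot b (by simp) hb0).1
    (hnot b (by simp) hb0).2 hmn.symm
  obtain ⟨k2, hk2, hk2i, hk2f, hk2p⟩ := indep m hmU b' hb' (hnot b' (by simp) hb'0).2
    (hnot b' (by simp) hb'0).1 (hmn.trans hn)
  exact ⟨k2 * k1, mul_mem hk2 hk1, mul_mem hk2i hk1i,
    fun x hx => by rw [Units.val_mul, ← mulVec_mulVec, hk1f x hx, hk2f x hx],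
    by rw [Units.val_mul, ← mulVec_mulVec, hk1p, hk2p]⟩

/-- A subgroup with the stabiliser of a non-degenerate subspace and one more element. -/
theorem centre_of_nondeg_stab {W : Submodule F (ι → F)} (hW : IsNd hf W) (hW0 : W ≠ ⊥)
    (hd : Module.finrank F W < Module.finrank F (perp hf W))
    (h7 : 4 ≤ Module.finrank F (perp hf W)) (hMG : M ≤ su f)
    (hH : ∀ g ∈ su f, (∀ x ∈ W, (g : Matrix ι ι F) *ᵥ x ∈ W) → g ∈ M)
    {g : GL ι F} (hg : g ∈ M) (hgW : ¬ ∀ x ∈ W, (g : Matrix ι ι F) *ᵥ x ∈ W) :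
    ∀ v, f v v = 0 → Centre σ f M v := by
  classical
  set W' := perp hf W with hW'
  have hgi := (hMG hg).1
  have horth : ∀ b ∈ W', ∀ a ∈ W, f b a = 0 ∧ f a b = 0 := fun b hb a ha =>
    ⟨(mem_perp hf).mp hb a ha, hswap_zero hf ((mem_perp hf).mp hb a ha)⟩
  have hdec : ∀ x, ∃ a ∈ W, ∃ b ∈ W', a + b = x := fun x => by
    obtain ⟨p, hp, hxp⟩ := exists_proj hf hW x
    exact ⟨p, hp, x - p, hxp, add_sub_cancel p x⟩
  have hdis : ∀ x ∈ W, x ∈ W' → x = 0 := fun x hx hx' =>
    hW x hx fun y hy => (horth x hx' y hy).1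
  have hW'nd : IsNd hf W' := fun b hb hall => by
    by_contra hb0
    obtain ⟨y, hy⟩ := (hf.nondegenerate b hb0).2
    obtain ⟨a, ha, c, hc, rfl⟩ := hdec y
    rw [hadd_right hf, (horth b hb a ha).1, hall c hc, add_zero] at hy
    exact hy rfl
  have hC' : ∀ v ∈ W', f v v = 0 → Centre σ f M v := fun v hv hvv =>
    ⟨hvv, fun c hc => hH _ (ut_mem_su hf hvv hc) fun x hx => by
      rw [ut_mulVec hf hvv, (horth v hv x hx).2, mul_zero, zero_smul, add_zero]; exact hx⟩
  have hC : ∀ v ∈ W, f v v = 0 → Centre σ f M v := fun v hv hvv =>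
    ⟨hvv, fun c hc => hH _ (ut_mem_su hf hvv hc) fun x hx => by
      rw [ut_mulVec hf hvv]; exact add_mem hx (W.smul_mem _ hv)⟩
  -- a mixed centre
  obtain ⟨a₀, ha₀, b₀, hb₀, ha₀0, hb₀0, hu₀⟩ : ∃ a ∈ W, ∃ b ∈ W', a ≠ 0 ∧ b ≠ 0 ∧
      Centre σ f M (a + b) := by
    by_contra hc
    simp only [not_exists, not_and] at hc
    have side : ∀ e ∈ W', f e e = 0 →
        (g : Matrix ι ι F) *ᵥ e ∈ W ∨ (g : Matrix ι ι F) *ᵥ e ∈ W' := by
      intro e he hee
      obtain ⟨a, ha, b, hb, hab⟩ := hdec ((g : Matrix ι ι F) *ᵥ e)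
      by_cases ha0 : a = 0
      · exact Or.inr (by rw [← hab, ha0, zero_add]; exact hb)
      by_cases hb0 : b = 0
      · exact Or.inl (by rw [← hab, hb0, add_zero]; exact ha)
      exact absurd (hab ▸ centre_map hf (hC' e he hee) hg hgi) (hc a ha b hb ha0 hb0)
    have same : ∀ e ∈ W', f e e = 0 → (g : Matrix ι ι F) *ᵥ e ∈ W → e ≠ 0 →
        ∀ e' ∈ W', f e' e' = 0 → (g : Matrix ι ι F) *ᵥ e' ∈ W := by
      intro e he hee hge he0 e' he' hee'
      let L : W' →ₗ[F] F × F := ((hl hf e).prod (hl hf e')).comp W'.subtype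
      have h1 := LinearMap.finrank_range_add_finrank_ker L
      have h2 := Submodule.finrank_le (LinearMap.range L)
      simp at h2
      obtain ⟨e₃, he₃, he₃0, he₃₃⟩ := exists_iso_mem hf (K := (LinearMap.ker L).map W'.subtype) (by
        rw [← (Submodule.equivMapOfInjective _ W'.injective_subtype _).finrank_eq]; omega)
      obtain ⟨w, hw, rfl⟩ := he₃
      obtain ⟨hwe, hwe'⟩ : f (w : ι → F) e = 0 ∧ f (w : ι → F) e' = 0 := by
        simpa [L, Prod.ext_iff] using hw
      have trans : ∀ p q, p ∈ W' → q ∈ W' → f p p = 0 → f q q = 0 → f p q = 0 → q ≠ 0 →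
          (g : Matrix ι ι F) *ᵥ q ∈ W → (g : Matrix ι ι F) *ᵥ p ∈ W := by
        intro p q hp hq hpp hqq hpq hq0 hgq
        rcases side p hp hpp with h | h
        · exact h
        rcases side (p + q) (add_mem hp hq) (by
          simp [hf.add_left, hadd_right hf, hpp, hqq, hpq, hswap_zero hf hpq]) with h' | h' <;>
          rw [mulVec_add] at h'
        · exact (Submodule.add_mem_iff_left W hgq).mp h'
        · exact absurd (hdis _ hgq ((Submodule.add_mem_iff_right W' h).mp h'))
            (mulVec_ne_zero g hq0)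
      exact trans e' _ he' w.2 hee' he₃₃ (hswap_zero hf hwe') he₃0
        (trans _ e w.2 he he₃₃ hee hwe he0 hge)
    by_cases hall : ∀ e ∈ W', f e e = 0 → (g : Matrix ι ι F) *ᵥ e ∈ W'
    · have hle := le_of_iso_mem hf hW'nd (by omega)
        (S := W'.comap (Matrix.mulVecLin (g : Matrix ι ι F))) hall
      have hinv : ∀ x ∈ W', ((g⁻¹ : GL ι F) : Matrix ι ι F) *ᵥ x ∈ W' := fun x hx => by
        have := (inv_mem (mem_subspaceStabilizer (g := g) hle) x).mp hx
        exact this
      refine hgW fun x hx => ?_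
      obtain ⟨a, ha, b, hb, hab⟩ := hdec ((g : Matrix ι ι F) *ᵥ x)
      suffices b = 0 by rw [← hab, this, add_zero]; exact ha
      refine hW'nd b hb fun y hy => ?_
      have h1 : f ((g : Matrix ι ι F) *ᵥ x) y = 0 := by
        rw [← mulVec_inv_mulVec g y, mem_isom.mp hgi]
        exact (horth _ (hinv y hy) x hx).2
      rwa [← hab, hf.add_left, (horth y hy a ha).2, zero_add] at h1
    · simp only [not_forall] at hall
      obtain ⟨e, he, hee, hge⟩ := hall
      have hge' := (side e he hee).resolve_right hge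
      have he0 : e ≠ 0 := fun h => hge (by rw [h, mulVec_zero]; exact W'.zero_mem)
      have hle := le_of_iso_mem hf hW'nd (by omega)
        (S := W.comap (Matrix.mulVecLin (g : Matrix ι ι F))) (same e he hee hge' he0)
      have h3 := Submodule.finrank_mono (Submodule.map_le_iff_le_comap.mpr hle)
      rw [← (Submodule.equivMapOfInjective _ (mulVec_injective g) W').finrank_eq] at h3
      omega
  -- change of the second component
  have hfill : ∀ a ∈ W, ∀ b ∈ W', b ≠ 0 → Centre σ f M (a + b) → ∀ b' ∈ W', b' ≠ 0 →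
      f a a + f b' b' = 0 → Centre σ f M (a + b') := by
    intro a ha b hb hb0 hab b' hb' hb'0 hn
    have hn' : f b b = f b' b' := by
      have h := hab.1
      rw [hf.add_left, hadd_right hf, hadd_right hf, (horth b hb a ha).1, (horth b hb a ha).2] at h
      linear_combination h - hn
    obtain ⟨k, hk, hki, hkf, hkb⟩ := exists_move_in hf hW'nd h7 hC' hb hb' hb0 hb'0 hn'
    have := centre_map hf hab hk hki
    rwa [mulVec_add, hkb, hkf a ((mem_perp hf).mpr fun y hy => (horth y hy a ha).2)] at this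
  let P : (ι → F) → Prop := fun a => a ∈ W ∧ (a = 0 ∨ ∀ b ∈ W', b ≠ 0 →
    f a a + f b b = 0 → Centre σ f M (a + b))
  let S : Submodule F (ι → F) :=
    { carrier := {a | P a}
      zero_mem' := ⟨W.zero_mem, Or.inl rfl⟩
      smul_mem' := fun r a ha => by
        refine ⟨W.smul_mem r ha.1, ?_⟩
        by_cases hr : r = 0
        · exact Or.inl (by rw [hr, zero_smul])
        rcases ha.2 with h | h
        · exact Or.inl (by rw [h, smul_zero])
        refine Or.inr fun b hb hb0 hn => ?_
        have h1 : Centre σ f M (a + r⁻¹ • b) := h _ (W'.smul_mem _ hb)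
          (smul_ne_zero (inv_ne_zero hr) hb0) (by
            rw [hf.smul_left, hsmul_right hf] at hn ⊢
            rw [map_inv₀]
            have : σ r ≠ 0 := (map_ne_zero σ).mpr hr
            field_simp
            linear_combination hn)
        have h2 := centre_smul hf h1 r
        rwa [smul_add, smul_smul, mul_inv_cancel₀ hr, one_smul] at h2
      add_mem' := fun {a a₁} ha ha₁ => by
        refine ⟨add_mem ha.1 ha₁.1, ?_⟩
        by_cases hsum : a + a₁ = 0
        · exact Or.inl hsum
        rcases ha.2 with h | h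
        · rw [h, zero_add]; exact ha₁.2
        rcases ha₁.2 with h' | h'
        · rw [h', add_zero]; exact ha.2
        -- two orthogonally prescribed second components
        obtain ⟨y, hy, hy0⟩ : ∃ y ∈ W', y ≠ 0 := W'.ne_bot_iff.mp fun e => by
          rw [e, finrank_bot] at h7; omega
        obtain ⟨z₀, hz₀, hz₀y, -⟩ := exists_dual_in hf hW'nd (S := ⊥) bot_le hy
          (by simpa using hy0)
        obtain ⟨b, hb, hLb, hbb⟩ := exists_norm_in hf hW'nd (LinearMap.pi ![hl hf y]) (Or.inl (by omega))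
          hz₀ (r := -f a a) (by rw [map_neg, ← hf.herm])
        have hb0 : b ≠ 0 := fun e => by
          have := congrFun hLb 0
          simp [e, hzero_left hf, hz₀y] at this
        let L : W' →ₗ[F] F := (hl hf b).comp W'.subtype
        have e1 := LinearMap.finrank_range_add_finrank_ker L
        have e2 := Submodule.finrank_le (LinearMap.range L)
        rw [Module.finrank_self] at e2
        obtain ⟨w, hw, hwn⟩ := SetLike.not_le_iff_exists.mp
          fun hle : (LinearMap.ker L).map W'.subtype ≤ Submodule.span F {b} => by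
            have := Submodule.finrank_mono hle
            rw [← (Submodule.equivMapOfInjective _ W'.injective_subtype _).finrank_eq,
              finrank_span_singleton hb0] at this
            omega
        obtain ⟨w', hw', rfl⟩ := hw
        have hbw : f b (w' : ι → F) = 0 := hswap_zero hf (by simpa [L] using hw')
        have hbn : b ∉ Submodule.span F {(w' : ι → F)} := fun hm => by
          obtain ⟨r, hr⟩ := Submodule.mem_span_singleton.mp hm
          have hr0 : r ≠ 0 := fun e => hb0 (by rw [← hr, e, zero_smul])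
          exact hwn (Submodule.mem_span_singleton.mpr
            ⟨r⁻¹, by rw [Submodule.subtype_apply, ← hr, smul_smul, inv_mul_cancel₀ hr0, one_smul]⟩)
        obtain ⟨p₁, hp₁, hp₁b, hp₁w⟩ := exists_dual_in hf hW'nd
          (S := Submodule.span F {(w' : ι → F)}) (Submodule.span_le.mpr (by simp)) hb hbn
        obtain ⟨p₂, hp₂, hp₂w, hp₂b⟩ := exists_dual_in hf hW'nd
          (S := Submodule.span F {b}) (Submodule.span_le.mpr (by simpa using hb)) w'.2 hwn
        obtain ⟨c₀, hc₀, hc₀'⟩ := exists_skew hf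
        set t := σ (c₀⁻¹ - f a a₁)
        obtain ⟨b₁, hb₁, hL₁, hb₁b₁⟩ := exists_norm_in hf hW'nd
          (LinearMap.pi ![hl hf b, hl hf (w' : ι → F)]) (z₀ := t • p₁ + p₂)
          (Or.inr ⟨by omega, Or.inl fun h => zero_ne_one (α := F) (by
            simpa [hf.add_left, hf.smul_left, hp₂w,
              hp₁w (w' : ι → F) (Submodule.mem_span_singleton_self _)] using
              (congrFun h 1).symm)⟩)
          (add_mem (W'.smul_mem t hp₁) hp₂) (r := -f a₁ a₁) (by rw [map_neg, ← hf.herm])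
        have hb₁b : f b₁ b = t := by
          simpa [hf.add_left, hf.smul_left, hp₁b,
            hp₂b b (Submodule.mem_span_singleton_self b)] using congrFun hL₁ 0
        have hb₁w : f b₁ (w' : ι → F) = 1 := by
          simpa [hf.add_left, hf.smul_left, hp₂w,
            hp₁w (w' : ι → F) (Submodule.mem_span_singleton_self _)] using congrFun hL₁ 1
        have hb₁0 : b₁ ≠ 0 := fun e => by
          rw [e, hzero_left hf] at hb₁w; exact zero_ne_one hb₁w
        have hbsum : b + b₁ ≠ 0 := fun e => by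
          have := congrArg (fun x => f x (w' : ι → F)) e
          simp [hf.add_left, hzero_left hf, hbw, hb₁w] at this
        have hu := h b hb hb0 (by rw [hbb, add_neg_cancel])
        have hv := h' b₁ hb₁ hb₁0 (by rw [hb₁b₁, add_neg_cancel])
        have hbb₁ : f b b₁ = c₀⁻¹ - f a a₁ := by rw [hf.herm, hb₁b, hf.involutive]
        have h3 := centre_move hf hv hu hc₀'
        rw [hf.add_left, hadd_right hf, hadd_right hf, (horth b₁ hb₁ a ha.1).2,
          (horth b hb a₁ ha₁.1).1, hbb₁, add_zero, zero_add, add_sub_cancel,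
          mul_inv_cancel₀ hc₀, one_smul] at h3
        refine Or.inr fun b' hb' hb'0 hn => ?_
        refine hfill _ (add_mem ha.1 ha₁.1) _ (add_mem hb hb₁) hbsum ?_ b' hb' hb'0 hn
        rwa [show a + a₁ + (b + b₁) = a + b + (a₁ + b₁) by abel] }
  have ha₀S : a₀ ∈ S := ⟨ha₀, Or.inr fun b hb hb0 hn => hfill a₀ ha₀ b₀ hb₀ hb₀0 hu₀ b hb hb0 hn⟩
  -- `S` is all of `W`
  have hWS : W ≤ S := by
    rcases Nat.lt_or_ge (Module.finrank F W) 2 with h1 | h2
    · have hle : S ≤ W := fun a ha => ha.1
      refine (Submodule.eq_of_le_of_finrank_le hle ?_).ge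
      have := Submodule.one_le_finrank_iff.mpr (show S ≠ ⊥ from fun e => ha₀0 (by
        rwa [e, Submodule.mem_bot] at ha₀S))
      omega
    have hinv : ∀ v ∈ W, f v v = 0 → ∀ a ∈ S, f a v ≠ 0 → v ∈ S := by
      intro v hv hvv a ha hav
      obtain ⟨c, hc0, hc⟩ := exists_skew hf
      rcases ha.2 with h | h
      · exact absurd (by rw [h, hzero_left hf]) hav
      have hmem : a + (c * f a v) • v ∈ S := by
        refine ⟨add_mem ha.1 (W.smul_mem _ hv), Or.inr fun b hb hb0 hn => ?_⟩
        have hki := ut_mem_isom hf hvv hc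
        have hn2 : f a a + f b b = 0 := by
          rw [← hn, ← ut_mulVec hf hvv, mem_isom.mp hki]
        have h2 := centre_move hf (hC v hv hvv) (h b hb hb0 hn2) hc
        rw [hf.add_left, (horth b hb v hv).1, add_zero] at h2
        rwa [add_right_comm] at h2
      have h3 := sub_mem hmem ha
      rw [add_sub_cancel_left] at h3
      exact (Submodule.smul_mem_iff S (mul_ne_zero hc0 hav)).mp h3
    obtain ⟨v₀, hv₀, hv₀v₀, hv₀a⟩ : ∃ v ∈ W, f v v = 0 ∧ f a₀ v ≠ 0 := by
      by_contra hc
      simp only [not_exists, not_and, not_not] at hc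
      have hle := le_of_iso_mem hf hW h2 (S := LinearMap.ker (hl hf a₀))
        (fun x hx hxx => by simpa using hswap_zero hf (hc x hx hxx))
      exact ha₀0 (hW a₀ ha₀ fun y hy => hswap_zero hf (by simpa using hle hy))
    have hv₀S := hinv v₀ hv₀ hv₀v₀ a₀ ha₀S hv₀a
    refine le_of_iso_mem hf hW h2 fun v hv hvv => ?_
    by_cases hvv₀ : f v₀ v = 0
    swap
    · exact hinv v hv hvv v₀ hv₀S hvv₀
    -- a partner of `v₀`
    obtain ⟨z₀, hz₀, hz₀v, -⟩ := exists_dual_in hf hW (S := ⊥) bot_le hv₀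
      (by simpa using fun e : v₀ = 0 => hv₀a (by rw [e, hzero_right hf]))
    obtain ⟨t, ht⟩ := exists_trace hf (r := -f z₀ z₀) (by rw [map_neg, ← hf.herm])
    set z := z₀ + t • v₀ with hz
    have hzW : z ∈ W := add_mem hz₀ (W.smul_mem _ hv₀)
    have hv₀z : f v₀ z = 1 := by
      rw [hz, hadd_right hf, hsmul_right hf, hv₀v₀, hf.herm, hz₀v, map_one, mul_zero, add_zero]
    have hzz : f z z = 0 := by
      rw [hz, hf.add_left, hadd_right hf, hadd_right hf, hf.smul_left, hsmul_right hf,
        hf.smul_left, hsmul_right hf, hv₀v₀, hz₀v, hf.herm v₀ z₀, hz₀v, map_one]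
      linear_combination ht
    have hzS := hinv z hzW hzz v₀ hv₀S (by rw [hv₀z]; exact one_ne_zero)
    by_cases hzv : f z v = 0
    swap
    · exact hinv v hv hvv z hzS hzv
    have h4 := hinv (z + v) (add_mem hzW hv) (by
        simp [hf.add_left, hadd_right hf, hzz, hvv, hzv, hswap_zero hf hzv]) v₀ hv₀S
      (by rw [hadd_right hf, hv₀z, hvv₀, add_zero]; exact one_ne_zero)
    simpa using sub_mem h4 hzS
  intro v hv
  obtain ⟨a, ha, b, hb, rfl⟩ := hdec v
  rw [hf.add_left, hadd_right hf, hadd_right hf, (horth b hb a ha).1, (horth b hb a ha).2] at hv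
  by_cases ha0 : a = 0
  · subst ha0
    rw [zero_add]
    exact hC' b hb (by simpa [hzero_left hf] using hv)
  by_cases hb0 : b = 0
  · subst hb0
    rw [add_zero]
    exact hC a ha (by simpa [hzero_left hf] using hv)
  exact ((hWS ha).2.resolve_left ha0) b hb hb0 (by simpa using hv)

end Cfsg.Agent.HermStab
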