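import Cfsg.Agent.MaxSub.Alt

/-!
Maximality of the stabiliser of a pair of complementary maximal totally isotropic subspaces
(helper24). The form `f` is linear in the first and `s`-semilinear in the second argument, with
`s (f y x) = -c * f x y` (`c = 1`: symplectic, `c = -1`: unitary).
-/

set_option autoImplicit false

namespace Cfsg.Agent.LagPair

open Matrix Cfsg.Agent.MaxSub

variable {ι : Type} [Fintype ι] [DecidableEq ι] {F : Type*} [Field F]

/-- A non-degenerate reflexive sesquilinear form with sign `c`. -/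
structure IsPairForm (s : F →+* F) (c : F) (f : (ι → F) → (ι → F) → F) : Prop where
  add_left : ∀ x y v, f (x + y) v = f x v + f y v
  smul_left : ∀ (a : F) (x v : ι → F), f (a • x) v = a * f x v
  add_right : ∀ v x y, f v (x + y) = f v x + f v y
  smul_right : ∀ (a : F) (v x : ι → F), f v (a • x) = s a * f v x
  invol : ∀ a, s (s a) = a
  c_sq : c * c = 1
  map_c : s c = c
  swap : ∀ x y, s (f y x) = -c * f x y
  nondeg : ∀ v, (∀ x, f x v = 0) → v = 0

/-- Two complementary totally isotropic subspaces of dimension `m`. -/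
structure IsPair (f : (ι → F) → (ι → F) → F) (m : ℕ) (W₁ W₂ : Submodule F (ι → F)) : Prop where
  compl : IsCompl W₁ W₂
  iso₁ : ∀ x ∈ W₁, ∀ y ∈ W₁, f x y = 0
  iso₂ : ∀ x ∈ W₂, ∀ y ∈ W₂, f x y = 0
  fin₁ : Module.finrank F W₁ = m
  fin₂ : Module.finrank F W₂ = m

/-- The element `x ↦ x + f(x,u) v + c f(x,v) u`. -/
noncomputable def E (f : (ι → F) → (ι → F) → F) (c : F) (v u : ι → F) : GL ι F :=
  tv v (rep f u) * tv u (c • rep f v)

/-- The transvection `x ↦ x + a f(x,v) v`. -/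
noncomputable def T (f : (ι → F) → (ι → F) → F) (v : ι → F) (a : F) : GL ι F :=
  tv v (a • rep f v)

variable {s : F →+* F} {c : F} {f : (ι → F) → (ι → F) → F}

section Form

variable (hf : IsPairForm s c f)
include hf

/-- `x ↦ f x v` as a linear map. -/
def lm (v : ι → F) : (ι → F) →ₗ[F] F where
  toFun x := f x v
  map_add' x y := hf.add_left x y v
  map_smul' a x := hf.smul_left a x v

@[simp] theorem lm_apply (v x : ι → F) : lm hf v x = f x v := rfl

theorem rep_dot' (v x : ι → F) : rep f v ⬝ᵥ x = f x v := by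
  conv_rhs => rw [← lm_apply hf, pi_eq_sum_univ' x]
  simp only [map_sum, map_smul, smul_eq_mul, dotProduct, mul_comm, lm_apply]
  rfl

theorem zero_left (v : ι → F) : f 0 v = 0 := map_zero (lm hf v)

theorem zero_right (v : ι → F) : f v 0 = 0 := by
  have := hf.smul_right 0 v 0
  rwa [zero_smul, map_zero, zero_mul] at this

theorem sub_left (x y v : ι → F) : f (x - y) v = f x v - f y v := map_sub (lm hf v) x y

theorem neg_left (x v : ι → F) : f (-x) v = -f x v := map_neg (lm hf v) x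

theorem neg_right (v x : ι → F) : f v (-x) = -f v x := by
  rw [← neg_one_smul F x, hf.smul_right, map_neg, map_one, neg_one_mul]

theorem sub_right (v x y : ι → F) : f v (x - y) = f v x - f v y := by
  rw [sub_eq_add_neg, hf.add_right, neg_right hf, ← sub_eq_add_neg]

theorem c_ne : c ≠ 0 := left_ne_zero_of_mul_eq_one hf.c_sq

theorem eq_zero_comm {x y : ι → F} (h : f x y = 0) : f y x = 0 := by
  have h1 := hf.swap x y
  rw [h, mul_zero] at h1
  exact (map_eq_zero s).mp h1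

theorem swap_ne {x y : ι → F} (h : f x y ≠ 0) : f y x ≠ 0 := fun h0 => h (eq_zero_comm hf h0)

theorem E_mulVec {v u : ι → F} (hvv : f v v = 0) (huu : f u u = 0) (hvu : f v u = 0)
    (x : ι → F) :
    (E f c v u : Matrix ι ι F) *ᵥ x = x + f x u • v + (c * f x v) • u := by
  have h1 : rep f u ⬝ᵥ v = 0 := by rw [rep_dot' hf, hvu]
  have h2 : (c • rep f v) ⬝ᵥ u = 0 := by
    rw [smul_dotProduct, rep_dot' hf, eq_zero_comm hf hvu, smul_zero]
  rw [E, Units.val_mul, ← mulVec_mulVec, tv_mulVec h2, tv_mulVec h1, smul_dotProduct,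
    rep_dot' hf, rep_dot' hf, hf.add_left, hf.smul_left, huu, mul_zero, add_zero, smul_eq_mul]
  abel

theorem E_mem_isom {v u : ι → F} (hvv : f v v = 0) (huu : f u u = 0) (hvu : f v u = 0) :
    E f c v u ∈ isom f := by
  intro x y
  show f ((E f c v u : Matrix ι ι F) *ᵥ x) ((E f c v u : Matrix ι ι F) *ᵥ y) = f x y
  rw [E_mulVec hf hvv huu hvu, E_mulVec hf hvv huu hvu]
  simp only [hf.add_left, hf.smul_left, hf.add_right, hf.smul_right, hvv, huu, hvu,
    eq_zero_comm hf hvu, map_mul, hf.map_c, hf.swap, mul_zero, add_zero]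
  linear_combination (-(f x u * f v y)) * hf.c_sq

theorem det_E (v u : ι → F) : Matrix.GeneralLinearGroup.det (E f c v u) = 1 := by
  rw [E, map_mul, det_tv, det_tv, one_mul]

theorem T_mulVec {v : ι → F} (hv : f v v = 0) (a : F) (x : ι → F) :
    (T f v a : Matrix ι ι F) *ᵥ x = x + (a * f x v) • v := by
  rw [T, tv_mulVec (by rw [smul_dotProduct, rep_dot' hf, hv, smul_zero]), smul_dotProduct,
    rep_dot' hf, smul_eq_mul]

theorem T_mem_isom {v : ι → F} (hv : f v v = 0) {a : F} (ha : c * s a = a) :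
    T f v a ∈ isom f := by
  intro x y
  show f ((T f v a : Matrix ι ι F) *ᵥ x) ((T f v a : Matrix ι ι F) *ᵥ y) = f x y
  rw [T_mulVec hf hv, T_mulVec hf hv]
  simp only [hf.add_left, hf.smul_left, hf.add_right, hf.smul_right, hv, map_mul, hf.swap,
    mul_zero, add_zero]
  linear_combination (-(f x v * f v y)) * ha

theorem E_conj {g : GL ι F} (hg : g ∈ isom f) {v u : ι → F} (hvv : f v v = 0) (huu : f u u = 0)
    (hvu : f v u = 0) :
    g * E f c v u * g⁻¹ = E f c ((g : Matrix ι ι F) *ᵥ v) ((g : Matrix ι ι F) *ᵥ u) := by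
  refine gl_ext fun x => ?_
  have hx : ∀ z, f (((g⁻¹ : GL ι F) : Matrix ι ι F) *ᵥ x) z = f x ((g : Matrix ι ι F) *ᵥ z) :=
    fun z => by
      conv_rhs => rw [← mulVec_inv_mulVec g x, mem_isom.mp hg]
  rw [Units.val_mul, Units.val_mul, ← mulVec_mulVec, ← mulVec_mulVec, E_mulVec hf hvv huu hvu,
    E_mulVec hf (by rw [mem_isom.mp hg]; exact hvv) (by rw [mem_isom.mp hg]; exact huu)
      (by rw [mem_isom.mp hg]; exact hvu),
    mulVec_add, mulVec_add, mulVec_smul, mulVec_smul, mulVec_inv_mulVec, hx, hx]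

theorem T_conj {g : GL ι F} (hg : g ∈ isom f) {v : ι → F} (hv : f v v = 0) (a : F) :
    g * T f v a * g⁻¹ = T f ((g : Matrix ι ι F) *ᵥ v) a := by
  refine gl_ext fun x => ?_
  have hx : f (((g⁻¹ : GL ι F) : Matrix ι ι F) *ᵥ x) v = f x ((g : Matrix ι ι F) *ᵥ v) := by
    conv_rhs => rw [← mulVec_inv_mulVec g x, mem_isom.mp hg]
  rw [Units.val_mul, Units.val_mul, ← mulVec_mulVec, ← mulVec_mulVec, T_mulVec hf hv,
    T_mulVec hf (by rw [mem_isom.mp hg]; exact hv), mulVec_add, mulVec_smul, mulVec_inv_mulVec, hx]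

end Form

theorem IsPair.symm {m : ℕ} {W₁ W₂ : Submodule F (ι → F)} (hp : IsPair f m W₁ W₂) :
    IsPair f m W₂ W₁ :=
  ⟨hp.compl.symm, hp.iso₂, hp.iso₁, hp.fin₂, hp.fin₁⟩

theorem IsPair.exists_add {m : ℕ} {W₁ W₂ : Submodule F (ι → F)} (hp : IsPair f m W₁ W₂)
    (z : ι → F) : ∃ x ∈ W₁, ∃ y ∈ W₂, x + y = z :=
  Submodule.mem_sup.mp (hp.compl.sup_eq_top ▸ Submodule.mem_top)

theorem IsPair.eq_zero {m : ℕ} {W₁ W₂ : Submodule F (ι → F)} (hp : IsPair f m W₁ W₂)
    {z : ι → F} (h1 : z ∈ W₁) (h2 : z ∈ W₂) : z = 0 :=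
  (Submodule.disjoint_def.mp hp.compl.disjoint) z h1 h2

/-- A linear map sending `W` into a subspace of the same dimension maps it onto that subspace. -/
theorem map_eq_of_forall [Finite F] {g : GL ι F} {W W' : Submodule F (ι → F)}
    (h : ∀ x ∈ W, (g : Matrix ι ι F) *ᵥ x ∈ W')
    (hd : Module.finrank F W' ≤ Module.finrank F W) :
    W.map (Matrix.mulVecLin (g : Matrix ι ι F)) = W' := by
  refine Submodule.eq_of_le_of_finrank_le ?_ ?_
  · rintro _ ⟨x, hx, rfl⟩
    exact h x hx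
  · rwa [(Submodule.equivMapOfInjective _ (mulVec_injective g) W).symm.finrank_eq]

theorem inv_mem_of_forall [Finite F] {g : GL ι F} {W W' : Submodule F (ι → F)}
    (h : ∀ x ∈ W, (g : Matrix ι ι F) *ᵥ x ∈ W')
    (hd : Module.finrank F W' ≤ Module.finrank F W) :
    ∀ x ∈ W', ((g⁻¹ : GL ι F) : Matrix ι ι F) *ᵥ x ∈ W := by
  intro x hx
  rw [← map_eq_of_forall h hd] at hx
  obtain ⟨y, hy, rfl⟩ := hx
  rw [Matrix.mulVecLin_apply, inv_mulVec_mulVec]
  exact hy

/-- Membership in the stabiliser of a decomposition into two subspaces, both fixed. -/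
theorem mem_stab_of_fix [Finite F] {g : GL ι F} {D : Fin 2 → Submodule F (ι → F)}
    (h0 : ∀ x ∈ D 0, (g : Matrix ι ι F) *ᵥ x ∈ D 0)
    (h1 : ∀ x ∈ D 1, (g : Matrix ι ι F) *ᵥ x ∈ D 1) : g ∈ Geo.decompositionStabilizer D := by
  refine ⟨1, Fin.forall_fin_two.mpr ⟨?_, ?_⟩⟩
  · rw [Matrix.toLin'_apply', map_eq_of_forall h0 le_rfl]; simp
  · rw [Matrix.toLin'_apply', map_eq_of_forall h1 le_rfl]; simp

/-- Membership in the stabiliser of a decomposition into two subspaces, interchanged. -/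
theorem mem_stab_of_swap [Finite F] {g : GL ι F} {D : Fin 2 → Submodule F (ι → F)}
    (hd : Module.finrank F (D 0) = Module.finrank F (D 1))
    (h0 : ∀ x ∈ D 0, (g : Matrix ι ι F) *ᵥ x ∈ D 1)
    (h1 : ∀ x ∈ D 1, (g : Matrix ι ι F) *ᵥ x ∈ D 0) : g ∈ Geo.decompositionStabilizer D := by
  refine ⟨Equiv.swap 0 1, Fin.forall_fin_two.mpr ⟨?_, ?_⟩⟩
  · rw [Matrix.toLin'_apply', map_eq_of_forall h0 hd.ge, Equiv.swap_apply_left]
  · rw [Matrix.toLin'_apply', map_eq_of_forall h1 hd.le, Equiv.swap_apply_right]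

section Pair

variable {m : ℕ} {W₁ W₂ : Submodule F (ι → F)} [Finite F]
variable (hf : IsPairForm s c f) (hp : IsPair f m W₁ W₂)
include hf hp

/-- Every functional on `W₁` is `x ↦ f x u` for some `u ∈ W₂`. -/
theorem exists_rep_mem (φ : W₁ →ₗ[F] F) : ∃ u ∈ W₂, ∀ x : W₁, f x u = φ x := by
  let Q : W₂ → (W₁ →ₗ[F] F) := fun u => (lm hf (u : ι → F)).comp W₁.subtype
  have hinj : Function.Injective Q := fun u u' h => by
    refine Subtype.ext (sub_eq_zero.mp (hf.nondeg _ fun z => ?_))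
    obtain ⟨x, hx, y, hy, rfl⟩ := hp.exists_add z
    have h1 : f x u = f x u' := LinearMap.congr_fun h ⟨x, hx⟩
    rw [hf.add_left, hp.iso₂ y hy _ (sub_mem u.2 u'.2), add_zero, sub_right hf, h1, sub_self]
  haveI : Finite (W₁ →ₗ[F] F) := Module.finite_of_finite F
  have hcard : Nat.card W₂ = Nat.card (W₁ →ₗ[F] F) := by
    rw [Module.natCard_eq_pow_finrank (K := F) (V := W₂),
      Module.natCard_eq_pow_finrank (K := F) (V := W₁ →ₗ[F] F), hp.fin₂]
    exact congrArg _ ((Subspace.dual_finrank_eq (K := F) (V := W₁)).trans hp.fin₁).symm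
  obtain ⟨u, hu⟩ := ((Nat.bijective_iff_injective_and_card Q).mpr ⟨hinj, hcard⟩).2 φ
  exact ⟨u, u.2, fun x => LinearMap.congr_fun hu x⟩

/-- A vector of `W₂` dual to `e` and orthogonal to `U`. -/
theorem exists_dual_mem {U : Submodule F (ι → F)} {e : ι → F} (he : e ∈ W₁) (hU : e ∉ U) :
    ∃ u ∈ W₂, f e u = 1 ∧ ∀ x ∈ W₁, x ∈ U → f x u = 0 := by
  obtain ⟨φ, hφU, hφe⟩ := exists_annihilator hU
  obtain ⟨u, hu, hfu⟩ := exists_rep_mem hf hp
    { toFun := fun x => φ ⬝ᵥ (x : ι → F)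
      map_add' := fun x y => by simp [dotProduct_add]
      map_smul' := fun a x => by simp [dotProduct_smul] }
  exact ⟨u, hu, (hfu ⟨e, he⟩).trans hφe, fun x hx hxU => (hfu ⟨x, hx⟩).trans (hφU x hxU)⟩

/-- A proper span inside `W₁`. -/
theorem exists_notMem {U : Submodule F (ι → F)} (h : Module.finrank F U < m) :
    ∃ e ∈ W₁, e ∉ U := by
  by_contra hc
  simp only [not_exists, not_and, not_not] at hc
  have := Submodule.finrank_mono (show W₁ ≤ U from hc)
  rw [hp.fin₁] at this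
  omega

/-- Vectors moved by a subgroup containing the `E v u`. -/
theorem exists_move (hm : 3 ≤ m) {M : Subgroup (GL ι F)}
    (hE : ∀ v ∈ W₁, ∀ u ∈ W₂, f v u = 0 → E f c v u ∈ M) {v w : ι → F} (hv : v ∈ W₁)
    (hw : w ∈ W₁) (hv0 : v ≠ 0) (hw0 : w ≠ 0) :
    ∃ g ∈ M, g ∈ isom f ∧ (g : Matrix ι ι F) *ᵥ v = w := by
  classical
  have step : ∀ v w, v ∈ W₁ → w ∈ W₁ → v ∉ Submodule.span F {w - v} →
      ∃ g ∈ M, g ∈ isom f ∧ (g : Matrix ι ι F) *ᵥ v = w := by
    intro v w hv hw hli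
    obtain ⟨u, hu, hvu, huU⟩ := exists_dual_mem hf hp hv hli
    have hd : w - v ∈ W₁ := sub_mem hw hv
    have hdu : f (w - v) u = 0 := huU _ hd (Submodule.mem_span_singleton_self _)
    have hdd := hp.iso₁ _ hd _ hd
    have huu := hp.iso₂ _ hu _ hu
    refine ⟨_, hE _ hd u hu hdu, E_mem_isom hf hdd huu hdu, ?_⟩
    rw [E_mulVec hf hdd huu hdu, hvu, one_smul, hp.iso₁ v hv _ hd, mul_zero, zero_smul, add_zero,
      add_sub_cancel]
  obtain ⟨z, hz, hzU⟩ := exists_notMem hf hp (U := Submodule.span F (({v, w} : Finset (ι → F)) : Set (ι → F)))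
    (lt_of_le_of_lt ((finrank_span_finset_le_card _).trans Finset.card_le_two) (by omega))
  simp only [Finset.coe_insert, Finset.coe_singleton] at hzU
  have h1 : v ∉ Submodule.span F {z - v} := fun h => by
    obtain ⟨a, ha⟩ := Submodule.mem_span_singleton.mp h
    have ha0 : a ≠ 0 := fun h0 => hv0 (by rw [← ha, h0, zero_smul])
    exact hzU (Submodule.mem_span_pair.mpr ⟨a⁻¹ + 1, 0, by
      rw [zero_smul, add_zero, add_smul, one_smul]
      nth_rw 1 [← ha]
      rw [inv_smul_smul₀ ha0, sub_add_cancel]⟩)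
  have h2 : z ∉ Submodule.span F {w - z} := fun h => by
    obtain ⟨a, ha⟩ := Submodule.mem_span_singleton.mp h
    by_cases h0 : 1 + a = 0
    · have : a = -1 := eq_neg_of_add_eq_zero_right h0
      rw [this, neg_one_smul, neg_sub] at ha
      exact hw0 (by simpa using ha)
    exact hzU (Submodule.mem_span_pair.mpr ⟨0, (1 + a)⁻¹ * a, by
      rw [zero_smul, zero_add, mul_smul, inv_smul_eq_iff₀ h0, add_smul, one_smul]
      nth_rw 1 [← sub_add_cancel w z]
      rw [smul_add, ha]⟩)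
  obtain ⟨g, hg, hgi, hgv⟩ := step v z hv hz h1
  obtain ⟨g', hg', hgi', hgz⟩ := step z w hz hw h2
  exact ⟨g' * g, mul_mem hg' hg, mul_mem hgi' hgi, by
    rw [Units.val_mul, ← mulVec_mulVec, hgv, hgz]⟩

/-- An element fixing `W₁` but not `W₂` yields an element centred in `W₁`. -/
theorem exists_z_of_not_fix (hm : 3 ≤ m)
    {M : Subgroup (GL ι F)} (hE : ∀ v ∈ W₁, ∀ u ∈ W₂, f v u = 0 → E f c v u ∈ M)
    {h : GL ι F} (hh : h ∈ M) (hhi : h ∈ isom f)
    (h1 : ∀ x ∈ W₁, (h : Matrix ι ι F) *ᵥ x ∈ W₁)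
    (h2 : ¬ ∀ x ∈ W₂, (h : Matrix ι ι F) *ᵥ x ∈ W₂) :
    ∃ v' ∈ W₁, v' ≠ 0 ∧ ∃ w ∈ W₁, w ∉ Submodule.span F {v'} ∧ ∃ d : F, ∃ z ∈ M,
      ∀ x, (z : Matrix ι ι F) *ᵥ x =
        x + f x w • v' + (c * f x v') • w + (d * f x v') • v' := by
  classical
  simp only [not_forall] at h2
  obtain ⟨u, hu, hhu⟩ := h2
  obtain ⟨w, hw, u', hu', hdec⟩ := hp.exists_add ((h : Matrix ι ι F) *ᵥ u)
  have hw0 : w ≠ 0 := fun h0 => hhu (by rw [← hdec, h0, zero_add]; exact hu')
  set hi := ((h⁻¹ : GL ι F) : Matrix ι ι F)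
  -- a vector of `W₁`, orthogonal to `u`, with image outside the line of `w`
  obtain ⟨v, hv, hvu, hvw⟩ : ∃ v ∈ W₁, f v u = 0 ∧ hi *ᵥ w ∉ Submodule.span F {v} ∧ v ≠ 0 := by
    have hdim : 2 ≤ Module.finrank F ↥(W₁ ⊓ LinearMap.ker (lm hf u)) := by
      have e1 := Submodule.finrank_sup_add_finrank_inf_eq W₁ (LinearMap.ker (lm hf u))
      have e2 := LinearMap.finrank_range_add_finrank_ker (lm hf u)
      have e3 := Submodule.finrank_le (LinearMap.range (lm hf u))
      have e4 := Submodule.finrank_le (W₁ ⊔ LinearMap.ker (lm hf u))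
      rw [hp.fin₁] at e1
      simp at e2 e3 e4
      omega
    have : ¬ (W₁ ⊓ LinearMap.ker (lm hf u) ≤ Submodule.span F {hi *ᵥ w}) := fun hle => by
      have e5 := Submodule.finrank_mono hle
      have e6 := finrank_span_le_card (R := F) ({hi *ᵥ w} : Set (ι → F))
      simp at e6
      omega
    obtain ⟨v, hv, hvn⟩ := SetLike.not_le_iff_exists.mp this
    refine ⟨v, hv.1, hv.2, fun hmem => ?_, fun h0 => hvn (h0 ▸ zero_mem _)⟩
    obtain ⟨a, ha⟩ := Submodule.mem_span_singleton.mp hmem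
    refine hvn (Submodule.mem_span_singleton.mpr ⟨a⁻¹, ?_⟩)
    have ha0 : a ≠ 0 := fun h0 => by
      rw [h0, zero_smul] at ha
      exact hw0 (by rw [← mulVec_inv_mulVec h w, ← ha, mulVec_zero])
    rw [← ha, smul_smul, inv_mul_cancel₀ ha0, one_smul]
  obtain ⟨hvw, hv0⟩ := hvw
  set v' := (h : Matrix ι ι F) *ᵥ v with hv'def
  have hv' : v' ∈ W₁ := h1 v hv
  have hwv' : w ∉ Submodule.span F {v'} := fun hmem => by
    obtain ⟨a, ha⟩ := Submodule.mem_span_singleton.mp hmem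
    exact hvw (Submodule.mem_span_singleton.mpr
      ⟨a, by rw [← ha, hv'def, mulVec_smul, inv_mulVec_mulVec]⟩)
  have hv'v' := hp.iso₁ _ hv' _ hv'
  have hww := hp.iso₁ _ hw _ hw
  have hwv := hp.iso₁ _ hw _ hv'
  have hv'w := hp.iso₁ _ hv' _ hw
  have hv'u' : f v' u' = 0 := by
    have e := mem_isom.mp hhi v u
    rw [← hdec, hvu, hf.add_right, hv'w, zero_add] at e
    exact e
  have hu'u' := hp.iso₂ _ hu' _ hu'
  -- the element `z`
  set z := h * E f c v u * h⁻¹ * E f c v' (-u') with hz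
  have hzM : z ∈ M := mul_mem (mul_mem (mul_mem hh (hE v hv u hu hvu)) (inv_mem hh))
    (hE v' hv' _ (neg_mem hu') (by rw [neg_right hf, hv'u', neg_zero]))
  set d := -(c * f u' w) with hd
  have hzx : ∀ x, (z : Matrix ι ι F) *ᵥ x =
      x + f x w • v' + (c * f x v') • w + (d * f x v') • v' := by
    intro x
    have e1 : f v' ((h : Matrix ι ι F) *ᵥ u) = 0 := (mem_isom.mp hhi v u).trans hvu
    have e2 : f ((h : Matrix ι ι F) *ᵥ u) ((h : Matrix ι ι F) *ᵥ u) = 0 :=
      (mem_isom.mp hhi u u).trans (hp.iso₂ u hu u hu)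
    rw [hz, E_conj hf hhi (hp.iso₁ v hv v hv) (hp.iso₂ u hu u hu) hvu, Units.val_mul,
      ← mulVec_mulVec, E_mulVec hf hv'v' e2 e1,
      E_mulVec hf hv'v' (hp.iso₂ _ (neg_mem hu') _ (neg_mem hu'))
        (by rw [neg_right hf, hv'u', neg_zero]), ← hdec]
    have e3 : f (-u') w = -f u' w := by rw [← neg_one_smul F u', hf.smul_left, neg_one_mul]
    have e4 : f (-u') v' = 0 := by
      rw [← neg_one_smul F u', hf.smul_left, eq_zero_comm hf hv'u', mul_zero]
    have e5 : f (-u') u' = 0 := by rw [← neg_one_smul F u', hf.smul_left, hu'u', mul_zero]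
    simp only [hf.add_left, hf.smul_left, hf.add_right, neg_right hf, hv'v', hv'w, hv'u', hu'u',
      eq_zero_comm hf hv'u', hd, smul_neg, neg_smul, e3, e4, e5, neg_left hf]
    module
  exact ⟨v', hv', mulVec_ne_zero h hv0, w, hw, hwv', d, z, hzM, hzx⟩

/-- An element fixing `W₁` but not `W₂` yields all transvections centred in `W₁`. -/
theorem T_mem_of_not_fix (hm : 3 ≤ m) (htr : ∀ a, c * s a = a → ∃ t, s t + c * t = a)
    {M : Subgroup (GL ι F)} (hE : ∀ v ∈ W₁, ∀ u ∈ W₂, f v u = 0 → E f c v u ∈ M)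
    {h : GL ι F} (hh : h ∈ M) (hhi : h ∈ isom f)
    (h1 : ∀ x ∈ W₁, (h : Matrix ι ι F) *ᵥ x ∈ W₁)
    (h2 : ¬ ∀ x ∈ W₂, (h : Matrix ι ι F) *ᵥ x ∈ W₂) :
    ∀ v ∈ W₁, ∀ a, c * s a = a → T f v a ∈ M := by
  obtain ⟨v', hv', hv'0', w, hw, hwv', d, z, hzM, hzx⟩ :=
    exists_z_of_not_fix hf hp hm hE hh hhi h1 h2
  have hv'v' := hp.iso₁ _ hv' _ hv'
  have hwv := hp.iso₁ _ hw _ hv'
  obtain ⟨u₁, hu₁, hwu₁, hu₁U⟩ := exists_dual_mem hf hp hw hwv'
  have hv'u₁ : f v' u₁ = 0 := hu₁U _ hv' (Submodule.mem_span_singleton_self _)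
  have key : ∀ t : F, T f v' (s t + c * t) ∈ M := by
    intro t
    have h0 : f v' (s t • u₁) = 0 := by rw [hf.smul_right, hv'u₁, mul_zero]
    have hu₂ : s t • u₁ ∈ W₂ := W₂.smul_mem _ hu₁
    have hu₂u₂ := hp.iso₂ _ hu₂ _ hu₂
    set e := E f c v' (s t • u₁) with he
    have hei : e ∈ isom f := E_mem_isom hf hv'v' hu₂u₂ h0
    have hev : (e : Matrix ι ι F) *ᵥ v' = v' := by
      rw [he, E_mulVec hf hv'v' hu₂u₂ h0, h0, hv'v']; simp
    have hew : (e : Matrix ι ι F) *ᵥ w = w + t • v' := by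
      rw [he, E_mulVec hf hv'v' hu₂u₂ h0, hf.smul_right, hwu₁, hwv, hf.invol]; simp
    have heM : e ∈ M := hE v' hv' _ hu₂ h0
    have hconj : ∀ y, f (((e⁻¹ : GL ι F) : Matrix ι ι F) *ᵥ y) w = f y (w + t • v') ∧
        f (((e⁻¹ : GL ι F) : Matrix ι ι F) *ᵥ y) v' = f y v' := fun y => by
      constructor
      · rw [← hew]
        conv_rhs => rw [← mulVec_inv_mulVec e y, mem_isom.mp hei]
      · conv_rhs => rw [← hev, ← mulVec_inv_mulVec e y, mem_isom.mp hei]
    have heq : e * z * e⁻¹ = T f v' (s t + c * t) * z := by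
      refine gl_ext fun x => ?_
      rw [Units.val_mul, Units.val_mul, Units.val_mul, ← mulVec_mulVec, ← mulVec_mulVec,
        ← mulVec_mulVec, hzx, hzx, T_mulVec hf hv'v', mulVec_add, mulVec_add, mulVec_add,
        mulVec_smul, mulVec_smul, mulVec_smul, mulVec_inv_mulVec, hev, hew, (hconj x).1,
        (hconj x).2]
      simp only [hf.add_left, hf.smul_left, hf.add_right, hf.smul_right, hv'v', hwv]
      module
    have := mul_mem (mul_mem (mul_mem heM hzM) (inv_mem heM)) (inv_mem hzM)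
    rwa [heq, mul_assoc, mul_inv_cancel, mul_one] at this
  intro x hx a ha
  obtain ⟨t, rfl⟩ := htr a ha
  by_cases hx0 : x = 0
  · rw [T, hx0, tv_zero_left]; exact one_mem M
  have hv'0 : v' ≠ 0 := hv'0'
  obtain ⟨g, hg, hgi, hgv⟩ := exists_move hf hp hm hE hv' hx hv'0 hx0
  rw [← hgv, ← T_conj hf hgi hv'v']
  exact mul_mem (mul_mem hg (key t)) (inv_mem hg)

/-- An isotropic vector is a centre once those of both subspaces are. -/
theorem T_mem_of_both {θ : F} (hθ : θ ≠ 0) (hθc : c * s θ = θ) {M : Subgroup (GL ι F)}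
    (hM₁ : ∀ v ∈ W₁, ∀ a, c * s a = a → T f v a ∈ M)
    (hM₂ : ∀ v ∈ W₂, ∀ a, c * s a = a → T f v a ∈ M)
    {v : ι → F} (hv : f v v = 0) {a : F} (ha : c * s a = a) : T f v a ∈ M := by
  have good : ∀ x ∈ W₁, ∀ y ∈ W₂, f (x + y) (x + y) = 0 → f x y ≠ 0 →
      ∀ a, c * s a = a → T f (x + y) a ∈ M := by
    intro x hx y hy hiso hne a ha
    have hxx := hp.iso₁ x hx x hx
    have hyy := hp.iso₂ y hy y hy
    have h1 : f x y + f y x = 0 := by
      rw [hf.add_left, hf.add_right, hf.add_right, hxx, hyy, zero_add, add_zero] at hiso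
      exact hiso
    have hs : s (f x y) = c * f x y := by
      rw [hf.swap y x]
      linear_combination (-c) * h1
    have hb : c * s (-(f x y)⁻¹) = -(f x y)⁻¹ := by
      rw [map_neg, map_inv₀, hs, mul_inv, mul_neg, ← mul_assoc,
        mul_inv_cancel₀ (c_ne hf), one_mul]
    have hti := T_mem_isom hf hyy hb
    have hmap : (T f y (-(f x y)⁻¹) : Matrix ι ι F) *ᵥ (x + y) = x := by
      rw [T_mulVec hf hyy, hf.add_left, hyy, add_zero, neg_mul, inv_mul_cancel₀ hne, neg_one_smul,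
        add_neg_cancel_right]
    have h2 := hM₁ x hx a ha
    rw [← hmap, ← T_conj hf hti hiso] at h2
    have h3 := mul_mem (mul_mem (inv_mem (hM₂ y hy _ hb)) h2) (hM₂ y hy _ hb)
    simpa [mul_assoc] using h3
  obtain ⟨x, hx, y, hy, rfl⟩ := hp.exists_add v
  by_cases hx0 : x = 0
  · rw [hx0, zero_add]; exact hM₂ y hy a ha
  by_cases hy0 : y = 0
  · rw [hy0, add_zero]; exact hM₁ x hx a ha
  by_cases hne : f x y = 0
  · obtain ⟨z, hz, hxz, -⟩ := exists_dual_mem hf hp (U := ⊥) hx (by simpa using hx0)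
    have hzz := hp.iso₂ z hz z hz
    have hti := T_mem_isom hf hzz hθc
    have hmap : (T f z θ : Matrix ι ι F) *ᵥ (x + y) = x + (y + θ • z) := by
      rw [T_mulVec hf hzz, hf.add_left, hxz, hp.iso₂ y hy z hz, add_zero, mul_one, add_assoc]
    have hiso : f (x + (y + θ • z)) (x + (y + θ • z)) = 0 := by
      rw [← hmap, mem_isom.mp hti]; exact hv
    have h2 := good x hx _ (add_mem hy (W₂.smul_mem θ hz)) hiso
      (by rw [hf.add_right, hf.smul_right, hne, hxz, zero_add, mul_one]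
          exact (map_ne_zero s).mpr hθ) a ha
    rw [← hmap, ← T_conj hf hti hv] at h2
    have h3 := mul_mem (mul_mem (inv_mem (hM₂ z hz _ hθc)) h2) (hM₂ z hz _ hθc)
    simpa [mul_assoc] using h3
  · exact good x hx y hy hv hne a ha

/-- An element interchanging the two subspaces, as a product of transvections. -/
theorem exists_swap {θ : F} (hθ : θ ≠ 0) (hθc : c * s θ = θ) {G : Subgroup (GL ι F)}
    (hT : ∀ v a, f v v = 0 → c * s a = a → T f v a ∈ G) (hGi : G ≤ isom f) :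
    ∃ g ∈ G, (∀ x ∈ W₁, (g : Matrix ι ι F) *ᵥ x ∈ W₂) ∧
      ∀ x ∈ W₂, (g : Matrix ι ι F) *ᵥ x ∈ W₁ := by
  classical
  let b := Module.finBasisOfFinrankEq F W₁ hp.fin₁
  choose e' he' hee' using fun i => exists_rep_mem hf hp (b.coord i)
  set e : Fin m → ι → F := fun i => (b i : ι → F) with he
  have hef : ∀ i j, f (e j) (e' i) = if j = i then 1 else 0 := fun i j => by
    rw [he]; simp only [hee', Module.Basis.coord_apply, Module.Basis.repr_self,
      Finsupp.single_apply]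
  have hfe : ∀ i j, f (e' i) (e j) = if j = i then -c else 0 := fun i j => by
    have h1 := congrArg s (hf.swap (e j) (e' i))
    rw [hf.invol, hef] at h1
    rw [h1]
    split_ifs <;> simp [hf.map_c]
  have hei : ∀ i, f (e i) (e i) = 0 := fun i => hp.iso₁ _ (b i).2 _ (b i).2
  have he'i : ∀ i, f (e' i) (e' i) = 0 := fun i => hp.iso₂ _ (he' i) _ (he' i)
  have hb : c * s (c / θ) = c / θ := by
    rw [map_div₀, hf.map_c, ← mul_div_assoc, hf.c_sq]
    have : s θ = c * θ := by linear_combination c * hθc - s θ * hf.c_sq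
    rw [this]
    field_simp [c_ne hf, hθ]
    linear_combination -hf.c_sq
  suffices hS : ∀ S : Finset (Fin m), ∃ g ∈ G,
      ∀ i, (i ∈ S → (g : Matrix ι ι F) *ᵥ e i ∈ W₂ ∧ (g : Matrix ι ι F) *ᵥ e' i ∈ W₁) ∧
        (i ∉ S → (g : Matrix ι ι F) *ᵥ e i = e i ∧ (g : Matrix ι ι F) *ᵥ e' i = e' i) by
    obtain ⟨g, hg, hgS⟩ := hS Finset.univ
    have hmap : ∀ x ∈ W₁, (g : Matrix ι ι F) *ᵥ x ∈ W₂ := fun x hx => by
      have e1 : x = ∑ i, b.repr ⟨x, hx⟩ i • e i := by
        have h := congrArg Subtype.val (b.sum_repr ⟨x, hx⟩).symm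
        refine h.trans ?_
        simp only [e, Submodule.coe_sum, Submodule.coe_smul]
      rw [e1, mulVec_sum]
      exact sum_mem fun i _ => by
        rw [mulVec_smul]; exact W₂.smul_mem _ ((hgS i).1 (Finset.mem_univ i)).1
    refine ⟨g, hg, hmap, fun x hx => ?_⟩
    have hspan : x = ∑ i, s (f (e i) x) • e' i := by
      refine sub_eq_zero.mp (hf.nondeg _ fun z => ?_)
      obtain ⟨p, hp1, p', hp2, rfl⟩ := hp.exists_add z
      have e1 : p = ∑ i, b.repr ⟨p, hp1⟩ i • e i := by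
        have h := congrArg Subtype.val (b.sum_repr ⟨p, hp1⟩).symm
        refine h.trans ?_
        simp only [e, Submodule.coe_sum, Submodule.coe_smul]
      have hsum : ∑ i, s (f (e i) x) • e' i ∈ W₂ := sum_mem fun i _ => W₂.smul_mem _ (he' i)
      rw [hf.add_left, hp.iso₂ _ hp2 _ (sub_mem hx hsum), add_zero, e1, ← lm_apply hf,
        map_sum]
      refine Finset.sum_eq_zero fun j _ => ?_
      rw [map_smul, lm_apply, sub_right hf]
      have e2 : f (e j) (∑ i, s (f (e i) x) • e' i) = f (e j) x := by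
        let R : (ι → F) →+ F :=
          { toFun := f (e j), map_zero' := zero_right hf _, map_add' := hf.add_right _ }
        show R _ = _
        rw [map_sum, Finset.sum_eq_single j]
        · show f (e j) _ = _
          rw [hf.smul_right, hf.invol, hef, if_pos rfl, mul_one]
        · intro i _ hij
          show f (e j) _ = _
          rw [hf.smul_right, hef, if_neg (Ne.symm hij), mul_zero]
        · simp
      rw [e2, sub_self, smul_zero]
    rw [hspan, mulVec_sum]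
    exact sum_mem fun i _ => by
      rw [mulVec_smul]; exact W₁.smul_mem _ ((hgS i).1 (Finset.mem_univ i)).2
  intro S
  induction S using Finset.induction with
  | empty => exact ⟨1, one_mem G, fun i => by simp⟩
  | insert j S hj ih =>
    obtain ⟨g, hg, hgS⟩ := ih
    set t := T f (e j) θ * T f (e' j) (c / θ) * T f (e j) θ with ht
    have htG : t ∈ G := mul_mem (mul_mem (hT _ _ (hei j) hθc) (hT _ _ (he'i j) hb))
      (hT _ _ (hei j) hθc)
    have hA : θ * (c / θ) * -c = -1 := by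
      field_simp
      linear_combination -hf.c_sq
    have ha1 : (T f (e j) θ : Matrix ι ι F) *ᵥ e j = e j := by simp [T_mulVec hf (hei j), hei]
    have ht1 : (t : Matrix ι ι F) *ᵥ e j = (c / θ) • e' j := by
      rw [ht, Units.val_mul, Units.val_mul, ← mulVec_mulVec, ← mulVec_mulVec, ha1,
        T_mulVec hf (he'i j), hef, if_pos rfl, mul_one, mulVec_add, mulVec_smul, ha1,
        T_mulVec hf (hei j), hfe, if_pos rfl, smul_add, smul_smul,
        show c / θ * (θ * -c) = -1 by linear_combination hA]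
      module
    have ht2 : (t : Matrix ι ι F) *ᵥ e' j = (θ * -c) • e j := by
      have hb2 : (T f (e' j) (c / θ) : Matrix ι ι F) *ᵥ e' j = e' j := by
        simp [T_mulVec hf (he'i j), he'i]
      have hb1 : (T f (e' j) (c / θ) : Matrix ι ι F) *ᵥ e j = e j + (c / θ) • e' j := by
        rw [T_mulVec hf (he'i j), hef, if_pos rfl, mul_one]
      have ha2 : (T f (e j) θ : Matrix ι ι F) *ᵥ e' j = e' j + (θ * -c) • e j := by
        rw [T_mulVec hf (hei j), hfe, if_pos rfl]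
      rw [ht, Units.val_mul, Units.val_mul, ← mulVec_mulVec, ← mulVec_mulVec, ha2, mulVec_add,
        mulVec_smul, hb1, hb2, smul_add, smul_smul,
        show θ * -c * (c / θ) = -1 by linear_combination hA,
        show e' j + ((θ * -c) • e j + (-1 : F) • e' j) = (θ * -c) • e j by module,
        mulVec_smul, ha1]
    have ht3 : ∀ i, i ≠ j → (t : Matrix ι ι F) *ᵥ e i = e i ∧ (t : Matrix ι ι F) *ᵥ e' i = e' i := by
      intro i hij
      have h1 : f (e i) (e j) = 0 := hp.iso₁ _ (b i).2 _ (b j).2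
      have h2 : f (e' i) (e' j) = 0 := hp.iso₂ _ (he' i) _ (he' j)
      constructor <;>
        simp [ht, Units.val_mul, ← mulVec_mulVec, T_mulVec hf (hei j), T_mulVec hf (he'i j), h1,
          h2, hef, hfe, hij, Ne.symm hij]
    refine ⟨t * g, mul_mem htG hg, fun i => ⟨fun hi => ?_, fun hi => ?_⟩⟩
    · rw [Units.val_mul, ← mulVec_mulVec, ← mulVec_mulVec]
      rcases Finset.mem_insert.mp hi with rfl | hiS
      · rw [((hgS i).2 hj).1, ((hgS i).2 hj).2, ht1, ht2]
        exact ⟨W₂.smul_mem _ (he' i), W₁.smul_mem _ (b i).2⟩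
      · obtain ⟨h1, h2⟩ := (hgS i).1 hiS
        -- the images are fixed combinations avoiding index `j`
        have hz : ∀ z, f z (e j) = 0 → f z (e' j) = 0 → (t : Matrix ι ι F) *ᵥ z = z := by
          intro z z1 z2
          simp [ht, Units.val_mul, ← mulVec_mulVec, T_mulVec hf (hei j), T_mulVec hf (he'i j),
            z1, z2]
        have hjj := (hgS j).2 hj
        have hgi : ∀ x y, f ((g : Matrix ι ι F) *ᵥ x) ((g : Matrix ι ι F) *ᵥ y) = f x y :=
          mem_isom.mp (hGi hg)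
        have hij : i ≠ j := fun h => hj (h ▸ hiS)
        rw [hz _ (by rw [← hjj.1, hgi]; exact hp.iso₁ _ (b i).2 _ (b j).2)
            (by rw [← hjj.2, hgi, hef, if_neg hij]),
          hz _ (by rw [← hjj.1, hgi, hfe, if_neg (Ne.symm hij)])
            (by rw [← hjj.2, hgi]; exact hp.iso₂ _ (he' i) _ (he' j))]
        exact ⟨h1, h2⟩
    · simp only [Finset.mem_insert, not_or] at hi
      rw [Units.val_mul, ← mulVec_mulVec, ← mulVec_mulVec, ((hgS i).2 hi.2).1,
        ((hgS i).2 hi.2).2]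
      exact ht3 i hi.1

/-- An invariant complement of a third isotropic subspace meeting `W₁` in three dimensions. -/
theorem eq_of_invariant {W W' : Submodule F (ι → F)} (hW : IsPair f m W W')
    {A : Submodule F (ι → F)} (hA₁ : A ≤ W₁) (hA₂ : A ≤ W) (hA : 3 ≤ Module.finrank F A)
    (hinv : ∀ v ∈ A, ∀ u ∈ W₂, f v u = 0 → ∀ w ∈ W', f w u • v + (c * f w v) • u ∈ W') :
    W' = W₂ := by
  classical
  by_contra hne
  obtain ⟨w₀, hw₀, hw₀2⟩ : ∃ w ∈ W', w ∉ W₂ := by
    by_contra hc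
    simp only [not_exists, not_and, not_not] at hc
    exact hne (Submodule.eq_of_le_of_finrank_eq hc (by rw [hW.fin₂, hp.fin₂]))
  obtain ⟨e₀, he₀, y₀, hy₀, hdec₀⟩ := hp.exists_add w₀
  have he₀0 : e₀ ≠ 0 := fun h => hw₀2 (by rw [← hdec₀, h, zero_add]; exact hy₀)
  -- `X`: orthogonal to `W' ⊓ W₂`
  let X : (ι → F) → Prop := fun e => e ∈ W₁ ∧ ∀ u ∈ W₂, u ∈ W' → f e u = 0
  have hX : ∀ e ∈ W₁, ∀ y ∈ W₂, e + y ∈ W' → X e := fun e he y hy hmem => ⟨he, fun u hu hu' => by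
    have := hW.iso₂ _ hmem u hu'
    rwa [hf.add_left, hp.iso₂ y hy u hu, add_zero] at this⟩
  have he₀X : X e₀ := hX e₀ he₀ y₀ hy₀ (hdec₀ ▸ hw₀)
  -- the main property
  have key : ∀ v ∈ A, v ≠ 0 → X v ∧ ∃ x, ∀ e, X e →
      e ∈ Submodule.span F (({v, x} : Finset (ι → F)) : Set (ι → F)) := by
    intro v hvA hv0
    have hv := hA₁ hvA
    obtain ⟨w, hw, hwv⟩ : ∃ w ∈ W', f w v ≠ 0 := by
      by_contra hc
      simp only [not_exists, not_and, not_not] at hc
      refine hv0 (hf.nondeg v fun z => ?_)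
      obtain ⟨p, hp1, p', hp2, rfl⟩ := hW.exists_add z
      rw [hf.add_left, hW.iso₁ p hp1 v (hA₂ hvA), hc p' hp2, add_zero]
    obtain ⟨x, hx, y, hy, rfl⟩ := hp.exists_add w
    have hfu : ∀ u ∈ W₂, f (x + y) u = f x u := fun u hu => by
      rw [hf.add_left, hp.iso₂ y hy u hu, add_zero]
    have hfv : f (x + y) v = f y v := by rw [hf.add_left, hp.iso₁ x hx v hv, zero_add]
    have hyv : f y v ≠ 0 := hfv ▸ hwv
    have hspan : ∀ e, X e → e ∈ Submodule.span F (({v, x} : Finset (ι → F)) : Set (ι → F)) := by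
      intro e he
      by_contra hcon
      obtain ⟨u, hu, heu, huU⟩ := exists_dual_mem hf hp he.1 hcon
      have hvu : f v u = 0 := huU v hv (Submodule.subset_span (by simp))
      have hmem := hinv v hvA u hu hvu _ hw
      rw [hfu u hu, huU x hx (Submodule.subset_span (by simp)), zero_smul, zero_add, hfv] at hmem
      exact one_ne_zero (heu.symm.trans (he.2 u hu
        ((Submodule.smul_mem_iff _ (mul_ne_zero (c_ne hf) hyv)).mp hmem)))
    refine ⟨?_, x, hspan⟩
    by_cases hxv : x ∈ Submodule.span F {v}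
    · have h1 : e₀ ∈ Submodule.span F {v} := by
        refine (Submodule.span_le.mpr ?_) (hspan e₀ he₀X)
        intro z hz
        simp only [Finset.coe_insert, Finset.coe_singleton, Set.mem_insert_iff,
          Set.mem_singleton_iff] at hz
        rcases hz with rfl | rfl
        · exact Submodule.mem_span_singleton_self _
        · exact hxv
      obtain ⟨a, ha⟩ := Submodule.mem_span_singleton.mp h1
      have ha0 : a ≠ 0 := fun h0 => he₀0 (by rw [← ha, h0, zero_smul])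
      refine ⟨hv, fun u hu hu' => ?_⟩
      have := he₀X.2 u hu hu'
      rw [← ha, hf.smul_left] at this
      exact (mul_eq_zero.mp this).resolve_left ha0
    · obtain ⟨u, hu, hxu, huU⟩ := exists_dual_mem hf hp hx hxv
      have hvu : f v u = 0 := huU v hv (Submodule.mem_span_singleton_self _)
      have hmem := hinv v hvA u hu hvu _ hw
      rw [hfu u hu, hxu, one_smul] at hmem
      exact hX v hv _ (W₂.smul_mem _ hu) hmem
  obtain ⟨v, hvA, hv0⟩ := A.ne_bot_iff.mp fun h => by rw [h, finrank_bot] at hA; omega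
  obtain ⟨-, x, hx⟩ := key v hvA hv0
  have : A ≤ Submodule.span F (({v, x} : Finset (ι → F)) : Set (ι → F)) := fun e he => by
    by_cases he0 : e = 0
    · rw [he0]; exact zero_mem _
    · exact hx e (key e he he0).1
  have h1 := (Submodule.finrank_mono this).trans
    ((finrank_span_finset_le_card _).trans Finset.card_le_two)
  omega

/-- A totally isotropic invariant subspace of full dimension is `W₁` or `W₂`. -/
theorem eq_or_eq_of_invariant (hm : 3 ≤ m) {Z : Submodule F (ι → F)}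
    (hZd : Module.finrank F Z = m)
    (hinv : ∀ v ∈ W₁, ∀ u ∈ W₂, f v u = 0 → ∀ z ∈ Z, f z u • v + (c * f z v) • u ∈ Z) :
    Z = W₁ ∨ Z = W₂ := by
  classical
  by_cases hle : Z ≤ W₁
  · exact Or.inl (Submodule.eq_of_le_of_finrank_eq hle (by rw [hZd, hp.fin₁]))
  refine Or.inr ?_
  obtain ⟨z, hz, hz1⟩ := SetLike.not_le_iff_exists.mp hle
  obtain ⟨x, hx, y, hy, hdec⟩ := hp.exists_add z
  have hy0 : y ≠ 0 := fun h => hz1 (by rw [← hdec, h, add_zero]; exact hx)
  obtain ⟨u₀, hu₀, hu₀Z, hu₀0⟩ : ∃ u ∈ W₂, u ∈ Z ∧ u ≠ 0 := by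
    by_cases hx0 : x = 0
    · exact ⟨y, hy, by rw [← hdec, hx0, zero_add] at hz; exact hz, hy0⟩
    obtain ⟨v, hv, hvy, -⟩ := exists_dual_mem hf hp.symm (U := ⊥) hy (by simpa using hy0)
    obtain ⟨e, he, heU⟩ := exists_notMem hf hp
      (U := Submodule.span F (({v, x} : Finset (ι → F)) : Set (ι → F)))
      (lt_of_le_of_lt ((finrank_span_finset_le_card _).trans Finset.card_le_two) (by omega))
    obtain ⟨u, hu, heu, huU⟩ := exists_dual_mem hf hp he heU
    have hvu : f v u = 0 := huU v hv (Submodule.subset_span (by simp))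
    have hmem := hinv v hv u hu hvu z hz
    rw [← hdec, hf.add_left, hf.add_left, huU x hx (Submodule.subset_span (by simp)),
      hp.iso₂ y hy u hu, hp.iso₁ x hx v hv, hvy] at hmem
    simp only [zero_add, zero_smul, mul_one, Submodule.smul_mem_iff _ (c_ne hf)] at hmem
    exact ⟨u, hu, hmem, fun h => by rw [h, zero_right hf] at heu; exact zero_ne_one heu⟩
  refine (Submodule.eq_of_le_of_finrank_eq (fun u hu => ?_) (by rw [hZd, hp.fin₂])).symm
  by_cases hdep : u₀ ∈ Submodule.span F {u}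
  · obtain ⟨a, ha⟩ := Submodule.mem_span_singleton.mp hdep
    have ha0 : a ≠ 0 := fun h => hu₀0 (by rw [← ha, h, zero_smul])
    exact (Submodule.smul_mem_iff _ ha0).mp (ha ▸ hu₀Z)
  · obtain ⟨v, hv, hu₀v, hvU⟩ := exists_dual_mem hf hp.symm hu₀ hdep
    have huv : f u v = 0 := hvU u hu (Submodule.mem_span_singleton_self _)
    have hmem := hinv v hv u hu (eq_zero_comm hf huv) u₀ hu₀Z
    rw [hp.iso₂ u₀ hu₀ u hu, zero_smul, zero_add, hu₀v, mul_one,
      Submodule.smul_mem_iff _ (c_ne hf)] at hmem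
    exact hmem

end Pair

/-- The stabiliser of the pair is maximal, given what the one-sided cases yield. -/
theorem isMaximalIn_of_cores [Finite F] (hf : IsPairForm s c f) {m : ℕ} (hm : 5 ≤ m)
    {D : Fin 2 → Submodule F (ι → F)} (hp : IsPair f m (D 0) (D 1))
    {G : Subgroup (GL ι F)} (hG : G ≤ isom f)
    (hEG : ∀ v ∈ D 0, ∀ u ∈ D 1, f v u = 0 → E f c v u ∈ G ∧ E f c u v ∈ G)
    (hne : ∃ x ∈ G, x ∉ Geo.decompositionStabilizer D)
    {w : GL ι F} (hwG : w ∈ G) (hw0 : ∀ x ∈ D 0, (w : Matrix ι ι F) *ᵥ x ∈ D 1)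
    (hw1 : ∀ x ∈ D 1, (w : Matrix ι ι F) *ᵥ x ∈ D 0)
    (hfull : ∀ M : Subgroup (GL ι F), M ≤ G →
      (∀ v ∈ D 0, ∀ u ∈ D 1, f v u = 0 → E f c v u ∈ M) →
      (∀ u ∈ D 1, ∀ v ∈ D 0, f u v = 0 → E f c u v ∈ M) → w ∈ M → ∀ h ∈ M,
      ((∀ x ∈ D 0, (h : Matrix ι ι F) *ᵥ x ∈ D 0) ∧ ¬ ∀ x ∈ D 1, (h : Matrix ι ι F) *ᵥ x ∈ D 1) ∨
      ((∀ x ∈ D 1, (h : Matrix ι ι F) *ᵥ x ∈ D 1) ∧ ¬ ∀ x ∈ D 0, (h : Matrix ι ι F) *ᵥ x ∈ D 0) →
      G ≤ M) :
    Geo.IsMaximalIn G (Geo.decompositionStabilizer D ⊓ G) := by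
  classical
  refine MaxSub.isMaximalIn_of inf_le_right ?_ fun M hHM hMK g hg hgH => ?_
  · obtain ⟨x, hx, hx'⟩ := hne
    exact ⟨x, hx, fun h => hx' h.1⟩
  have hiso : ∀ x ∈ M, x ∈ isom f := fun x hx => hG (hMK hx)
  have hE : ∀ v ∈ D 0, ∀ u ∈ D 1, f v u = 0 → E f c v u ∈ M := by
    intro v hv u hu hvu
    have hvv := hp.iso₁ v hv v hv
    have huu := hp.iso₂ u hu u hu
    refine hHM ⟨mem_stab_of_fix (fun x hx => ?_) (fun x hx => ?_), (hEG v hv u hu hvu).1⟩
    · rw [E_mulVec hf hvv huu hvu, hp.iso₁ x hx v hv, mul_zero, zero_smul, add_zero]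
      exact add_mem hx ((D 0).smul_mem _ hv)
    · rw [E_mulVec hf hvv huu hvu, hp.iso₂ x hx u hu, zero_smul, add_zero]
      exact add_mem hx ((D 1).smul_mem _ hu)
  have hE' : ∀ u ∈ D 1, ∀ v ∈ D 0, f u v = 0 → E f c u v ∈ M := by
    intro u hu v hv huv
    have hvv := hp.iso₁ v hv v hv
    have huu := hp.iso₂ u hu u hu
    refine hHM ⟨mem_stab_of_fix (fun x hx => ?_) (fun x hx => ?_),
      (hEG v hv u hu (eq_zero_comm hf huv)).2⟩
    · rw [E_mulVec hf huu hvv huv, hp.iso₁ x hx v hv, zero_smul, add_zero]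
      exact add_mem hx ((D 0).smul_mem _ hv)
    · rw [E_mulVec hf huu hvv huv, hp.iso₂ x hx u hu, mul_zero, zero_smul, add_zero]
      exact add_mem hx ((D 1).smul_mem _ hu)
  have hd : Module.finrank F (D 0) = Module.finrank F (D 1) := by rw [hp.fin₁, hp.fin₂]
  have hwM : w ∈ M := hHM ⟨mem_stab_of_swap hd hw0 hw1, hwG⟩
  by_cases hA : ∀ h ∈ M, (∀ x ∈ D 0, (h : Matrix ι ι F) *ᵥ x ∈ D 0) →
      ∀ x ∈ D 1, (h : Matrix ι ι F) *ᵥ x ∈ D 1
  swap
  · simp only [not_forall] at hA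
    obtain ⟨h, hh, h1, hbad⟩ := hA
    exact hfull M hMK hE hE' hwM h hh (Or.inl ⟨h1, by simpa only [not_forall] using hbad⟩)
  by_cases hB : ∀ h ∈ M, (∀ x ∈ D 1, (h : Matrix ι ι F) *ᵥ x ∈ D 1) →
      ∀ x ∈ D 0, (h : Matrix ι ι F) *ᵥ x ∈ D 0
  swap
  · simp only [not_forall] at hB
    obtain ⟨h, hh, h1, hbad⟩ := hB
    exact hfull M hMK hE hE' hwM h hh (Or.inr ⟨h1, by simpa only [not_forall] using hbad⟩)
  exfalso
  -- large intersection forces equality
  have hK : ∀ g ∈ M, ∀ A : Submodule F (ι → F), A ≤ D 0 → 3 ≤ Module.finrank F A →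
      (∀ a ∈ A, ((g⁻¹ : GL ι F) : Matrix ι ι F) *ᵥ a ∈ D 0) →
      ∀ x ∈ D 0, (g : Matrix ι ι F) *ᵥ x ∈ D 0 := by
    intro g hg A hA₁ hA3 hA₂
    let W := (D 0).map (Matrix.mulVecLin (g : Matrix ι ι F))
    let W' := (D 1).map (Matrix.mulVecLin (g : Matrix ι ι F))
    have hWW : IsPair f m W W' := by
      refine ⟨?_, ?_, ?_, ?_, ?_⟩
      · refine ⟨Submodule.disjoint_def.mpr ?_, codisjoint_iff.mpr ?_⟩
        · rintro _ ⟨x, hx, rfl⟩ ⟨y, hy, hxy⟩
          rw [hp.eq_zero hx ((mulVec_injective g hxy) ▸ hy), map_zero]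
        · rw [← Submodule.map_sup, hp.compl.sup_eq_top, Submodule.map_top,
            LinearMap.range_eq_top]
          exact fun x => ⟨_, mulVec_inv_mulVec g x⟩
      · rintro _ ⟨x, hx, rfl⟩ _ ⟨y, hy, rfl⟩
        exact (mem_isom.mp (hiso g hg) x y).trans (hp.iso₁ x hx y hy)
      · rintro _ ⟨x, hx, rfl⟩ _ ⟨y, hy, rfl⟩
        exact (mem_isom.mp (hiso g hg) x y).trans (hp.iso₂ x hx y hy)
      · rw [(Submodule.equivMapOfInjective _ (mulVec_injective g) _).symm.finrank_eq, hp.fin₁]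
      · rw [(Submodule.equivMapOfInjective _ (mulVec_injective g) _).symm.finrank_eq, hp.fin₂]
    have hAW : A ≤ W := fun a ha => ⟨_, hA₂ a ha, mulVec_inv_mulVec g a⟩
    have hW' : W' = D 1 := by
      refine eq_of_invariant hf hp hWW hA₁ hAW hA3 fun v hv u hu hvu w hw => ?_
      have hvv := hp.iso₁ v (hA₁ hv) v (hA₁ hv)
      have huu := hp.iso₂ u hu u hu
      obtain ⟨y, hy, rfl⟩ := hw
      have hk : g⁻¹ * E f c v u * g ∈ M :=
        mul_mem (mul_mem (inv_mem hg) (hE v (hA₁ hv) u hu hvu)) hg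
      have hk0 : ∀ x ∈ D 0,
          ((g⁻¹ * E f c v u * g : GL ι F) : Matrix ι ι F) *ᵥ x ∈ D 0 := by
        intro x hx
        rw [Units.val_mul, Units.val_mul, ← mulVec_mulVec, ← mulVec_mulVec,
          E_mulVec hf hvv huu hvu,
          hWW.iso₁ ((g : Matrix ι ι F) *ᵥ x) ⟨x, hx, rfl⟩ v (hAW hv), mul_zero, zero_smul, add_zero, mulVec_add,
          inv_mulVec_mulVec, mulVec_smul]
        exact add_mem hx ((D 0).smul_mem _ (hA₂ v hv))
      have h1 := Submodule.mem_map_of_mem (f := Matrix.mulVecLin (g : Matrix ι ι F))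
        (hA _ hk hk0 y hy)
      rw [Matrix.mulVecLin_apply, Units.val_mul, Units.val_mul, ← mulVec_mulVec, ← mulVec_mulVec,
        mulVec_inv_mulVec, E_mulVec hf hvv huu hvu, add_assoc] at h1
      exact (Submodule.add_mem_iff_right _ (Submodule.mem_map_of_mem
        (f := Matrix.mulVecLin (g : Matrix ι ι F)) hy)).mp h1
    exact hB g hg fun x hx => hW' ▸ Submodule.mem_map_of_mem
      (f := Matrix.mulVecLin (g : Matrix ι ι F)) hx
  have hgi := hiso g hg
  let Z := (D 0).map (Matrix.mulVecLin ((g⁻¹ : GL ι F) : Matrix ι ι F))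
  have hZd : Module.finrank F Z = m := by
    rw [(Submodule.equivMapOfInjective _ (mulVec_injective g⁻¹) _).symm.finrank_eq, hp.fin₁]
  have hinv : ∀ v ∈ D 0, ∀ u ∈ D 1, f v u = 0 → ∀ z ∈ Z, f z u • v + (c * f z v) • u ∈ Z := by
    intro v hv u hu hvu z hz
    obtain ⟨x, hx, rfl⟩ := hz
    have hvv := hp.iso₁ v hv v hv
    have huu := hp.iso₂ u hu u hu
    set t := g * E f c v u * g⁻¹ with ht
    have htM : t ∈ M := mul_mem (mul_mem hg (hE v hv u hu hvu)) (inv_mem hg)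
    have hte : ∀ y, (t : Matrix ι ι F) *ᵥ y = y + f y ((g : Matrix ι ι F) *ᵥ u) • ((g : Matrix ι ι F) *ᵥ v) +
        (c * f y ((g : Matrix ι ι F) *ᵥ v)) • ((g : Matrix ι ι F) *ᵥ u) := fun y => by
      rw [ht, E_conj hf hgi hvv huu hvu, E_mulVec hf (by rw [mem_isom.mp hgi]; exact hvv)
        (by rw [mem_isom.mp hgi]; exact huu) (by rw [mem_isom.mp hgi]; exact hvu)]
    let A := D 0 ⊓ LinearMap.ker ((lm hf ((g : Matrix ι ι F) *ᵥ u)).prod
      (lm hf ((g : Matrix ι ι F) *ᵥ v)))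
    have hA3 : 3 ≤ Module.finrank F A := by
      have e1 := Submodule.finrank_sup_add_finrank_inf_eq (D 0)
        (LinearMap.ker ((lm hf ((g : Matrix ι ι F) *ᵥ u)).prod (lm hf ((g : Matrix ι ι F) *ᵥ v))))
      have e2 := LinearMap.finrank_range_add_finrank_ker
        ((lm hf ((g : Matrix ι ι F) *ᵥ u)).prod (lm hf ((g : Matrix ι ι F) *ᵥ v)))
      have e3 := Submodule.finrank_le (LinearMap.range
        ((lm hf ((g : Matrix ι ι F) *ᵥ u)).prod (lm hf ((g : Matrix ι ι F) *ᵥ v))))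
      have e4 := Submodule.finrank_le (D 0 ⊔
        LinearMap.ker ((lm hf ((g : Matrix ι ι F) *ᵥ u)).prod (lm hf ((g : Matrix ι ι F) *ᵥ v))))
      have e5 := hp.fin₁
      simp [Module.finrank_prod] at e2 e3 e4
      show 3 ≤ Module.finrank F ↥(D 0 ⊓ _)
      omega
    have hfix : ∀ a ∈ A, ((t⁻¹ : GL ι F) : Matrix ι ι F) *ᵥ a ∈ D 0 := by
      intro a ha
      obtain ⟨ha1, ha2⟩ := ha
      simp at ha2
      have : (t : Matrix ι ι F) *ᵥ a = a := by rw [hte, ha2.1, ha2.2]; simp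
      rw [← this, inv_mulVec_mulVec]
      exact ha1
    have h1 := hK t htM A inf_le_left hA3 hfix x hx
    have h2 := Submodule.mem_map_of_mem
      (f := Matrix.mulVecLin ((g⁻¹ : GL ι F) : Matrix ι ι F)) h1
    rw [Matrix.mulVecLin_apply, ht, Units.val_mul, Units.val_mul, ← mulVec_mulVec,
      ← mulVec_mulVec, inv_mulVec_mulVec, E_mulVec hf hvv huu hvu, add_assoc] at h2
    exact (Submodule.add_mem_iff_right _ (Submodule.mem_map_of_mem
      (f := Matrix.mulVecLin ((g⁻¹ : GL ι F) : Matrix ι ι F)) hx)).mp h2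
  rcases eq_or_eq_of_invariant hf hp (by omega) hZd hinv with hZ | hZ
  · have h0 : ∀ x ∈ D 0, (g : Matrix ι ι F) *ᵥ x ∈ D 0 := fun x hx => by
      rw [← hZ] at hx
      obtain ⟨y, hy, rfl⟩ := hx
      rw [Matrix.mulVecLin_apply, mulVec_inv_mulVec]
      exact hy
    exact hgH ⟨mem_stab_of_fix h0 (hA g hg h0), hMK hg⟩
  · have h1 : ∀ x ∈ D 1, (g : Matrix ι ι F) *ᵥ x ∈ D 0 := fun x hx => by
      rw [← hZ] at hx
      obtain ⟨y, hy, rfl⟩ := hx
      rw [Matrix.mulVecLin_apply, mulVec_inv_mulVec]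
      exact hy
    have h0 : ∀ x ∈ D 0, (g : Matrix ι ι F) *ᵥ x ∈ D 1 := fun x hx => by
      have hwgx := hB (w * g) (mul_mem hwM hg) (fun y hy => by
        rw [Units.val_mul, ← mulVec_mulVec]; exact hw0 _ (h1 y hy)) x hx
      rw [Units.val_mul, ← mulVec_mulVec] at hwgx
      have := inv_mem_of_forall hw1 hd.le _ hwgx
      rwa [inv_mulVec_mulVec] at this
    exact hgH ⟨mem_stab_of_swap hd h0 h1, hMK hg⟩


/-- The stabiliser of the pair is maximal. -/
theorem isMaximalIn [Finite F] (hf : IsPairForm s c f) {m : ℕ} (hm : 5 ≤ m)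
    {D : Fin 2 → Submodule F (ι → F)} (hp : IsPair f m (D 0) (D 1))
    {θ : F} (hθ : θ ≠ 0) (hθc : c * s θ = θ)
    (htr : ∀ a, c * s a = a → ∃ t, s t + c * t = a) {G : Subgroup (GL ι F)} (hG : G ≤ isom f)
    (hEG : ∀ v u, f v v = 0 → f u u = 0 → f v u = 0 → E f c v u ∈ G)
    (hTG : ∀ v a, f v v = 0 → c * s a = a → T f v a ∈ G)
    (hgen : ∀ M : Subgroup (GL ι F),
      (∀ v a, f v v = 0 → c * s a = a → T f v a ∈ M) → G ≤ M) :
    Geo.IsMaximalIn G (Geo.decompositionStabilizer D ⊓ G) := by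
  classical
  obtain ⟨w, hwG, hw0, hw1⟩ := exists_swap hf hp hθ hθc hTG hG
  refine isMaximalIn_of_cores hf hm hp hG (fun v hv u hu hvu => ⟨hEG v u (hp.iso₁ v hv v hv)
    (hp.iso₂ u hu u hu) hvu, hEG u v (hp.iso₂ u hu u hu) (hp.iso₁ v hv v hv)
    (eq_zero_comm hf hvu)⟩) ?_ hwG hw0 hw1 fun M hMK hE hE' hwM h hh hcases => ?_
  · obtain ⟨v, hv, hv0⟩ := (D 0).ne_bot_iff.mp fun h => by
      have := hp.fin₁; rw [h, finrank_bot] at this; omega
    obtain ⟨y, hy, hvy, -⟩ := exists_dual_mem hf hp (U := ⊥) hv (by simpa using hv0)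
    have hyv : f y v ≠ 0 := swap_ne hf (by rw [hvy]; exact one_ne_zero)
    have hy0 : y ≠ 0 := fun h => hyv (by rw [h, zero_left hf])
    have hvv := hp.iso₁ v hv v hv
    refine ⟨T f v θ, hTG _ _ hvv hθc, fun hmem => ?_⟩
    obtain ⟨σ, hσ⟩ := hmem
    have h1 : y + (θ * f y v) • v ∈ D (σ 1) := by
      rw [← T_mulVec hf hvv, ← hσ 1, Matrix.toLin'_apply']
      exact Submodule.mem_map_of_mem (f := Matrix.mulVecLin (T f v θ : Matrix ι ι F)) hy
    rcases Fin.exists_fin_two.mp ⟨σ 1, rfl⟩ with hc | hc <;> rw [hc] at h1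
    · exact hy0 (hp.eq_zero (by simpa using sub_mem h1 ((D 0).smul_mem (θ * f y v) hv)) hy)
    · refine hv0 (hp.eq_zero hv ((Submodule.smul_mem_iff _ (mul_ne_zero hθ hyv)).mp ?_))
      simpa using sub_mem h1 hy
  have hd : Module.finrank F (D 0) = Module.finrank F (D 1) := by rw [hp.fin₁, hp.fin₂]
  have hswap : ∀ (W W' : Submodule F (ι → F)), (∀ x ∈ W, (w : Matrix ι ι F) *ᵥ x ∈ W') →
      Module.finrank F W' ≤ Module.finrank F W →
      (∀ x ∈ W, f x x = 0) →
      (∀ v ∈ W, ∀ a, c * s a = a → T f v a ∈ M) → ∀ v ∈ W', ∀ a, c * s a = a → T f v a ∈ M := by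
    intro W W' hmap hdim hWi hT v hv a ha
    have hv' := inv_mem_of_forall hmap hdim v hv
    have h := mul_mem (mul_mem hwM (hT _ hv' a ha)) (inv_mem hwM)
    rwa [T_conj hf (hG hwG) (hWi _ hv'), mulVec_inv_mulVec] at h
  rcases hcases with ⟨h1, hbad⟩ | ⟨h1, hbad⟩
  · have hT0 := T_mem_of_not_fix hf hp (by omega) htr hE hh (hG (hMK hh)) h1 hbad
    exact hgen M fun v a hv ha => T_mem_of_both hf hp hθ hθc hT0
      (hswap _ _ hw0 hd.ge (fun x hx => hp.iso₁ x hx x hx) hT0) hv ha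
  · have hT1 := T_mem_of_not_fix hf hp.symm (by omega) htr hE' hh (hG (hMK hh)) h1 hbad
    exact hgen M fun v a hv ha => T_mem_of_both hf hp hθ hθc
      (hswap _ _ hw1 hd.le (fun x hx => hp.iso₂ x hx x hx) hT1) hT1 hv ha

end Cfsg.Agent.LagPair
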