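import Cfsg.Agent.MaxSub.Lagrangian
import Cfsg.Agent.MaxSub.Orth
import Cfsg.Agent.Lib.UnitaryOrthogonal.OmegaStandard
import Cfsg.Prelude.Def_GeometricClasses

/-!
The orthogonal case of the Lagrangian pair stabilisers: `Ω` of a hyperbolic space is generated by
the elements `E v u`, and the orthogonal one-sided cases (helper24).
-/

set_option autoImplicit false

namespace Cfsg.Agent.LagPair

open Matrix Cfsg.Agent.MaxSub

variable {n : ℕ} {F : Type*} [Field F]
variable {Q : QuadraticForm F (Fin n → F)}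

/-- A quadratic form with non-degenerate polar form gives a pair form. -/
theorem isPairForm_polar (hN : ∀ v, (∀ x, QuadraticMap.polar ⇑Q x v = 0) → v = 0) :
    IsPairForm (RingHom.id F) (-1 : F) (QuadraticMap.polar ⇑Q) where
  add_left := QuadraticMap.polar_add_left Q
  smul_left a x v := by rw [QuadraticMap.polar_smul_left, smul_eq_mul]
  add_right := fun v x y => QuadraticMap.polar_add_right Q v x y
  smul_right a v x := by rw [QuadraticMap.polar_smul_right, smul_eq_mul]; rfl
  invol _ := rfl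
  c_sq := by ring
  map_c := rfl
  swap x y := by rw [RingHom.id_apply, neg_neg, one_mul, QuadraticMap.polar_comm]
  nondeg := hN

variable [Finite F] {k : ℕ} {D : Fin 2 → Submodule F (Fin n → F)}
variable (hf : IsPairForm (RingHom.id F) (-1 : F) (QuadraticMap.polar ⇑Q))
variable (hp : IsPair (QuadraticMap.polar ⇑Q) k (D 0) (D 1))

/-- A totally singular pair gives a hyperbolic coordinate system. -/
theorem exists_isometryEquiv (hf : IsPairForm (RingHom.id F) (-1 : F) (QuadraticMap.polar ⇑Q))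
    (hp : IsPair (QuadraticMap.polar ⇑Q) k (D 0) (D 1)) (hQ : ∀ i, ∀ x ∈ D i, Q x = 0) :
    Nonempty (Q.IsometryEquiv
      (UnitaryOrthogonal.hypSum k (UnitaryOrthogonal.zeroForm F))) := by
  classical
  let b := Module.finBasisOfFinrankEq F (D 0) hp.fin₁
  choose e' he' hee' using fun i => exists_rep_mem hf hp (b.coord i)
  have hef : ∀ i j, QuadraticMap.polar ⇑Q (b j : Fin n → F) (e' i) = if j = i then 1 else 0 :=
    fun i j => by
      simp only [hee', Module.Basis.coord_apply, Module.Basis.repr_self, Finsupp.single_apply]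
  let T : ((Fin k → F) × (Fin k → F)) × (Fin 0 → F) →ₗ[F] (Fin n → F) :=
    { toFun := fun p => (∑ i, p.1.1 i • (b i : Fin n → F)) + ∑ i, p.1.2 i • e' i
      map_add' := fun p p' => by
        simp only [Prod.fst_add, Prod.snd_add, Pi.add_apply, add_smul, Finset.sum_add_distrib]
        abel
      map_smul' := fun a p => by
        simp only [Prod.smul_fst, Prod.smul_snd, Pi.smul_apply, smul_eq_mul, RingHom.id_apply,
          smul_add, Finset.smul_sum, smul_smul] }
  have hQT : ∀ p, Q (T p) = UnitaryOrthogonal.hypSum k (UnitaryOrthogonal.zeroForm F) p := by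
    intro p
    show Q ((∑ i, p.1.1 i • (b i : Fin n → F)) + ∑ i, p.1.2 i • e' i) = _
    rw [UnitaryOrthogonal.form_add, hQ 0 _ (sum_mem fun i _ => (D 0).smul_mem _ (b i).2),
      hQ 1 _ (sum_mem fun i _ => (D 1).smul_mem _ (he' i)),
      ← QuadraticMap.polarBilin_apply_apply]
    simp [map_sum, hef, UnitaryOrthogonal.hypSum_apply, UnitaryOrthogonal.zeroForm, mul_comm]
  have hinj : Function.Injective T := by
    rw [injective_iff_map_eq_zero]
    intro p hp0
    have h2 : ∀ q, QuadraticMap.polar ⇑(UnitaryOrthogonal.hypSum k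
        (UnitaryOrthogonal.zeroForm F)) p q = 0 := fun q => by
      simp only [QuadraticMap.polar, ← hQT, map_add, hp0, zero_add, Q.map_zero, sub_self,
        sub_zero]
    exact (UnitaryOrthogonal.PolarND.hypSum (UnitaryOrthogonal.polarND_zeroForm (F := F)) k) p h2
  have hd : Module.finrank F (((Fin k → F) × (Fin k → F)) × (Fin 0 → F)) =
      Module.finrank F (Fin n → F) := by
    have h1 := Submodule.finrank_add_eq_of_isCompl hp.compl
    rw [hp.fin₁, hp.fin₂] at h1
    simp only [Module.finrank_prod, Module.finrank_fin_fun] at h1 ⊢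
    omega
  let L : ((((Fin k → F) × (Fin k → F)) × (Fin 0 → F))) ≃ₗ[F] (Fin n → F) :=
    LinearEquiv.ofBijective T
      ⟨hinj, (LinearMap.injective_iff_surjective_of_finrank_eq_finrank hd).mp hinj⟩
  exact ⟨{ L.symm with
    map_app' := fun x => by
      obtain ⟨p, rfl⟩ := L.surjective x
      show UnitaryOrthogonal.hypSum k (UnitaryOrthogonal.zeroForm F) (L.symm (L p)) = Q (L p)
      rw [LinearEquiv.symm_apply_apply]
      exact (hQT p).symm }⟩

section
include hf hp

/-- In a hyperbolic space of index at least three, the long root elements lie in `Ω` and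
generate it. -/
theorem omega_facts (hk : 3 ≤ k) (hQ : ∀ i, ∀ x ∈ D i, Q x = 0) :
    (∀ v u, Q v = 0 → Q u = 0 → QuadraticMap.polar ⇑Q v u = 0 →
      E (QuadraticMap.polar ⇑Q) (-1 : F) v u ∈ Geo.omegaGL ⇑Q) ∧
    ∀ M : Subgroup (GL (Fin n) F), (∀ v u, Q v = 0 → Q u = 0 → QuadraticMap.polar ⇑Q v u = 0 →
      E (QuadraticMap.polar ⇑Q) (-1 : F) v u ∈ M) → Geo.omegaGL ⇑Q ≤ M := by
  classical
  obtain ⟨e0⟩ := exists_isometryEquiv hf hp hQ
  obtain ⟨j, rfl⟩ : ∃ j, k = j + 2 := ⟨k - 2, by omega⟩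
  set M₀ := UnitaryOrthogonal.hypSum j (UnitaryOrthogonal.zeroForm F) with hM₀
  let e : Q.IsometryEquiv (UnitaryOrthogonal.hyp (UnitaryOrthogonal.hyp M₀)) :=
    e0.trans (UnitaryOrthogonal.hypSumTwo _ j)
  have hM : UnitaryOrthogonal.PolarND M₀ :=
    UnitaryOrthogonal.PolarND.hypSum (UnitaryOrthogonal.polarND_zeroForm (F := F)) j
  have hex := UnitaryOrthogonal.exists_hypSum_ne_zero (Q := UnitaryOrthogonal.zeroForm F) j
    (Or.inl (by omega))
  have hgen := UnitaryOrthogonal.elemGroup_hypHyp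
    (UnitaryOrthogonal.polarND_zeroForm (F := F)) UnitaryOrthogonal.reflGroup_zeroForm j
  have hcomm := UnitaryOrthogonal.commutator_eq_eichGroup hM hex hgen
  let ψ := (UnitaryOrthogonal.isometryGroupEquiv Q (fun _ => rfl)).trans
    (UnitaryOrthogonal.orthCongr e)
  have hψ : ∀ (g : Cfsg.isometryGroup F ⇑Q) (x : Fin n → F),
      (ψ g).1 (e x) = e (((g.1 : GL (Fin n) F) : Matrix _ _ F) *ᵥ x) := fun g x => by
    rw [MulEquiv.trans_apply, UnitaryOrthogonal.orthCongr_apply,
      UnitaryOrthogonal.isometryGroupEquiv_apply]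
  have hEmat : ∀ v u, Q v = 0 → Q u = 0 → QuadraticMap.polar ⇑Q v u = 0 → ∀ x,
      (E (QuadraticMap.polar ⇑Q) (-1 : F) v u : Matrix _ _ F) *ᵥ x =
        x + QuadraticMap.polar ⇑Q x u • v + ((-1 : F) * QuadraticMap.polar ⇑Q x v) • u :=
    fun v u hv hu hvu x => E_mulVec hf (by rw [QuadraticMap.polar_self, hv, smul_zero])
      (by rw [QuadraticMap.polar_self, hu, smul_zero]) hvu x
  have heich : ∀ (g : Cfsg.isometryGroup F ⇑Q) v u, Q v = 0 → Q u = 0 →
      QuadraticMap.polar ⇑Q v u = 0 →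
      (ψ g = UnitaryOrthogonal.eich _ (e u) (e v) ↔
        g.1 = E (QuadraticMap.polar ⇑Q) (-1 : F) v u) := by
    intro g v u hv hu hvu
    have hR : ∀ x, (UnitaryOrthogonal.eich _ (e u) (e v)).1 (e x) =
        e ((E (QuadraticMap.polar ⇑Q) (-1 : F) v u : Matrix _ _ F) *ᵥ x) := fun x => by
      rw [UnitaryOrthogonal.eich_apply (by rw [e.map_app]; exact hu)
          (by rw [UnitaryOrthogonal.polar_isometryEquiv, QuadraticMap.polar_comm]; exact hvu),
        UnitaryOrthogonal.polar_isometryEquiv, UnitaryOrthogonal.polar_isometryEquiv,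
        e.map_app, hv, zero_mul, zero_smul, sub_zero, hEmat v u hv hu hvu]
      show _ = e.toLinearEquiv _
      rw [map_add, map_add, map_smul, map_smul, QuadraticMap.polar_comm _ u x,
        QuadraticMap.polar_comm _ v x, neg_one_mul, neg_smul, ← sub_eq_add_neg]
      rfl
    constructor
    · intro h
      refine gl_ext fun x => e.toLinearEquiv.injective ?_
      show e _ = e _
      rw [← hψ g x, h, hR]
    · intro h
      refine UnitaryOrthogonal.orth_ext fun y => ?_
      obtain ⟨x, rfl⟩ := e.toLinearEquiv.surjective y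
      show (ψ g).1 (e x) = _
      rw [hψ, h]
      exact (hR x).symm
  refine ⟨fun v u hv hu hvu => ?_, fun M hMem => ?_⟩
  · obtain ⟨g, hg⟩ := ψ.surjective (UnitaryOrthogonal.eich _ (e u) (e v))
    refine ⟨g, ?_, (heich g v u hv hu hvu).mp hg⟩
    have h1 : ψ g ∈ commutator _ := by
      rw [hcomm, hg]; exact UnitaryOrthogonal.eich_mem_eichGroup _ _
    have h2 : (commutator (Cfsg.isometryGroup F ⇑Q)).map ψ.toMonoidHom = commutator _ := by
      rw [commutator_def, Subgroup.map_commutator, Subgroup.map_top_of_surjective _ ψ.surjective]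
      rfl
    rw [← h2] at h1
    obtain ⟨g', hg', hgg'⟩ := h1
    exact (ψ.injective hgg') ▸ hg'
  · -- the subgroup generated by long root elements
    let S : Set (UnitaryOrthogonal.orth (UnitaryOrthogonal.hyp (UnitaryOrthogonal.hyp M₀))) :=
      {x | ∃ u v, Q v = 0 ∧ Q u = 0 ∧ QuadraticMap.polar ⇑Q v u = 0 ∧
        x = UnitaryOrthogonal.eich _ (e u) (e v)}
    have hconj : ∀ g, ∀ x ∈ Subgroup.closure S, g * x * g⁻¹ ∈ Subgroup.closure S := by
      intro g x hx
      induction hx using Subgroup.closure_induction with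
      | mem x hx =>
        obtain ⟨u, v, hv, hu, hvu, rfl⟩ := hx
        refine Subgroup.subset_closure ⟨e.toLinearEquiv.symm (g.1 (e u)),
          e.toLinearEquiv.symm (g.1 (e v)), ?_, ?_, ?_, ?_⟩
        · rw [← e.map_app]
          show UnitaryOrthogonal.hyp _ (e.toLinearEquiv (e.toLinearEquiv.symm _)) = 0
          rw [LinearEquiv.apply_symm_apply, UnitaryOrthogonal.map_form, e.map_app, hv]
        · rw [← e.map_app]
          show UnitaryOrthogonal.hyp _ (e.toLinearEquiv (e.toLinearEquiv.symm _)) = 0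
          rw [LinearEquiv.apply_symm_apply, UnitaryOrthogonal.map_form, e.map_app, hu]
        · rw [← UnitaryOrthogonal.polar_isometryEquiv e]
          show QuadraticMap.polar _ (e.toLinearEquiv (e.toLinearEquiv.symm _))
            (e.toLinearEquiv (e.toLinearEquiv.symm _)) = 0
          rw [LinearEquiv.apply_symm_apply, LinearEquiv.apply_symm_apply,
            UnitaryOrthogonal.map_polar, UnitaryOrthogonal.polar_isometryEquiv, hvu]
        · rw [UnitaryOrthogonal.conj_eich]
          show _ = UnitaryOrthogonal.eich _ (e.toLinearEquiv (e.toLinearEquiv.symm _))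
            (e.toLinearEquiv (e.toLinearEquiv.symm _))
          rw [LinearEquiv.apply_symm_apply, LinearEquiv.apply_symm_apply]
      | one => simp
      | mul x y _ _ hx hy => simpa [mul_assoc] using mul_mem hx hy
      | inv x _ hx => simpa [mul_assoc] using inv_mem hx
    have hle : UnitaryOrthogonal.eichGroup _ ≤ Subgroup.closure S := by
      refine UnitaryOrthogonal.eichGroup_le_of_eVec hM (fun g _ => hconj g)
        (UnitaryOrthogonal.eVec_mem_of_singular fun w hw => ?_)
      refine Subgroup.subset_closure ⟨e.toLinearEquiv.symm (UnitaryOrthogonal.eVec F _),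
        e.toLinearEquiv.symm (UnitaryOrthogonal.inW w), ?_, ?_, ?_, ?_⟩
      · rw [← e.map_app]
        show UnitaryOrthogonal.hyp _ (e.toLinearEquiv (e.toLinearEquiv.symm _)) = 0
        rw [LinearEquiv.apply_symm_apply, UnitaryOrthogonal.hyp_inW]; exact hw
      · rw [← e.map_app]
        show UnitaryOrthogonal.hyp _ (e.toLinearEquiv (e.toLinearEquiv.symm _)) = 0
        rw [LinearEquiv.apply_symm_apply, UnitaryOrthogonal.hyp_eVec]
      · rw [← UnitaryOrthogonal.polar_isometryEquiv e]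
        show QuadraticMap.polar _ (e.toLinearEquiv (e.toLinearEquiv.symm _))
          (e.toLinearEquiv (e.toLinearEquiv.symm _)) = 0
        rw [LinearEquiv.apply_symm_apply, LinearEquiv.apply_symm_apply, QuadraticMap.polar_comm,
          UnitaryOrthogonal.polar_eVec_inW]
      · show _ = UnitaryOrthogonal.eich _ (e.toLinearEquiv (e.toLinearEquiv.symm _))
          (e.toLinearEquiv (e.toLinearEquiv.symm _))
        rw [LinearEquiv.apply_symm_apply, LinearEquiv.apply_symm_apply]
    have hS : Subgroup.closure S ≤ (M.comap (Cfsg.isometryGroup F ⇑Q).subtype).map ψ.toMonoidHom := by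
      rw [Subgroup.closure_le]
      rintro _ ⟨u, v, hv, hu, hvu, rfl⟩
      obtain ⟨g, hg⟩ := ψ.surjective (UnitaryOrthogonal.eich _ (e u) (e v))
      refine ⟨g, ?_, hg⟩
      show g.1 ∈ M
      rw [(heich g v u hv hu hvu).mp hg]
      exact hMem v u hv hu hvu
    rintro _ ⟨g, hg, rfl⟩
    have h1 : ψ g ∈ UnitaryOrthogonal.eichGroup _ := by
      rw [← hcomm, commutator_def, ← Subgroup.map_top_of_surjective ψ.toMonoidHom ψ.surjective,
        ← Subgroup.map_commutator]
      exact ⟨g, hg, rfl⟩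
    obtain ⟨g', hg', hgg'⟩ := hS (hle h1)
    exact (ψ.injective hgg') ▸ hg'

/-- An element fixing `D 0` but not `D 1` gives all `E v w` inside `D 0`. -/
theorem E_mem_of_not_fix (hk : 4 ≤ k) (hQ : ∀ x ∈ D 1, Q x = 0) (hQ0 : ∀ x ∈ D 0, Q x = 0)
    {M : Subgroup (GL (Fin n) F)}
    (hMQ : ∀ g ∈ M, ∀ x, Q ((g : Matrix _ _ F) *ᵥ x) = Q x)
    (hMi : ∀ g ∈ M, g ∈ isom (QuadraticMap.polar ⇑Q))
    (hE : ∀ v ∈ D 0, ∀ u ∈ D 1, QuadraticMap.polar ⇑Q v u = 0 →
      E (QuadraticMap.polar ⇑Q) (-1 : F) v u ∈ M)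
    {h : GL (Fin n) F} (hh : h ∈ M)
    (h1 : ∀ x ∈ D 0, (h : Matrix _ _ F) *ᵥ x ∈ D 0)
    (h2 : ¬ ∀ x ∈ D 1, (h : Matrix _ _ F) *ᵥ x ∈ D 1) :
    ∀ a ∈ D 0, ∀ b ∈ D 0, E (QuadraticMap.polar ⇑Q) (-1 : F) a b ∈ M := by
  classical
  obtain ⟨v', hv', hv'0, w, hw, hwv', d, z, hzM, hzx⟩ :=
    exists_z_of_not_fix hf hp (by omega) hE hh (hMi h hh) h1 h2
  have hI : ∀ p ∈ D 0, ∀ q ∈ D 0, QuadraticMap.polar ⇑Q p q = 0 := hp.iso₁
  have hd : d = 0 := by
    obtain ⟨x, hx, hvx, -⟩ := exists_dual_mem hf hp (U := ⊥) hv' (by simpa using hv'0)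
    have hxv : QuadraticMap.polar ⇑Q x v' = 1 := by rw [QuadraticMap.polar_comm, hvx]
    have e1 := hMQ z hzM x
    rw [hzx, hxv, add_assoc, add_assoc, UnitaryOrthogonal.form_add, hQ x hx,
      hQ0 _ (add_mem ((D 0).smul_mem _ hv') (add_mem ((D 0).smul_mem _ hw)
        ((D 0).smul_mem _ hv'))),
      QuadraticMap.polar_add_right, QuadraticMap.polar_add_right, QuadraticMap.polar_smul_right,
      QuadraticMap.polar_smul_right, QuadraticMap.polar_smul_right, hxv] at e1
    simp only [smul_eq_mul] at e1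
    linear_combination e1
  have hzE : E (QuadraticMap.polar ⇑Q) (-1 : F) v' w ∈ M := by
    convert hzM using 1
    refine gl_ext fun x => ?_
    rw [hzx, E_mulVec hf (hI _ hv' _ hv') (hI _ hw _ hw) (hI _ hv' _ hw), hd]
    simp
  intro a ha b hb
  have hspan : ∀ r : F, b = r • a → E (QuadraticMap.polar ⇑Q) (-1 : F) a b ∈ M := by
    intro r hr
    convert one_mem M
    refine gl_ext fun x => ?_
    rw [E_mulVec hf (hI _ ha _ ha) (hI _ hb _ hb) (hI _ ha _ hb), Units.val_one, one_mulVec, hr,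
      hf.smul_right, RingHom.id_apply]
    module
  by_cases hdep : b ∈ Submodule.span F {a}
  · obtain ⟨r, hr⟩ := Submodule.mem_span_singleton.mp hdep
    exact hspan r hr.symm
  by_cases ha0 : a = 0
  · convert one_mem M
    refine gl_ext fun x => ?_
    rw [E_mulVec hf (hI _ ha _ ha) (hI _ hb _ hb) (hI _ ha _ hb), Units.val_one, one_mulVec, ha0,
      zero_right hf]
    simp
  -- move the first vector
  obtain ⟨g, hg, hgi, hgD, hga⟩ : ∃ g ∈ M, g ∈ isom (QuadraticMap.polar ⇑Q) ∧
      (∀ x ∈ D 0, (g : Matrix _ _ F) *ᵥ x ∈ D 0) ∧ (g : Matrix _ _ F) *ᵥ v' = a := by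
    obtain ⟨g, hg, hgi, hga⟩ := exists_move hf hp (by omega)
      (M := M ⊓ Geo.subspaceStabilizer (D 0)) (fun p hp' q hq hpq => ⟨hE p hp' q hq hpq,
        MaxSub.mem_subspaceStabilizer fun x hx => by
          rw [E_mulVec hf (hp.iso₁ p hp' p hp') (hp.iso₂ q hq q hq) hpq, hp.iso₁ x hx p hp',
            mul_zero, zero_smul, add_zero]
          exact add_mem hx ((D 0).smul_mem _ hp')⟩) hv' ha hv'0 ha0
    exact ⟨g, hg.1, hgi, fun x hx => (hg.2 x).1 hx, hga⟩
  have hE1 : E (QuadraticMap.polar ⇑Q) (-1 : F) a ((g : Matrix _ _ F) *ᵥ w) ∈ M := by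
    rw [← hga, ← E_conj hf hgi (hI _ hv' _ hv') (hI _ hw _ hw) (hI _ hv' _ hw)]
    exact mul_mem (mul_mem hg hzE) (inv_mem hg)
  have hgw : (g : Matrix _ _ F) *ᵥ w ∉ Submodule.span F {a} := fun hmem => by
    obtain ⟨r, hr⟩ := Submodule.mem_span_singleton.mp hmem
    refine hwv' (Submodule.mem_span_singleton.mpr ⟨r, MaxSub.mulVec_injective g ?_⟩)
    show (g : Matrix (Fin n) (Fin n) F) *ᵥ _ = (g : Matrix (Fin n) (Fin n) F) *ᵥ _
    rw [mulVec_smul, hga, hr]
  set w₁ := (g : Matrix (Fin n) (Fin n) F) *ᵥ w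
  -- move the second vector
  have step : ∀ p q, p ∈ D 0 → q ∈ D 0 →
      p ∉ Submodule.span F (({a, q - p} : Finset (Fin n → F)) : Set (Fin n → F)) →
      E (QuadraticMap.polar ⇑Q) (-1 : F) a p ∈ M →
      E (QuadraticMap.polar ⇑Q) (-1 : F) a q ∈ M := by
    intro p q hp' hq hnot hpM
    obtain ⟨u, hu, hpu, huU⟩ := exists_dual_mem hf hp hp' hnot
    have hau : QuadraticMap.polar ⇑Q a u = 0 := huU a ha (Submodule.subset_span (by simp))
    have hd' : q - p ∈ D 0 := sub_mem hq hp'
    have hdu : QuadraticMap.polar ⇑Q (q - p) u = 0 := huU _ hd' (Submodule.subset_span (by simp))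
    have hdd := hI _ hd' _ hd'
    have huu := hp.iso₂ _ hu _ hu
    have hti := E_mem_isom hf hdd huu hdu
    have h := mul_mem (mul_mem (hE _ hd' u hu hdu) hpM) (inv_mem (hE _ hd' u hu hdu))
    rw [E_conj hf hti (hI _ ha _ ha) (hI _ hp' _ hp') (hI _ ha _ hp'),
      E_mulVec hf hdd huu hdu, E_mulVec hf hdd huu hdu, hau, hpu, hI _ ha _ hd',
      hI _ hp' _ hd'] at h
    simpa using h
  -- the position of `w₁`
  have hw₁ : w₁ ∈ D 0 := hgD w hw
  obtain ⟨z', hz', hz'U⟩ := exists_notMem hf hp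
    (U := Submodule.span F (({a, w₁, b} : Finset (Fin n → F)) : Set (Fin n → F)))
    (lt_of_le_of_lt ((finrank_span_finset_le_card _).trans Finset.card_le_three) (by omega))
  have hA : w₁ ∉ Submodule.span F (({a, z' - w₁} : Finset (Fin n → F)) : Set (Fin n → F)) := by
    simp only [Finset.coe_insert, Finset.coe_singleton, Submodule.mem_span_pair]
    rintro ⟨r, t, hrt⟩
    by_cases ht : t = 0
    · exact hgw (Submodule.mem_span_singleton.mpr ⟨r, by rw [← hrt, ht]; simp⟩)
    refine hz'U ?_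
    have : z' = t⁻¹ • ((1 + t) • w₁ - r • a) := by
      rw [eq_inv_smul_iff₀ ht]
      linear_combination (norm := module) hrt
    rw [this]
    exact Submodule.smul_mem _ _ (sub_mem (Submodule.smul_mem _ _ (Submodule.subset_span (by simp)))
      (Submodule.smul_mem _ _ (Submodule.subset_span (by simp))))
  have hB : z' ∉ Submodule.span F (({a, b - z'} : Finset (Fin n → F)) : Set (Fin n → F)) := by
    simp only [Finset.coe_insert, Finset.coe_singleton, Submodule.mem_span_pair]
    rintro ⟨r, t, hrt⟩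
    by_cases ht : 1 + t = 0
    · refine hdep (Submodule.mem_span_singleton.mpr ⟨r, ?_⟩)
      have : t = -1 := by linear_combination ht
      rw [this] at hrt
      linear_combination (norm := module) hrt
    refine hz'U ?_
    have : z' = (1 + t)⁻¹ • (r • a + t • b) := by
      rw [eq_inv_smul_iff₀ ht]
      linear_combination (norm := module) -hrt
    rw [this]
    exact Submodule.smul_mem _ _ (add_mem (Submodule.smul_mem _ _ (Submodule.subset_span (by simp)))
      (Submodule.smul_mem _ _ (Submodule.subset_span (by simp))))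
  exact step z' b hz' hb hB (step w₁ z' hw₁ hz' hA hE1)

/-- All long root elements, once those inside both subspaces and across them are present. -/
theorem E_mem_of_all (hQ : ∀ i, ∀ x ∈ D i, Q x = 0) {M : Subgroup (GL (Fin n) F)}
    (hMQ : ∀ g ∈ M, ∀ x, Q ((g : Matrix _ _ F) *ᵥ x) = Q x)
    (h00 : ∀ a ∈ D 0, ∀ b ∈ D 0, E (QuadraticMap.polar ⇑Q) (-1 : F) a b ∈ M)
    (h11 : ∀ a ∈ D 1, ∀ b ∈ D 1, E (QuadraticMap.polar ⇑Q) (-1 : F) a b ∈ M)
    (h01 : ∀ a ∈ D 0, ∀ b ∈ D 1, QuadraticMap.polar ⇑Q a b = 0 →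
      E (QuadraticMap.polar ⇑Q) (-1 : F) a b ∈ M)
    {w : GL (Fin n) F} (hwM : w ∈ M) (hwi : w ∈ isom (QuadraticMap.polar ⇑Q))
    (hw1 : ∀ x ∈ D 1, (w : Matrix _ _ F) *ᵥ x ∈ D 0)
    {a b : Fin n → F} (ha : Q a = 0) (hb : Q b = 0) (hab : QuadraticMap.polar ⇑Q a b = 0) :
    E (QuadraticMap.polar ⇑Q) (-1 : F) a b ∈ M := by
  classical
  set f := QuadraticMap.polar ⇑Q with hfdef
  have hself : ∀ v, Q v = 0 → f v v = 0 := fun v hv => by
    rw [hfdef, QuadraticMap.polar_self, hv, smul_zero]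
  have first : ∀ a ∈ D 0, ∀ b, Q b = 0 → f a b = 0 → E f (-1) a b ∈ M := by
    intro a ha b hb hab
    obtain ⟨p, hp', y, hy, rfl⟩ := hp.exists_add b
    have hay : f a y = 0 := by rwa [hf.add_right, hp.iso₁ a ha p hp', zero_add] at hab
    have hpy : f p y = 0 := by
      rw [UnitaryOrthogonal.form_add, hQ 0 p hp', hQ 1 y hy, zero_add, zero_add] at hb
      exact hb
    have haa := hp.iso₁ a ha a ha
    have hpp := hp.iso₁ p hp' p hp'
    have hyy := hp.iso₂ y hy y hy
    have hap := hp.iso₁ a ha p hp'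
    have : E f (-1) a (p + y) = E f (-1) a p * E f (-1) a y := by
      refine gl_ext fun x => ?_
      rw [Units.val_mul, ← mulVec_mulVec, E_mulVec hf haa hpp hap, E_mulVec hf haa hyy hay,
        E_mulVec hf haa (by simp [hf.add_left, hf.add_right, hpp, hyy, hpy, eq_zero_comm hf hpy])
          hab]
      simp only [hf.add_left, hf.smul_left, hf.add_right, haa, hap, eq_zero_comm hf hay,
        eq_zero_comm hf hpy]
      module
    rw [this]
    exact mul_mem (h00 a ha p hp') (h01 a ha y hy hay)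
  -- bring `a` into `D 0`
  suffices hmove : ∃ g ∈ M, g ∈ isom f ∧
      (g : Matrix _ _ F) *ᵥ a ∈ D 0 by
    obtain ⟨g, hg, hgi, hga⟩ := hmove
    have hgab : f ((g : Matrix _ _ F) *ᵥ a) ((g : Matrix _ _ F) *ᵥ b) = 0 :=
      (mem_isom.mp hgi a b).trans hab
    have h := first _ hga _ (hMQ g hg b ▸ hb) hgab
    rw [← E_conj hf hgi (hself a ha) (hself b hb) hab] at h
    simpa [mul_assoc] using mul_mem (mul_mem (inv_mem hg) h) hg
  obtain ⟨x, hx, y, hy, rfl⟩ := hp.exists_add a
  by_cases hx0 : x = 0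
  · exact ⟨w, hwM, hwi, by rw [hx0, zero_add]; exact hw1 y hy⟩
  obtain ⟨q, hq, hxq, -⟩ := exists_dual_mem hf hp (U := ⊥) hx (by simpa using hx0)
  have hxy : f x y = 0 := by
    rw [UnitaryOrthogonal.form_add, hQ 0 x hx, hQ 1 y hy, zero_add, zero_add] at ha
    exact ha
  have hpp := hp.iso₂ _ (neg_mem hy) _ (neg_mem hy)
  have hqq := hp.iso₂ q hq q hq
  have hpq := hp.iso₂ _ (neg_mem hy) q hq
  refine ⟨_, h11 _ (neg_mem hy) _ hq, E_mem_isom hf hpp hqq hpq, ?_⟩
  rw [E_mulVec hf hpp hqq hpq, hf.add_left, hf.add_left, hxq, hp.iso₂ y hy q hq, neg_right hf,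
    neg_right hf, hxy, hp.iso₂ y hy y hy]
  simpa using hx

/-- An element of `Ω` interchanging the two subspaces when their dimension is even. -/
theorem exists_swap_orth (hk : Even k) {G : Subgroup (GL (Fin n) F)}
    (hGi : G ≤ isom (QuadraticMap.polar ⇑Q))
    (hG0 : ∀ a ∈ D 0, ∀ b ∈ D 0, E (QuadraticMap.polar ⇑Q) (-1 : F) a b ∈ G)
    (hG1 : ∀ a ∈ D 1, ∀ b ∈ D 1, E (QuadraticMap.polar ⇑Q) (-1 : F) a b ∈ G) :
    ∃ g ∈ G, (∀ x ∈ D 0, (g : Matrix _ _ F) *ᵥ x ∈ D 1) ∧
      ∀ x ∈ D 1, (g : Matrix _ _ F) *ᵥ x ∈ D 0 := by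
  classical
  set f := QuadraticMap.polar ⇑Q with hfdef
  let b := Module.finBasisOfFinrankEq F (D 0) hp.fin₁
  choose e' he' hee' using fun i => exists_rep_mem hf hp (b.coord i)
  set e : Fin k → Fin n → F := fun i => (b i : Fin n → F) with he
  have hef : ∀ i j, f (e j) (e' i) = if j = i then 1 else 0 := fun i j => by
    rw [he]; simp only [hee', Module.Basis.coord_apply, Module.Basis.repr_self,
      Finsupp.single_apply]
  have hfe : ∀ i j, f (e' i) (e j) = if j = i then 1 else 0 := fun i j => by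
    rw [← hef i j, hfdef, QuadraticMap.polar_comm]
  have hee : ∀ i j, f (e i) (e j) = 0 := fun i j => hp.iso₁ _ (b i).2 _ (b j).2
  have hff : ∀ i j, f (e' i) (e' j) = 0 := fun i j => hp.iso₂ _ (he' i) _ (he' j)
  suffices hS : ∀ r, 2 * r ≤ k → ∃ g ∈ G,
      ∀ i : Fin k, (i.val < 2 * r →
          (g : Matrix _ _ F) *ᵥ e i ∈ D 1 ∧ (g : Matrix _ _ F) *ᵥ e' i ∈ D 0) ∧
        (¬ i.val < 2 * r → (g : Matrix _ _ F) *ᵥ e i = e i ∧ (g : Matrix _ _ F) *ᵥ e' i = e' i) by
    obtain ⟨r, hr⟩ := hk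
    obtain ⟨g, hg, hgS⟩ := hS r (by omega)
    have hmap : ∀ x ∈ D 0, (g : Matrix _ _ F) *ᵥ x ∈ D 1 := fun x hx => by
      have e1 : x = ∑ i, b.repr ⟨x, hx⟩ i • e i := by
        have h := congrArg Subtype.val (b.sum_repr ⟨x, hx⟩).symm
        refine h.trans ?_
        simp only [e, Submodule.coe_sum, Submodule.coe_smul]
      rw [e1, mulVec_sum]
      exact sum_mem fun i _ => by
        rw [mulVec_smul]; exact (D 1).smul_mem _ ((hgS i).1 (by omega)).1
    refine ⟨g, hg, hmap, fun x hx => ?_⟩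
    have hspan : x = ∑ i, f (e i) x • e' i := by
      refine sub_eq_zero.mp (hf.nondeg _ fun z => ?_)
      obtain ⟨p, hp1, p', hp2, rfl⟩ := hp.exists_add z
      have e1 : p = ∑ i, b.repr ⟨p, hp1⟩ i • e i := by
        have h := congrArg Subtype.val (b.sum_repr ⟨p, hp1⟩).symm
        refine h.trans ?_
        simp only [e, Submodule.coe_sum, Submodule.coe_smul]
      have hsum : ∑ i, f (e i) x • e' i ∈ D 1 := sum_mem fun i _ => (D 1).smul_mem _ (he' i)
      rw [hf.add_left, hp.iso₂ _ hp2 _ (sub_mem hx hsum), add_zero, e1, ← lm_apply hf, map_sum]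
      refine Finset.sum_eq_zero fun j _ => ?_
      rw [map_smul, lm_apply, sub_right hf, hfdef, ← QuadraticMap.polarBilin_apply_apply,
        ← QuadraticMap.polarBilin_apply_apply, map_sum]
      simp [← hfdef, hef]
    rw [hspan, mulVec_sum]
    exact sum_mem fun i _ => by
      rw [mulVec_smul]; exact (D 0).smul_mem _ ((hgS i).1 (by omega)).2
  intro r
  induction r with
  | zero => exact fun _ => ⟨1, one_mem G, fun i => by simp⟩
  | succ r ih =>
    intro hr
    obtain ⟨g, hg, hgS⟩ := ih (by omega)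
    let i₀ : Fin k := ⟨2 * r, by omega⟩
    let j₀ : Fin k := ⟨2 * r + 1, by omega⟩
    have hij : i₀ ≠ j₀ := by simp [i₀, j₀, Fin.ext_iff]
    set A := E f (-1) (e i₀) (e j₀) with hA
    set B := E f (-1) (e' i₀) (e' j₀) with hB
    have hAx : ∀ x, (A : Matrix _ _ F) *ᵥ x = x + f x (e j₀) • e i₀ - f x (e i₀) • e j₀ :=
      fun x => by rw [hA, E_mulVec hf (hee _ _) (hee _ _) (hee _ _)]; module
    have hBx : ∀ x, (B : Matrix _ _ F) *ᵥ x = x + f x (e' j₀) • e' i₀ - f x (e' i₀) • e' j₀ :=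
      fun x => by rw [hB, E_mulVec hf (hff _ _) (hff _ _) (hff _ _)]; module
    set t := A * B * A with ht
    have htG : t ∈ G := mul_mem (mul_mem (hG0 _ (b i₀).2 _ (b j₀).2)
      (hG1 _ (he' i₀) _ (he' j₀))) (hG0 _ (b i₀).2 _ (b j₀).2)
    have hti : (t : Matrix _ _ F) *ᵥ e i₀ = -e' j₀ ∧ (t : Matrix _ _ F) *ᵥ e j₀ = e' i₀ ∧
        (t : Matrix _ _ F) *ᵥ e' i₀ = -e j₀ ∧ (t : Matrix _ _ F) *ᵥ e' j₀ = e i₀ := by
      refine ⟨?_, ?_, ?_, ?_⟩ <;>
      · simp only [ht, Units.val_mul, ← mulVec_mulVec, hAx, hBx, hf.add_left, hf.smul_left,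
          sub_left hf, hee, hff, hef, hfe, hij, Ne.symm hij, if_true, if_false]
        module
    have ht3 : ∀ z, f z (e i₀) = 0 → f z (e j₀) = 0 → f z (e' i₀) = 0 → f z (e' j₀) = 0 →
        (t : Matrix _ _ F) *ᵥ z = z := fun z z1 z2 z3 z4 => by
      simp [ht, Units.val_mul, ← mulVec_mulVec, hAx, hBx, z1, z2, z3, z4]
    refine ⟨t * g, mul_mem htG hg, fun i => ⟨fun hi => ?_, fun hi => ?_⟩⟩
    · rw [Units.val_mul, ← mulVec_mulVec, ← mulVec_mulVec]
      by_cases hlt : i.val < 2 * r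
      · obtain ⟨h1, h2⟩ := (hgS i).1 hlt
        have hi0 := (hgS i₀).2 (by simp [i₀])
        have hj0 := (hgS j₀).2 (by simp [j₀])
        have hgi := mem_isom.mp (hGi hg)
        have hne0 : i ≠ i₀ := fun h => by simp [h, i₀] at hlt
        have hne1 : i ≠ j₀ := fun h => by rw [h] at hlt; simp only [j₀] at hlt; omega
        rw [ht3 _ (by rw [← hi0.1, hgi]; exact hee _ _) (by rw [← hj0.1, hgi]; exact hee _ _)
            (by rw [← hi0.2, hgi, hef, if_neg hne0]) (by rw [← hj0.2, hgi, hef, if_neg hne1]),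
          ht3 _ (by rw [← hi0.1, hgi, hfe, if_neg (Ne.symm hne0)])
            (by rw [← hj0.1, hgi, hfe, if_neg (Ne.symm hne1)])
            (by rw [← hi0.2, hgi]; exact hff _ _) (by rw [← hj0.2, hgi]; exact hff _ _)]
        exact ⟨h1, h2⟩
      · rw [((hgS i).2 hlt).1, ((hgS i).2 hlt).2]
        rcases (by simp only [i₀, j₀, Fin.ext_iff]; omega : i = i₀ ∨ i = j₀) with rfl | rfl
        · rw [hti.1, hti.2.2.1]
          exact ⟨neg_mem (he' j₀), neg_mem (b j₀).2⟩
        · rw [hti.2.1, hti.2.2.2]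
          exact ⟨he' i₀, (b i₀).2⟩
    · rw [Units.val_mul, ← mulVec_mulVec, ← mulVec_mulVec]
      have hge : ¬ i.val < 2 * r := by omega
      have hne0 : i ≠ i₀ := fun h => by simp [h, i₀] at hi
      have hne1 : i ≠ j₀ := fun h => by rw [h] at hi; simp only [j₀] at hi; omega
      rw [((hgS i).2 hge).1, ((hgS i).2 hge).2]
      exact ⟨ht3 _ (hee _ _) (hee _ _) (by rw [hef, if_neg hne0]) (by rw [hef, if_neg hne1]),
        ht3 _ (by rw [hfe, if_neg (Ne.symm hne0)]) (by rw [hfe, if_neg (Ne.symm hne1)])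
          (hff _ _) (hff _ _)⟩

end

section Facts

/-- An isometry of `Q` fixing both subspaces and the elements swapping them. -/
theorem odd_dickson_swap (hf : IsPairForm (RingHom.id F) (-1 : F) (QuadraticMap.polar ⇑Q))
    (hp : IsPair (QuadraticMap.polar ⇑Q) k (D 0) (D 1)) (hk : 3 ≤ k) (hko : Odd k)
    (hQ : ∀ i, ∀ x ∈ D i, Q x = 0) {s : GL (Fin n) F} (hs : s ∈ Geo.omegaGL ⇑Q)
    (h0 : ∀ x ∈ D 0, (s : Matrix (Fin n) (Fin n) F) *ᵥ x ∈ D 1)
    (h1 : ∀ x ∈ D 1, (s : Matrix (Fin n) (Fin n) F) *ᵥ x ∈ D 0) : False := by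
  classical
  set f := QuadraticMap.polar ⇑Q with hfdef
  -- generation by reflections, hence the parity character
  have hQnd : UnitaryOrthogonal.PolarND Q := fun u hu => hf.nondeg u fun x => by
    rw [hfdef, QuadraticMap.polar_comm]; exact hu x
  obtain ⟨e0⟩ := exists_isometryEquiv hf hp hQ
  obtain ⟨j, rfl⟩ : ∃ j, k = j + 2 := ⟨k - 2, by omega⟩
  let e := e0.trans (UnitaryOrthogonal.hypSumTwo (UnitaryOrthogonal.zeroForm F) j)
  have hrefl : UnitaryOrthogonal.reflGroup Q = ⊤ :=
    UnitaryOrthogonal.reflGroup_congr e.symm (UnitaryOrthogonal.reflGroup_eq_top_of_elem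
      (UnitaryOrthogonal.PolarND.hypSum (UnitaryOrthogonal.polarND_zeroForm (F := F)) j)
      (UnitaryOrthogonal.exists_hypSum_ne_zero (Q := UnitaryOrthogonal.zeroForm F) j
        (Or.inl (by omega)))
      (UnitaryOrthogonal.elemGroup_hypHyp
        (UnitaryOrthogonal.polarND_zeroForm (F := F)) UnitaryOrthogonal.reflGroup_zeroForm j))
  set δ := UnitaryOrthogonal.dickson hQnd hrefl with hδ
  let ψ := UnitaryOrthogonal.isometryGroupEquiv Q (fun _ => rfl)
  obtain ⟨g, hg, rfl⟩ := hs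
  have hδg : δ (ψ g) = 1 := by
    have : (δ.comp ψ.toMonoidHom) g = 1 := Abelianization.commutator_subset_ker _ hg
    exact this
  -- the product of the reflections interchanging dual basis vectors
  let b := Module.finBasisOfFinrankEq F (D 0) hp.fin₁
  choose e' he' hee' using fun i => exists_rep_mem hf hp (b.coord i)
  have hef : ∀ i j, f (b j : Fin n → F) (e' i) = if j = i then 1 else 0 := fun i j => by
    simp only [hee', Module.Basis.coord_apply, Module.Basis.repr_self, Finsupp.single_apply]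
  have hfe : ∀ i j, f (e' i) (b j : Fin n → F) = if j = i then 1 else 0 := fun i j => by
    rw [← hef i j, hfdef, QuadraticMap.polar_comm]
  have hee : ∀ i j, f (b i : Fin n → F) (b j : Fin n → F) = 0 := fun i j =>
    hp.iso₁ _ (b i).2 _ (b j).2
  have hff : ∀ i j, f (e' i) (e' j) = 0 := fun i j => hp.iso₂ _ (he' i) _ (he' j)
  have hQa : ∀ i, Q ((b i : Fin n → F) - e' i) = -1 := fun i => by
    rw [sub_eq_add_neg, UnitaryOrthogonal.form_add, hQ 0 _ (b i).2, hQ 1 _ (neg_mem (he' i)),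
      ← hfdef, neg_right hf, hef, if_pos rfl]
    ring
  have hrf : ∀ i x, (UnitaryOrthogonal.rf Q ((b i : Fin n → F) - e' i)).1 x =
      x + (f x (b i : Fin n → F) - f x (e' i)) • ((b i : Fin n → F) - e' i) := fun i x => by
    rw [UnitaryOrthogonal.rf_apply, hQa, ← sub_right hf, hfdef,
      QuadraticMap.polar_comm _ _ x]
    match_scalars <;> field_simp
  have key : ∀ S : Finset (Fin (j + 2)), ∃ r : UnitaryOrthogonal.orth Q,
      δ r = Multiplicative.ofAdd (S.card : ZMod 2) ∧ ∀ i,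
        (i ∈ S → r.1 (b i : Fin n → F) = e' i ∧ r.1 (e' i) = (b i : Fin n → F)) ∧
        (i ∉ S → r.1 (b i : Fin n → F) = (b i : Fin n → F) ∧ r.1 (e' i) = e' i) := by
    intro S
    induction S using Finset.induction with
    | empty => exact ⟨1, by simp, fun i => by simp⟩
    | insert a S ha ih =>
      obtain ⟨r, hr, hrS⟩ := ih
      refine ⟨UnitaryOrthogonal.rf Q ((b a : Fin n → F) - e' a) * r, ?_, fun i => ⟨fun hi => ?_,
        fun hi => ?_⟩⟩
      · rw [map_mul, hr, hδ, UnitaryOrthogonal.dickson_apply,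
          UnitaryOrthogonal.moved_rf hQnd (by rw [hQa]; exact neg_ne_zero.mpr one_ne_zero),
          ← ofAdd_add, Finset.card_insert_of_notMem ha]
        congr 1
        push_cast
        ring
      · rw [UnitaryOrthogonal.coe_mul_apply, UnitaryOrthogonal.coe_mul_apply]
        rcases Finset.mem_insert.mp hi with rfl | hiS
        · rw [((hrS i).2 ha).1, ((hrS i).2 ha).2, hrf, hrf, hee, hef, hfe, hff, if_pos rfl]
          exact ⟨by module, by module⟩
        · rw [((hrS i).1 hiS).1, ((hrS i).1 hiS).2, hrf, hrf, hee, hef, hfe, hff,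
            if_neg (fun h => ha (by subst h; exact hiS)),
            if_neg (fun h => ha (by subst h; exact hiS))]
          simp
      · simp only [Finset.mem_insert, not_or] at hi
        rw [UnitaryOrthogonal.coe_mul_apply, UnitaryOrthogonal.coe_mul_apply,
          ((hrS i).2 hi.2).1, ((hrS i).2 hi.2).2, hrf, hrf, hee, hef, hfe, hff,
          if_neg hi.1]
        simp [hi.1, Ne.symm hi.1]
  obtain ⟨r, hr, hrS⟩ := key Finset.univ
  have hr0 : ∀ x ∈ D 1, r.1 x ∈ D 0 := by
    intro x hx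
    have hspan : x = ∑ i, f (b i : Fin n → F) x • e' i := by
      refine sub_eq_zero.mp (hf.nondeg _ fun z => ?_)
      obtain ⟨p, hp1, p', hp2, rfl⟩ := hp.exists_add z
      have e1 : p = ∑ i, b.repr ⟨p, hp1⟩ i • (b i : Fin n → F) := by
        have h := congrArg Subtype.val (b.sum_repr ⟨p, hp1⟩).symm
        refine h.trans ?_
        simp only [Submodule.coe_sum, Submodule.coe_smul]
      have hsum : ∑ i, f (b i : Fin n → F) x • e' i ∈ D 1 :=
        sum_mem fun i _ => (D 1).smul_mem _ (he' i)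
      rw [hf.add_left, hp.iso₂ _ hp2 _ (sub_mem hx hsum), add_zero, e1, ← lm_apply hf, map_sum]
      refine Finset.sum_eq_zero fun i _ => ?_
      rw [map_smul, lm_apply, sub_right hf, hfdef, ← QuadraticMap.polarBilin_apply_apply,
        ← QuadraticMap.polarBilin_apply_apply, map_sum]
      simp [← hfdef, hef]
    rw [hspan, map_sum]
    exact sum_mem fun i _ => by
      rw [map_smul, ((hrS i).1 (Finset.mem_univ i)).2]; exact (D 0).smul_mem _ (b i).2
  have hr1 : ∀ x ∈ D 0, r.1 x ∈ D 1 := by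
    intro x hx
    have e1 : x = ∑ i, b.repr ⟨x, hx⟩ i • (b i : Fin n → F) := by
      have h := congrArg Subtype.val (b.sum_repr ⟨x, hx⟩).symm
      refine h.trans ?_
      simp only [Submodule.coe_sum, Submodule.coe_smul]
    rw [e1, map_sum]
    exact sum_mem fun i _ => by
      rw [map_smul, ((hrS i).1 (Finset.mem_univ i)).1]; exact (D 1).smul_mem _ (he' i)
  -- the product fixes both subspaces, so its parity is even
  set L := (r * ψ g).1.toLinearMap - LinearMap.id with hL
  have hfix : ∀ i, ∀ x ∈ D i, (r * ψ g).1 x ∈ D i := Fin.forall_fin_two.mpr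
    ⟨fun x hx => hr0 _ (h0 x hx), fun x hx => hr1 _ (h1 x hx)⟩
  have hLD : ∀ i, (D i).map L ≤ D i := fun i => by
    rintro _ ⟨x, hx, rfl⟩
    exact sub_mem (hfix i x hx) hx
  have hrange : LinearMap.range L = (D 0).map L ⊔ (D 1).map L := by
    rw [LinearMap.range_eq_map, ← hp.compl.sup_eq_top, Submodule.map_sup]
  have hbound : ∀ (W W' : Submodule F (Fin n → F)), IsPair f (j + 2) W W' → W'.map L ≤ W' →
      Module.finrank F ↥(W'.map L) ≤ Module.finrank F ↥(W.map L) := by
    intro W W' hW hle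
    let φ : W'.map L →ₗ[F] Module.Dual F W :=
      { toFun := fun z => (lm hf (z : Fin n → F)).comp W.subtype
        map_add' := fun y z => LinearMap.ext fun x => hf.add_right _ _ _
        map_smul' := fun a z => LinearMap.ext fun x => hf.smul_right _ _ _ }
    have hinj : Function.Injective φ := by
      rw [injective_iff_map_eq_zero]
      intro z hz
      refine Subtype.ext (hf.nondeg _ fun y => ?_)
      obtain ⟨p, hp1, p', hp2, rfl⟩ := hW.exists_add y
      rw [hf.add_left, hW.iso₂ p' hp2 _ (hle z.2), add_zero]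
      exact LinearMap.congr_fun hz ⟨p, hp1⟩
    have hker : LinearMap.range φ ≤ (LinearMap.ker (L.domRestrict W)).dualAnnihilator := by
      rintro _ ⟨⟨_, y, hy, rfl⟩, rfl⟩
      rw [Submodule.mem_dualAnnihilator]
      intro x hx
      have hx' : (r * ψ g).1 (x : Fin n → F) = x := sub_eq_zero.mp (LinearMap.mem_ker.mp hx)
      show f (x : Fin n → F) ((r * ψ g).1 y - y) = 0
      rw [sub_right hf]
      conv_lhs => arg 1; rw [← hx', hfdef, UnitaryOrthogonal.map_polar]
      rw [hfdef, sub_self]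
    have e1 := LinearMap.finrank_range_of_inj hinj
    have e2 := Submodule.finrank_mono hker
    have e3 := Subspace.finrank_add_finrank_dualAnnihilator_eq (LinearMap.ker (L.domRestrict W))
    have e4 := LinearMap.finrank_range_add_finrank_ker (L.domRestrict W)
    rw [LinearMap.range_domRestrict] at e4
    omega
  have hev : δ (r * ψ g) = 1 := by
    rw [hδ, UnitaryOrthogonal.dickson_apply, ofAdd_eq_one, ZMod.natCast_eq_zero_iff_even]
    show Even (Module.finrank F (LinearMap.range L))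
    have e1 := Submodule.finrank_sup_add_finrank_inf_eq ((D 0).map L) ((D 1).map L)
    have e2 : (D 0).map L ⊓ (D 1).map L = ⊥ :=
      eq_bot_iff.mpr ((inf_le_inf (hLD 0) (hLD 1)).trans hp.compl.inf_eq_bot.le)
    rw [e2, finrank_bot, add_zero] at e1
    have e3 := hbound _ _ hp (hLD 1)
    have e4 := hbound _ _ hp.symm (hLD 0)
    rw [hrange, e1]
    exact ⟨Module.finrank F ↥((D 0).map L), by omega⟩
  rw [map_mul, hδg, mul_one, hr, ofAdd_eq_one, ZMod.natCast_eq_zero_iff_even, Finset.card_univ,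
    Fintype.card_fin] at hev
  exact Nat.not_even_iff_odd.mpr hko hev

/-- `E a b` inside one subspace moves the other. -/
theorem E_notMem (hf : IsPairForm (RingHom.id F) (-1 : F) (QuadraticMap.polar ⇑Q))
    {W W' : Submodule F (Fin n → F)} (hp : IsPair (QuadraticMap.polar ⇑Q) k W W') (hk : 2 ≤ k) :
    ∃ a ∈ W, ∃ b ∈ W, ∃ y ∈ W', ∃ a' ∈ W, a' ≠ 0 ∧
      (E (QuadraticMap.polar ⇑Q) (-1 : F) a b : Matrix (Fin n) (Fin n) F) *ᵥ y = y + a' := by
  classical
  obtain ⟨a, ha, ha0⟩ := W.ne_bot_iff.mp fun h => by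
    have := hp.fin₁; rw [h, finrank_bot] at this; omega
  obtain ⟨b, hb, hbU⟩ := exists_notMem hf hp (U := Submodule.span F {a}) (by
    rw [finrank_span_singleton ha0]; omega)
  obtain ⟨y, hy, hby, hyU⟩ := exists_dual_mem hf hp hb hbU
  refine ⟨a, ha, b, hb, y, hy, a, ha, ha0, ?_⟩
  rw [E_mulVec hf (hp.iso₁ a ha a ha) (hp.iso₁ b hb b hb) (hp.iso₁ a ha b hb),
    QuadraticMap.polar_comm _ y b, hby, QuadraticMap.polar_comm _ y a,
    hyU a ha (Submodule.mem_span_singleton_self _)]
  simp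

/-- The data of a quadratic form given as a function with a totally singular decomposition. -/
theorem exists_setup {Q : (Fin n → F) → F} (hQ : Geo.IsNondegenerateQuadraticForm Q)
    (hD : Geo.IsMDecomposition k D) (hts : ∀ i, Geo.IsTotallySingularQuad Q (D i)) :
    ∃ Qf : QuadraticForm F (Fin n → F), Q = ⇑Qf ∧
      IsPairForm (RingHom.id F) (-1 : F) (QuadraticMap.polar ⇑Qf) ∧
      IsPair (QuadraticMap.polar ⇑Qf) k (D 0) (D 1) := by
  refine ⟨QuadraticMap.ofPolar Q
    (fun a x => by rw [smul_eq_mul, hQ.smul, sq])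
    hQ.polar_bilinear.add_left
    (fun a x y => by rw [smul_eq_mul]; exact hQ.polar_bilinear.smul_left a x y), rfl, ?_, ?_⟩
  · refine isPairForm_polar fun v hv => ?_
    by_contra h
    obtain ⟨x, hx⟩ := (hQ.nondegenerate v h).1
    exact hx (hv x)
  · have hiso : ∀ i, ∀ x ∈ D i, ∀ y ∈ D i, QuadraticMap.polar Q x y = 0 := fun i x hx y hy => by
      rw [QuadraticMap.polar, hts i _ (add_mem hx hy), hts i x hx, hts i y hy]
      ring
    refine ⟨⟨hD.indep.pairwiseDisjoint (by decide), codisjoint_iff.mpr ?_⟩, hiso 0, hiso 1,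
      hD.finrank_eq 0, hD.finrank_eq 1⟩
    rw [eq_top_iff, ← hD.iSup_eq_top, iSup_le_iff]
    exact Fin.forall_fin_two.mpr ⟨le_sup_left, le_sup_right⟩

theorem omega_isom {Q : QuadraticForm F (Fin n → F)} {g : GL (Fin n) F}
    (hg : g ∈ Geo.omegaGL ⇑Q) :
    (∀ x, Q ((g : Matrix (Fin n) (Fin n) F) *ᵥ x) = Q x) ∧
      g ∈ isom (QuadraticMap.polar ⇑Q) := by
  obtain ⟨g, -, rfl⟩ := hg
  have h : ∀ x, Q (((g.1 : GL (Fin n) F) : Matrix (Fin n) (Fin n) F) *ᵥ x) = Q x :=
    fun x => g.2 x x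
  refine ⟨h, fun u v => ?_⟩
  show QuadraticMap.polar ⇑Q (((g.1 : GL (Fin n) F) : Matrix (Fin n) (Fin n) F) *ᵥ u)
    (((g.1 : GL (Fin n) F) : Matrix (Fin n) (Fin n) F) *ᵥ v) = QuadraticMap.polar ⇑Q u v
  simp only [QuadraticMap.polar, ← mulVec_add, h]

end Facts

end Cfsg.Agent.LagPair
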