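import Cfsg.Agent.Lib.UnitaryOrthogonal.OmegaStandard
import Cfsg.Agent.Forms59.Binary

/-!
Facts on `Ω` for an arbitrary non-degenerate quadratic form of dimension at least five over a
finite field, without choosing coordinates (helper24).
-/

set_option autoImplicit false

namespace Cfsg.Agent.OrthStab

open QuadraticMap Cfsg.Agent.UnitaryOrthogonal

universe u v

variable {F : Type u} [Field F] {V : Type v} [AddCommGroup V] [Module F V]
variable {Q : QuadraticForm F V}

/-- The vectors orthogonal to two given ones. -/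
def perp₂ (Q : QuadraticForm F V) (a b : V) : Submodule F V :=
  LinearMap.ker (polarBilin Q a) ⊓ LinearMap.ker (polarBilin Q b)

theorem mem_perp₂ {a b x : V} : x ∈ perp₂ Q a b ↔ polar Q a x = 0 ∧ polar Q b x = 0 :=
  Iff.rfl

/-- Splitting off the plane of a hyperbolic pair. -/
theorem exists_split {a b : V} (ha : Q a = 0) (hb : Q b = 0) (hab : polar Q a b = 1) :
    Nonempty (Q.IsometryEquiv (hyp (Q.comp (perp₂ Q a b).subtype))) := by
  have haa : polar Q a a = 0 := by rw [polar_self, ha, smul_zero]
  have hbb : polar Q b b = 0 := by rw [polar_self, hb, smul_zero]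
  have hba : polar Q b a = 1 := by rw [polar_comm, hab]
  let T : (F × F) × perp₂ Q a b →ₗ[F] V :=
    { toFun := fun p => p.1.1 • a + p.1.2 • b + (p.2 : V)
      map_add' := fun p p' => by
        simp only [Prod.fst_add, Prod.snd_add, Submodule.coe_add, add_smul]
        abel
      map_smul' := fun c p => by
        simp only [Prod.smul_fst, Prod.smul_snd, Submodule.coe_smul, smul_eq_mul, RingHom.id_apply,
          smul_add, smul_smul] }
  have hT : ∀ p, Q (T p) = hyp (Q.comp (perp₂ Q a b).subtype) p := by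
    intro p
    obtain ⟨hw1, hw2⟩ := mem_perp₂.mp p.2.2
    show Q (p.1.1 • a + p.1.2 • b + (p.2 : V)) = _
    rw [form_add, form_add, form_smul, form_smul, ha, hb, polar_add_left, polar_smul_left,
      polar_smul_left, polar_smul_left, polar_smul_right, hw1, hw2, hab]
    simp [hyp_apply]
  have hinj : Function.Injective T := by
    rw [injective_iff_map_eq_zero]
    intro p hp
    obtain ⟨hw1, hw2⟩ := mem_perp₂.mp p.2.2
    have e1 : polar Q a (T p) = p.1.2 := by
      show polar Q a (p.1.1 • a + p.1.2 • b + (p.2 : V)) = _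
      simp [polar_add_right, polar_smul_right, haa, hab, hw1]
    have e2 : polar Q b (T p) = p.1.1 := by
      show polar Q b (p.1.1 • a + p.1.2 • b + (p.2 : V)) = _
      simp [polar_add_right, polar_smul_right, hbb, hba, hw2]
    rw [hp, polar_zero_right] at e1 e2
    have e3 : (p.2 : V) = 0 := by
      have h : p.1.1 • a + p.1.2 • b + (p.2 : V) = 0 := hp
      simpa [← e1, ← e2] using h
    exact Prod.ext (Prod.ext e2.symm e1.symm) (Subtype.ext e3)
  have hsurj : Function.Surjective T := by
    intro x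
    have hmem : x - polar Q b x • a - polar Q a x • b ∈ perp₂ Q a b := by
      rw [mem_perp₂]
      simp [polar_sub_right, polar_smul_right, haa, hbb, hab, hba]
    exact ⟨((polar Q b x, polar Q a x), ⟨_, hmem⟩), by
      show polar Q b x • a + polar Q a x • b + (x - polar Q b x • a - polar Q a x • b) = x
      abel⟩
  let L := LinearEquiv.ofBijective T ⟨hinj, hsurj⟩
  exact ⟨{ L.symm with
    map_app' := fun x => by
      obtain ⟨p, rfl⟩ := L.surjective x
      show hyp _ (L.symm (L p)) = Q (L p)
      rw [LinearEquiv.symm_apply_apply]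
      exact (hT p).symm }⟩

theorem polarND_perp₂ (hQ : PolarND Q) {a b : V} (ha : Q a = 0) (hb : Q b = 0)
    (hab : polar Q a b = 1) : PolarND (Q.comp (perp₂ Q a b).subtype) := by
  intro w hw
  refine Subtype.ext (hQ _ fun x => ?_)
  obtain ⟨hw1, hw2⟩ := mem_perp₂.mp w.2
  have haa : polar Q a a = 0 := by rw [polar_self, ha, smul_zero]
  have hbb : polar Q b b = 0 := by rw [polar_self, hb, smul_zero]
  have hba : polar Q b a = 1 := by rw [polar_comm, hab]
  have hmem : x - polar Q b x • a - polar Q a x • b ∈ perp₂ Q a b := by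
    rw [mem_perp₂]
    simp [polar_sub_right, polar_smul_right, haa, hbb, hab, hba]
  have h := hw ⟨_, hmem⟩
  simp only [polar, comp_apply, Submodule.subtype_apply, Submodule.coe_add] at h
  have h' : polar Q (w : V) (x - polar Q b x • a - polar Q a x • b) = 0 := h
  simpa [polar_sub_right, polar_smul_right, polar_comm Q (w : V) a, polar_comm Q (w : V) b,
    hw1, hw2] using h'

theorem finrank_perp₂ [FiniteDimensional F V] {a b : V} (ha : Q a = 0) (hb : Q b = 0)
    (hab : polar Q a b = 1) :
    Module.finrank F V = Module.finrank F (perp₂ Q a b) + 2 := by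
  obtain ⟨e⟩ := exists_split ha hb hab
  have := e.toLinearEquiv.finrank_eq
  simp only [Module.finrank_prod, Module.finrank_self] at this
  omega

/-- Reflections generate an anisotropic orthogonal group. -/
theorem reflGroup_of_anisotropic [Finite V] (haniso : ∀ x, Q x = 0 → x = 0) :
    reflGroup Q = ⊤ := by
  let fx : orth Q → Set V := fun g => {x | g.1 x = x}
  suffices ∀ k, ∀ g : orth Q, Nat.card V - (fx g).ncard = k → g ∈ reflGroup Q from
    eq_top_iff.mpr fun g _ => this _ g rfl
  intro k
  induction k using Nat.strong_induction_on with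
  | _ k ih =>
    intro g hk
    by_cases hg : ∀ x, g.1 x = x
    · exact (orth_ext (h := 1) hg) ▸ one_mem _
    simp only [not_forall] at hg
    obtain ⟨v, hv⟩ := hg
    have hne : Q (v - g.1 v) ≠ 0 := fun h => hv (sub_eq_zero.mp (haniso _ h)).symm
    have hr := rf_sub_apply (Q := Q) (map_form g v).symm hne
    set r := rf Q (v - g.1 v)
    have hrv : r.1 (g.1 v) = v := by
      conv_lhs => rw [← hr]
      rw [← coe_mul_apply, rf_mul_self, coe_one_apply]
    have hsub : insert v (fx g) ⊆ fx (r * g) := by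
      rintro x (rfl | hx)
      · exact hrv
      · show (r * g).1 x = x
        rw [coe_mul_apply, show g.1 x = x from hx]
        refine rf_apply_of_polar ?_
        rw [polar_sub_left]
        conv_lhs => arg 2; rw [← (show g.1 x = x from hx), map_polar]
        rw [sub_self]
    have h1 := Set.ncard_le_ncard hsub (Set.toFinite _)
    rw [Set.ncard_insert_of_notMem (show v ∉ fx g from hv) (Set.toFinite _)] at h1
    have h2 : (fx (r * g)).ncard ≤ Nat.card V := by
      rw [← Set.ncard_univ]; exact Set.ncard_le_ncard (Set.subset_univ _) (Set.toFinite _)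
    have h3 := ih _ (by omega) (r * g) rfl
    have := mul_mem (inv_mem (rf_mem_reflGroup (Q := Q) (v - g.1 v))) h3
    rwa [inv_mul_cancel_left] at this

theorem elemGroup_eq_top_aux [Finite F] : ∀ (n : ℕ) {V : Type v} [AddCommGroup V] [Module F V]
    [FiniteDimensional F V] (Q : QuadraticForm F V), Module.finrank F V = n → PolarND Q →
    elemGroup Q = ⊤ := by
  intro n
  induction n using Nat.strong_induction_on with
  | _ n ih =>
    intro V _ _ _ Q hn hQ
    haveI : Finite V := Module.finite_of_finite F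
    by_cases h : ∀ x, Q x = 0 → x = 0
    · exact elemGroup_of_refl (reflGroup_of_anisotropic h)
    simp only [not_forall] at h
    obtain ⟨a, ha, ha0⟩ := h
    obtain ⟨b, hb, hab⟩ := exists_pair hQ.nonsing ha ha0
    have hd := finrank_perp₂ ha hb hab
    obtain ⟨e⟩ := exists_split ha hb hab
    exact elemGroup_congr e.symm (elemGroup_hyp_eq_top (polarND_perp₂ hQ ha hb hab).nonsing
      (ih _ (by omega) _ rfl (polarND_perp₂ hQ ha hb hab)))

theorem elemGroup_eq_top [Finite F] [FiniteDimensional F V] (hQ : PolarND Q) :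
    elemGroup Q = ⊤ :=
  elemGroup_eq_top_aux _ Q rfl hQ

/-- A singular non-zero vector in a subspace of dimension at least three. -/
theorem exists_singular_mem [Finite F] [FiniteDimensional F V] (U : Submodule F V)
    (h : 3 ≤ Module.finrank F U) : ∃ x ∈ U, x ≠ 0 ∧ Q x = 0 := by
  obtain ⟨x, hx0, hx⟩ := Forms59.exists_singular (Q.comp U.subtype) h
  exact ⟨x, x.2, fun h0 => hx0 (Subtype.ext h0), hx⟩

/-- In dimension five or more the space is `hyp (hyp M)`. -/
theorem exists_model [Finite F] [FiniteDimensional F V] (hQ : PolarND Q)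
    (h5 : 5 ≤ Module.finrank F V) :
    ∃ (U : Submodule F V) (U' : Submodule F U) (M : QuadraticForm F U'),
      PolarND M ∧ (∃ x, M x ≠ 0) ∧ elemGroup (hyp (hyp M)) = ⊤ ∧
      Nonempty (Q.IsometryEquiv (hyp (hyp M))) := by
  obtain ⟨a, -, ha0, ha⟩ := exists_singular_mem (Q := Q) ⊤ (by rw [finrank_top]; omega)
  obtain ⟨b, hb, hab⟩ := exists_pair hQ.nonsing ha ha0
  have hQ1 := polarND_perp₂ hQ ha hb hab
  have hd1 := finrank_perp₂ ha hb hab
  set U := perp₂ Q a b with hU
  set Q1 := Q.comp U.subtype with hQ1def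
  obtain ⟨e1⟩ := exists_split ha hb hab
  obtain ⟨a', -, ha0', ha'⟩ := exists_singular_mem (Q := Q1) ⊤ (by rw [finrank_top]; omega)
  obtain ⟨b', hb', hab'⟩ := exists_pair hQ1.nonsing ha' ha0'
  have hQ2 := polarND_perp₂ hQ1 ha' hb' hab'
  have hd2 := finrank_perp₂ ha' hb' hab'
  obtain ⟨e2⟩ := exists_split ha' hb' hab'
  have hne : ∃ x, (Q1.comp (perp₂ Q1 a' b').subtype) x ≠ 0 := by
    by_contra hc
    simp only [not_exists, not_not] at hc
    have hpos : 0 < Module.finrank F (perp₂ Q1 a' b') := by omega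
    haveI := Module.nontrivial_of_finrank_pos hpos
    obtain ⟨x, hx⟩ := exists_ne (0 : perp₂ Q1 a' b')
    exact hx (hQ2 x fun y => by simp only [polar, hc, sub_self])
  refine ⟨U, perp₂ Q1 a' b', Q1.comp (perp₂ Q1 a' b').subtype, hQ2, hne,
    elemGroup_eq_top hQ2.hyp.hyp, ⟨e1.trans (hypCongr e2)⟩⟩

/-- `eichGroup` corresponds to `eichGroup` under a change of space. -/
theorem map_eichGroup {V' : Type*} [AddCommGroup V'] [Module F V'] {Q' : QuadraticForm F V'}
    (e : Q.IsometryEquiv Q') :
    (eichGroup Q).map (orthCongr e).toMonoidHom = eichGroup Q' := by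
  refine le_antisymm ?_ ?_
  · rw [eichGroup, MonoidHom.map_closure, Subgroup.closure_le]
    rintro _ ⟨_, ⟨u, z, -, -, rfl⟩, rfl⟩
    show orthCongr e (eich Q u z) ∈ _
    rw [orthCongr_eich]
    exact eich_mem_eichGroup _ _
  · rw [eichGroup, Subgroup.closure_le]
    rintro _ ⟨u, z, -, -, rfl⟩
    obtain ⟨u', rfl⟩ := e.toLinearEquiv.surjective u
    obtain ⟨z', rfl⟩ := e.toLinearEquiv.surjective z
    exact ⟨eich Q u' z', eich_mem_eichGroup _ _, orthCongr_eich e u' z'⟩

theorem mem_eichGroup_congr {V' : Type*} [AddCommGroup V'] [Module F V'] {Q' : QuadraticForm F V'}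
    (e : Q.IsometryEquiv Q') {g : orth Q} : orthCongr e g ∈ eichGroup Q' ↔ g ∈ eichGroup Q := by
  rw [← map_eichGroup e]
  exact Subgroup.mem_map_iff_mem (orthCongr e).injective

section Five

variable [Finite F] [FiniteDimensional F V] (hQ : PolarND Q) (h5 : 5 ≤ Module.finrank F V)
include hQ h5

theorem commutator_eq : commutator (orth Q) = eichGroup Q := by
  obtain ⟨U, U', M, hM, hex, hgen, ⟨e⟩⟩ := exists_model hQ h5
  haveI : Finite U' := Module.finite_of_finite F
  apply Subgroup.map_injective (f := (orthCongr e).toMonoidHom) (orthCongr e).injective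
  rw [map_eichGroup e, ← commutator_eq_eichGroup hM hex hgen, commutator_def, commutator_def,
    Subgroup.map_commutator, Subgroup.map_top_of_surjective _ (orthCongr e).surjective]

theorem rf_mul_rf_mem {a b : V} (ha : Q a ≠ 0) (h : Q a = Q b) :
    rf Q a * rf Q b ∈ eichGroup Q := by
  obtain ⟨U, U', M, hM, hex, hgen, ⟨e⟩⟩ := exists_model hQ h5
  rw [← mem_eichGroup_congr e, map_mul, orthCongr_rf, orthCongr_rf]
  exact rf_inv_mul_rf_mem hM (by rw [e.map_app]; exact ha) (by rw [e.map_app, e.map_app, h])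

theorem exists_eich_map_of_form_eq {a d : V} (ha : a ≠ 0) (hd : d ≠ 0) (h : Q a = Q d) :
    ∃ g ∈ eichGroup Q, g.1 a = d := by
  obtain ⟨U, U', M, hM, hex, hgen, ⟨e⟩⟩ := exists_model hQ h5
  obtain ⟨g, hg, hgad⟩ := exists_eich_map hM (a := e a) (d := e d)
    (fun h0 => ha (e.toLinearEquiv.map_eq_zero_iff.mp h0))
    (fun h0 => hd (e.toLinearEquiv.map_eq_zero_iff.mp h0))
    (by rw [e.map_app, e.map_app, h])
  obtain ⟨g', rfl⟩ := (orthCongr e).surjective g
  refine ⟨g', (mem_eichGroup_congr e).mp hg, e.toLinearEquiv.injective ?_⟩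
  show e _ = e _
  rw [← orthCongr_apply]
  exact hgad

theorem eichGroup_le_of_singular {H : Subgroup (orth Q)}
    (h : ∀ u z, Q u = 0 → Q z = 0 → polar Q u z = 0 → eich Q u z ∈ H) : eichGroup Q ≤ H := by
  obtain ⟨U, U', M, hM, hex, hgen, ⟨e⟩⟩ := exists_model hQ h5
  let S : Set (orth (hyp (hyp M))) :=
    {x | ∃ u z, hyp (hyp M) u = 0 ∧ hyp (hyp M) z = 0 ∧ polar (hyp (hyp M)) u z = 0 ∧
      x = eich _ u z}
  have hconj : ∀ g, ∀ x ∈ Subgroup.closure S, g * x * g⁻¹ ∈ Subgroup.closure S := by
    intro g x hx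
    induction hx using Subgroup.closure_induction with
    | mem x hx =>
      obtain ⟨u, z, hu, hz, huz, rfl⟩ := hx
      exact Subgroup.subset_closure ⟨g.1 u, g.1 z, by rw [map_form, hu], by rw [map_form, hz],
        by rw [map_polar, huz], conj_eich g u z⟩
    | one => simp
    | mul x y _ _ hx hy => simpa [mul_assoc] using mul_mem hx hy
    | inv x _ hx => simpa [mul_assoc] using inv_mem hx
  have hle : eichGroup (hyp (hyp M)) ≤ Subgroup.closure S :=
    eichGroup_le_of_eVec hM (fun g _ => hconj g) (eVec_mem_of_singular fun w hw =>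
      Subgroup.subset_closure ⟨_, _, hyp_eVec, by rw [hyp_inW]; exact hw, polar_eVec_inW w, rfl⟩)
  intro g hg
  have h1 : Subgroup.closure S ≤ H.map (orthCongr e).toMonoidHom := by
    rw [Subgroup.closure_le]
    rintro _ ⟨u, z, hu, hz, huz, rfl⟩
    obtain ⟨u', rfl⟩ := e.toLinearEquiv.surjective u
    obtain ⟨z', rfl⟩ := e.toLinearEquiv.surjective z
    refine ⟨eich Q u' z', h u' z' ?_ ?_ ?_, orthCongr_eich e u' z'⟩
    · rw [← e.map_app]; exact hu
    · rw [← e.map_app]; exact hz
    · rw [← polar_isometryEquiv e]; exact huz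
  obtain ⟨g', hg', hgg'⟩ := h1 (hle ((mem_eichGroup_congr e).mpr hg))
  exact (orthCongr e).injective hgg' ▸ hg'

end Five

end Cfsg.Agent.OrthStab
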