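import Cfsg.Agent.MaxSub.OrthGen

/-!
A subgroup containing the stabiliser in `Ω` of a non-degenerate subspace of dimension at least
seven and some further element of `Ω` contains all of `Ω` (helper24).
-/

set_option autoImplicit false

namespace Cfsg.Agent.OrthStab

open QuadraticMap Cfsg.Agent.UnitaryOrthogonal

variable {F : Type*} [Field F] [Finite F] {V : Type*} [AddCommGroup V] [Module F V]
variable [FiniteDimensional F V] {Q : QuadraticForm F V} {W₁ W₂ : Submodule F V}

/-- Two orthogonal complementary subspaces. -/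
structure IsOrthPair (Q : QuadraticForm F V) (W₁ W₂ : Submodule F V) : Prop where
  nd : PolarND Q
  compl : IsCompl W₁ W₂
  orth : ∀ x ∈ W₁, ∀ y ∈ W₂, polar Q x y = 0

theorem IsOrthPair.symm (h : IsOrthPair Q W₁ W₂) : IsOrthPair Q W₂ W₁ :=
  ⟨h.nd, h.compl.symm, fun x hx y hy => by rw [polar_comm]; exact h.orth y hy x hx⟩

theorem IsOrthPair.exists_add (h : IsOrthPair Q W₁ W₂) (z : V) :
    ∃ x ∈ W₁, ∃ y ∈ W₂, x + y = z :=
  Submodule.mem_sup.mp (h.compl.sup_eq_top ▸ Submodule.mem_top)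

theorem IsOrthPair.eq_zero (h : IsOrthPair Q W₁ W₂) {z : V} (h1 : z ∈ W₁) (h2 : z ∈ W₂) : z = 0 :=
  Submodule.disjoint_def.mp h.compl.disjoint z h1 h2

theorem IsOrthPair.polarND_restrict (h : IsOrthPair Q W₁ W₂) : PolarND (Q.comp W₁.subtype) :=
  fun u hu => Subtype.ext (h.nd _ fun x => by
    obtain ⟨p, hp, q, hq, rfl⟩ := h.exists_add x
    have h1 := hu ⟨p, hp⟩
    simp only [polar, comp_apply, Submodule.subtype_apply, Submodule.coe_add] at h1
    rw [polar_add_right, h.orth _ u.2 q hq, add_zero]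
    exact h1)

/-- A vector of `W₁` with value one at `e` and zero on `S`. -/
theorem IsOrthPair.exists_dual (h : IsOrthPair Q W₁ W₂) {S : Submodule F V} {e : V} (he : e ∈ W₁)
    (hS : e ∉ S) : ∃ c ∈ W₁, polar Q c e = 1 ∧ ∀ x ∈ W₁, x ∈ S → polar Q c x = 0 := by
  obtain ⟨ξ, hξ, hS'⟩ := S.exists_dual_map_eq_bot_of_notMem hS inferInstance
  have hinj : Function.Injective (polarBilin Q) := by
    rw [injective_iff_map_eq_zero]
    exact fun u hu => h.nd u fun x => LinearMap.congr_fun hu x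
  obtain ⟨c, hc⟩ := (LinearMap.injective_iff_surjective_of_finrank_eq_finrank
    (by rw [Subspace.dual_finrank_eq])).mp hinj ((ξ e)⁻¹ • ξ)
  obtain ⟨c₁, hc₁, c₂, hc₂, rfl⟩ := h.exists_add c
  have key : ∀ x ∈ W₁, polar Q c₁ x = (ξ e)⁻¹ * ξ x := fun x hx => by
    have h1 : polar Q (c₁ + c₂) x = (ξ e)⁻¹ * ξ x := LinearMap.congr_fun hc x
    rwa [polar_add_left, polar_comm Q c₂ x, h.orth x hx c₂ hc₂, add_zero] at h1
  refine ⟨c₁, hc₁, (key e he).trans (inv_mul_cancel₀ hξ), fun x hx hxS => ?_⟩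
  rw [key x hx, (Submodule.eq_bot_iff _).mp hS' (ξ x) ⟨x, hxS, rfl⟩, mul_zero]

section Big

/-- A singular vector of `W₁` orthogonal to two vectors and independent of them. -/
theorem exists_perp_singular (_h : IsOrthPair Q W₁ W₂) (hd : 7 ≤ Module.finrank F W₁) (a b : V) :
    ∃ d ∈ W₁, Q d = 0 ∧ polar Q d a = 0 ∧ polar Q d b = 0 ∧ d ≠ 0 ∧
      ∀ r t : F, d ≠ r • a + t • b := by
  classical
  set S := Submodule.span F (({a, b} : Finset V) : Set V) with hS
  have hS2 : Module.finrank F S ≤ 2 := (finrank_span_finset_le_card _).trans Finset.card_le_two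
  obtain ⟨C, hC⟩ := Submodule.exists_isCompl S
  let L := (polarBilin Q a).prod (polarBilin Q b)
  have hdim : 3 ≤ Module.finrank F ↥(W₁ ⊓ LinearMap.ker L ⊓ C) := by
    have e1 := Submodule.finrank_sup_add_finrank_inf_eq W₁ (LinearMap.ker L)
    have e2 := LinearMap.finrank_range_add_finrank_ker L
    have e3 := Submodule.finrank_le (LinearMap.range L)
    have e4 := Submodule.finrank_le (W₁ ⊔ LinearMap.ker L)
    have e5 := Submodule.finrank_sup_add_finrank_inf_eq (W₁ ⊓ LinearMap.ker L) C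
    have e6 := Submodule.finrank_le (W₁ ⊓ LinearMap.ker L ⊔ C)
    have e7 := Submodule.finrank_add_eq_of_isCompl hC
    simp [Module.finrank_prod] at e3
    omega
  obtain ⟨d, ⟨⟨hdW, hdL⟩, hdC⟩, hd0, hdQ⟩ := exists_singular_mem (Q := Q) _ hdim
  simp [L] at hdL
  refine ⟨d, hdW, hdQ, by rw [polar_comm]; exact hdL.1, by rw [polar_comm]; exact hdL.2, hd0,
    fun r t he => hd0 (Submodule.disjoint_def.mp hC.disjoint d ?_ hdC)⟩
  rw [he]
  exact add_mem (Submodule.smul_mem _ _ (Submodule.subset_span (by simp)))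
    (Submodule.smul_mem _ _ (Submodule.subset_span (by simp)))

variable (h : IsOrthPair Q W₁ W₂) (hd : 6 ≤ Module.finrank F W₁)
include h hd

theorem five_le : 5 ≤ Module.finrank F V :=
  le_trans (le_trans (by omega) hd) (Submodule.finrank_le W₁)

/-- A singular vector of `W₁` orthogonal to a vector and independent of it. -/
theorem exists_perp_singular_one (a : V) :
    ∃ d ∈ W₁, Q d = 0 ∧ polar Q d a = 0 ∧ d ≠ 0 ∧ ∀ r : F, d ≠ r • a := by
  classical
  set S := Submodule.span F (({a} : Finset V) : Set V) with hS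
  have hS1 : Module.finrank F S ≤ 1 :=
    (finrank_span_finset_le_card _).trans (Finset.card_singleton a).le
  obtain ⟨C, hC⟩ := Submodule.exists_isCompl S
  have hdim : 3 ≤ Module.finrank F ↥(W₁ ⊓ LinearMap.ker (polarBilin Q a) ⊓ C) := by
    have e1 := Submodule.finrank_sup_add_finrank_inf_eq W₁ (LinearMap.ker (polarBilin Q a))
    have e2 := LinearMap.finrank_range_add_finrank_ker (polarBilin Q a)
    have e3 := Submodule.finrank_le (LinearMap.range (polarBilin Q a))
    have e4 := Submodule.finrank_le (W₁ ⊔ LinearMap.ker (polarBilin Q a))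
    have e5 := Submodule.finrank_sup_add_finrank_inf_eq (W₁ ⊓ LinearMap.ker (polarBilin Q a)) C
    have e6 := Submodule.finrank_le (W₁ ⊓ LinearMap.ker (polarBilin Q a) ⊔ C)
    have e7 := Submodule.finrank_add_eq_of_isCompl hC
    rw [Module.finrank_self] at e3
    omega
  obtain ⟨d, ⟨⟨hdW, hdL⟩, hdC⟩, hd0, hdQ⟩ := exists_singular_mem (Q := Q) _ hdim
  refine ⟨d, hdW, hdQ, by rw [polar_comm]; exact hdL, hd0,
    fun r he => hd0 (Submodule.disjoint_def.mp hC.disjoint d ?_ hdC)⟩
  rw [he]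
  exact Submodule.smul_mem _ _ (Submodule.subset_span (by simp))

/-- A singular vector of `W₁` orthogonal to two of its vectors, the second outside the span of the
first and it. -/
theorem exists_perp_singular_pair {a b : V} (haW : a ∈ W₁) (hind : ∀ r : F, b ≠ r • a) :
    ∃ d ∈ W₁, Q d = 0 ∧ polar Q d a = 0 ∧ polar Q d b = 0 ∧ d ≠ 0 ∧
      b ∉ Submodule.span F ({a, d} : Set V) := by
  classical
  have hspan : ∀ d, (∀ r t : F, d ≠ r • a + t • b) →
      b ∉ Submodule.span F ({a, d} : Set V) := fun d hdn => by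
    rw [Submodule.mem_span_pair]
    rintro ⟨r, t, hrt⟩
    by_cases ht : t = 0
    · exact hind r (by rw [← hrt, ht, zero_smul, add_zero])
    · refine hdn (-(t⁻¹ * r)) t⁻¹ ?_
      rw [← hrt, smul_add, smul_smul, smul_smul, inv_mul_cancel₀ ht, one_smul]
      module
  by_cases ha0 : a = 0
  · obtain ⟨d, hdW, hdQ, hdb, hd0, hdn⟩ := exists_perp_singular_one h hd b
    exact ⟨d, hdW, hdQ, by rw [ha0, polar_zero_right], hdb, hd0, hspan d fun r t e =>
      hdn t (by rw [e, ha0, smul_zero, zero_add])⟩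
  by_cases hA : Q a = 0 ∧ polar Q a b = 0
  · refine ⟨a, haW, hA.1, by rw [polar_self, hA.1, smul_zero], hA.2, ha0, ?_⟩
    rw [Set.insert_eq_of_mem (Set.mem_singleton a), Submodule.mem_span_singleton]
    rintro ⟨r, hr⟩
    exact hind r hr.symm
  let L := (polarBilin Q a).prod (polarBilin Q b)
  have hP : 4 ≤ Module.finrank F ↥(W₁ ⊓ LinearMap.ker L) := by
    have e1 := Submodule.finrank_sup_add_finrank_inf_eq W₁ (LinearMap.ker L)
    have e2 := LinearMap.finrank_range_add_finrank_ker L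
    have e3 := Submodule.finrank_le (LinearMap.range L)
    have e4 := Submodule.finrank_le (W₁ ⊔ LinearMap.ker L)
    simp [Module.finrank_prod] at e3
    omega
  have hL : ∀ d ∈ LinearMap.ker L, polar Q d a = 0 ∧ polar Q d b = 0 := fun d hd' => by
    simp [L] at hd'
    exact ⟨by rw [polar_comm]; exact hd'.1, by rw [polar_comm]; exact hd'.2⟩
  suffices ∃ d ∈ W₁ ⊓ LinearMap.ker L, Q d = 0 ∧ ∀ r t : F, d ≠ r • a + t • b by
    obtain ⟨d, hdP, hdQ, hdn⟩ := this
    exact ⟨d, hdP.1, hdQ, (hL d hdP.2).1, (hL d hdP.2).2, fun e => hdn 0 0 (by simp [e]),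
      hspan d hdn⟩
  by_cases hB : (2 : F) = 0 ∧ polar Q a b = 0
  · have hQa : Q a ≠ 0 := fun e => hA ⟨e, hB.2⟩
    set S := Submodule.span F (({a, b} : Finset V) : Set V)
    have hS2 : Module.finrank F S ≤ 2 := (finrank_span_finset_le_card _).trans Finset.card_le_two
    obtain ⟨C, hC⟩ := Submodule.exists_isCompl S
    have hdim : 1 ≤ Module.finrank F ↥(W₁ ⊓ LinearMap.ker L ⊓ C) := by
      have e5 := Submodule.finrank_sup_add_finrank_inf_eq (W₁ ⊓ LinearMap.ker L) C
      have e6 := Submodule.finrank_le (W₁ ⊓ LinearMap.ker L ⊔ C)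
      have e7 := Submodule.finrank_add_eq_of_isCompl hC
      omega
    obtain ⟨c, ⟨hcP, hcC⟩, hc0⟩ := Submodule.exists_mem_ne_zero_of_ne_bot
      (p := W₁ ⊓ LinearMap.ker L ⊓ C) (fun e => by rw [e, finrank_bot] at hdim; omega)
    have haL : a ∈ LinearMap.ker L := by
      simp [L, polar_comm Q b a, hB.2, polar_self, hB.1]
    obtain ⟨s, hs⟩ : IsSquare (Q c / Q a) := by
      letI := Fintype.ofFinite F
      exact FiniteField.isSquare_of_char_two (CharP.ringChar_of_prime_eq_zero Nat.prime_two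
        (by exact_mod_cast hB.1)) _
    refine ⟨c + s • a, ⟨add_mem hcP.1 (W₁.smul_mem _ haW), add_mem hcP.2 (Submodule.smul_mem _ _ haL)⟩,
      ?_, fun r t e => hc0 (Submodule.disjoint_def.mp hC.disjoint c ?_ hcC)⟩
    · have hca : polar Q c a = 0 := (hL c hcP.2).1
      rw [form_add, form_smul, polar_smul_right, hca, ← hs, div_mul_cancel₀ _ hQa, smul_zero,
        add_zero, ← two_mul, hB.1, zero_mul]
    · have : c = (r - s) • a + t • b := by rw [sub_smul, sub_add_eq_add_sub, ← e]; abel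
      rw [this]
      exact add_mem (Submodule.smul_mem _ _ (Submodule.subset_span (by simp)))
        (Submodule.smul_mem _ _ (Submodule.subset_span (by simp)))
  obtain ⟨w, hw⟩ : ∃ w : V, ∀ r t : F, r • a + t • b ∈ LinearMap.ker L →
      ∃ k : F, r • a + t • b = k • w := by
    refine ⟨if (2 : F) = 0 ∨ Q a = 0 then a else b + (-(polar Q a b / (2 * Q a))) • a,
      fun r t hrt => ?_⟩
    simp [L, polar_add_right, polar_smul_right, polar_self, polar_comm Q b a] at hrt
    obtain ⟨h1, h2⟩ := hrt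
    by_cases hw : (2 : F) = 0 ∨ Q a = 0
    · rw [if_pos hw]
      refine ⟨r, ?_⟩
      have hab : polar Q a b ≠ 0 := fun e => by
        rcases hw with hw | hw
        · exact hB ⟨hw, e⟩
        · exact hA ⟨hw, e⟩
      have h0 : (2 : F) * Q a = 0 := by rcases hw with hw | hw <;> rw [hw] <;> ring
      have ht : t * polar Q a b = 0 := by linear_combination h1 - r * h0
      rw [(mul_eq_zero.mp ht).resolve_right hab, zero_smul, add_zero]
    · rw [if_neg hw]
      push Not at hw
      refine ⟨t, ?_⟩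
      have hr : r = t * (-(polar Q a b / (2 * Q a))) := by
        field_simp [hw.1, hw.2]
        linear_combination h1
      rw [smul_add, smul_smul, hr]
      abel
  set S := Submodule.span F (({w} : Finset V) : Set V)
  have hS1 : Module.finrank F S ≤ 1 :=
    (finrank_span_finset_le_card _).trans (Finset.card_singleton w).le
  obtain ⟨C, hC⟩ := Submodule.exists_isCompl S
  have hdim : 3 ≤ Module.finrank F ↥(W₁ ⊓ LinearMap.ker L ⊓ C) := by
    have e5 := Submodule.finrank_sup_add_finrank_inf_eq (W₁ ⊓ LinearMap.ker L) C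
    have e6 := Submodule.finrank_le (W₁ ⊓ LinearMap.ker L ⊔ C)
    have e7 := Submodule.finrank_add_eq_of_isCompl hC
    omega
  obtain ⟨d, ⟨hdP, hdC⟩, hd0, hdQ⟩ := exists_singular_mem (Q := Q) _ hdim
  refine ⟨d, hdP, hdQ, fun r t e => hd0 (Submodule.disjoint_def.mp hC.disjoint d ?_ hdC)⟩
  obtain ⟨k, hk⟩ := hw r t (e ▸ hdP.2)
  rw [e, hk]
  exact Submodule.smul_mem _ _ (Submodule.subset_span (by simp))

/-- A singular vector of `W₁` orthogonal to two singular vectors and a multiple of neither. -/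
theorem exists_perp_singular_two {a a' : V} (ha : a ∈ W₁) (ha' : a' ∈ W₁) (haQ : Q a = 0)
    (haQ' : Q a' = 0) (ha0 : a ≠ 0) (ha0' : a' ≠ 0) :
    ∃ b ∈ W₁, Q b = 0 ∧ polar Q b a = 0 ∧ polar Q b a' = 0 ∧ b ≠ 0 ∧
      (∀ r : F, b ≠ r • a) ∧ ∀ r : F, b ≠ r • a' := by
  by_cases hdep : ∃ r : F, a' = r • a
  · obtain ⟨r, rfl⟩ := hdep
    obtain ⟨d, hdW, hdQ, hda, hd0, hdn⟩ := exists_perp_singular_one h hd a
    exact ⟨d, hdW, hdQ, hda, by rw [polar_smul_right, hda, smul_zero], hd0, hdn,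
      fun t => by rw [smul_smul]; exact hdn _⟩
  simp only [not_exists] at hdep
  by_cases hp : polar Q a a' = 0
  · have hna : ∀ r : F, a + a' ≠ r • a := fun r e => hdep (r - 1) (by
      rw [sub_smul, one_smul, ← e, add_sub_cancel_left])
    have hna' : ∀ r : F, a + a' ≠ r • a' := fun r e => by
      by_cases hr : r = 1
      · exact ha0 (by rwa [hr, one_smul, add_eq_right] at e)
      · refine hdep (r - 1)⁻¹ ?_
        have : a = (r - 1) • a' := by rw [sub_smul, one_smul, ← e, add_sub_cancel_right]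
        rw [this, smul_smul, inv_mul_cancel₀ (sub_ne_zero.mpr hr), one_smul]
    refine ⟨a + a', add_mem ha ha', by rw [form_add, haQ, haQ', hp]; simp, ?_, ?_,
      fun e => hna 0 (by rw [e, zero_smul]), hna, hna'⟩
    · rw [polar_add_left, polar_self, haQ, polar_comm Q a', hp]; simp
    · rw [polar_add_left, polar_self, haQ', hp]; simp
  · obtain ⟨d, hdW, hdQ, hda, hda', hd0, hdS⟩ := exists_perp_singular_pair h hd ha hdep
    refine ⟨d, hdW, hdQ, hda, hda', hd0, fun r e => ?_, fun r e => ?_⟩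
    · have hr : r ≠ 0 := fun e0 => hd0 (by rw [e, e0, zero_smul])
      rw [e, polar_smul_left, smul_eq_mul] at hda'
      exact hp ((mul_eq_zero.mp hda').resolve_left hr)
    · have hr : r ≠ 0 := fun e0 => hd0 (by rw [e, e0, zero_smul])
      refine hdS ?_
      have : a' = r⁻¹ • d := by rw [e, smul_smul, inv_mul_cancel₀ hr, one_smul]
      exact this ▸ Submodule.smul_mem _ _ (Submodule.subset_span (by simp))

/-- Singular vectors span `W₁`. -/
theorem le_of_singular_mem {S : Submodule F V} (hS : ∀ x ∈ W₁, Q x = 0 → x ∈ S) : W₁ ≤ S := by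
  obtain ⟨e, he, heQ, -, he0, -⟩ := exists_perp_singular_one h hd 0
  obtain ⟨f, hf, hfe, -⟩ := h.exists_dual (S := ⊥) he (by simpa using he0)
  have step : ∀ x ∈ W₁, polar Q x e ≠ 0 → x ∈ S := by
    intro x hx hne
    set t := -(Q x) / polar Q x e
    have h1 : x + t • e ∈ S := hS _ (add_mem hx (W₁.smul_mem _ he)) (by
      rw [form_add, form_smul, heQ, polar_smul_right, smul_eq_mul, mul_zero, add_zero,
        div_mul_cancel₀ _ hne, add_neg_cancel])
    simpa using sub_mem h1 (S.smul_mem t (hS e he heQ))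
  intro x hx
  by_cases hne : polar Q x e = 0
  · have h1 := step f hf (by rw [hfe]; exact one_ne_zero)
    have h2 := step (x + f) (add_mem hx hf) (by rw [polar_add_left, hne, hfe, zero_add]; exact one_ne_zero)
    simpa using sub_mem h2 h1
  · exact step x hx hne

/-- `Ω(W₁)` inside `Ω` is transitive on the singular vectors of `W₁`. -/
theorem exists_move_singular {a d : V} (ha : a ∈ W₁) (hdW : d ∈ W₁) (ha0 : a ≠ 0) (hd0 : d ≠ 0)
    (haQ : Q a = 0) (hdQ : Q d = 0) :
    ∃ g ∈ eichGroup Q, (∀ x ∈ W₁, g.1 x ∈ W₁) ∧ (∀ y ∈ W₂, g.1 y = y) ∧ g.1 a = d := by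
  haveI : Finite V := Module.finite_of_finite F
  obtain ⟨g, hg, hga⟩ := exists_eich_map_of_form_eq h.polarND_restrict (by omega)
    (a := (⟨a, ha⟩ : W₁)) (d := ⟨d, hdW⟩) (fun e => ha0 (congrArg Subtype.val e))
    (fun e => hd0 (congrArg Subtype.val e)) (by simp [haQ, hdQ])
  suffices hP : ∃ G ∈ eichGroup Q, (∀ y ∈ W₂, G.1 y = y) ∧ ∀ x : W₁, G.1 (x : V) = (g.1 x : V) by
    obtain ⟨G, hG, hG2, hG1⟩ := hP
    exact ⟨G, hG, fun x hx => (hG1 ⟨x, hx⟩).symm ▸ (g.1 ⟨x, hx⟩).2, hG2,
      by rw [hG1 ⟨a, ha⟩, hga]⟩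
  clear hga
  unfold eichGroup at hg
  induction hg using Subgroup.closure_induction with
  | mem x hx =>
    obtain ⟨u, z, hu, hz, rfl⟩ := hx
    have hp : ∀ p q : W₁, polar (Q.comp W₁.subtype) p q = polar Q (p : V) (q : V) :=
      fun p q => by simp [polar]
    have hz' : polar Q (u : V) (z : V) = 0 := (hp u z).symm.trans hz
    have hu' : Q (u : V) = 0 := hu
    refine ⟨eich Q (u : V) (z : V), eich_mem_eichGroup _ _, fun y hy => ?_, fun x => ?_⟩
    · rw [eich_apply hu' hz', h.orth _ u.2 y hy, h.orth _ z.2 y hy]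
      simp
    · rw [eich_apply hu' hz', eich_apply hu hz]
      simp [hp]
  | one => exact ⟨1, one_mem _, fun y _ => rfl, fun x => rfl⟩
  | mul x y _ _ hx hy =>
    obtain ⟨G, hG, hG2, hG1⟩ := hx
    obtain ⟨K, hK, hK2, hK1⟩ := hy
    exact ⟨G * K, mul_mem hG hK, fun z hz => by rw [coe_mul_apply, hK2 z hz, hG2 z hz],
      fun z => by rw [coe_mul_apply, hK1, hG1]; rfl⟩
  | inv x _ hx =>
    obtain ⟨G, hG, hG2, hG1⟩ := hx
    refine ⟨G⁻¹, inv_mem hG, fun z hz => ?_, fun z => ?_⟩
    · conv_lhs => rw [← hG2 z hz]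
      exact coe_inv_apply_apply G z
    · conv_lhs => rw [← coe_apply_inv_apply x z, ← hG1]
      exact coe_inv_apply_apply G _

variable {M : Subgroup (orth Q)}
  (hH : ∀ g ∈ eichGroup Q, (∀ x ∈ W₁, g.1 x ∈ W₁) → g ∈ M)
include hH

theorem eich_mem_of_mem₁ {u z : V} (hu : u ∈ W₁) (hz : z ∈ W₁) (hQu : Q u = 0)
    (huz : polar Q u z = 0) : eich Q u z ∈ M :=
  hH _ (eich_mem_eichGroup _ _) fun x hx => by
    rw [eich_apply hQu huz]
    exact sub_mem (sub_mem (add_mem hx (W₁.smul_mem _ hz)) (W₁.smul_mem _ hu)) (W₁.smul_mem _ hu)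

/-- From a mixed long root to an element centred in `W₁`. -/
theorem exists_mixed_of {α β : V} (hα : Q α = 0) (hβ : Q β = 0) (hαβ : polar Q α β = 0)
    (hM : eich Q α β ∈ M) {a₁ a₂ b₁ b₂ : V} (ha₁ : a₁ ∈ W₁) (ha₂ : a₂ ∈ W₂) (hb₁ : b₁ ∈ W₁)
    (hb₂ : b₂ ∈ W₂) (hαd : a₁ + a₂ = α) (hβd : b₁ + b₂ = β) (ha₂0 : a₂ ≠ 0)
    (hb : ∀ r : F, b₁ ≠ r • a₁) :
    ∃ d ∈ W₁, Q d = 0 ∧ d ≠ 0 ∧ ∃ y ∈ W₂, y ≠ 0 ∧ eich Q d y ∈ M := by
  classical
  obtain ⟨d, hdW, hdQ, hda, hdb, hd0, hbS⟩ := exists_perp_singular_pair h hd ha₁ hb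
  obtain ⟨c, hc, hcb, hcS⟩ := h.exists_dual hb₁ hbS
  have hca : polar Q c a₁ = 0 := hcS a₁ ha₁ (Submodule.subset_span (by simp))
  have hdc : polar Q d c = 0 := by
    rw [polar_comm]; exact hcS d hdW (Submodule.subset_span (by simp))
  have e1 : polar Q d α = 0 := by rw [← hαd, polar_add_right, hda, h.orth d hdW a₂ ha₂, add_zero]
  have e2 : polar Q d β = 0 := by rw [← hβd, polar_add_right, hdb, h.orth d hdW b₂ hb₂, add_zero]
  have e3 : polar Q c α = 0 := by rw [← hαd, polar_add_right, hca, h.orth c hc a₂ ha₂, add_zero]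
  have e4 : polar Q c β = 1 := by rw [← hβd, polar_add_right, hcb, h.orth c hc b₂ hb₂, add_zero]
  have hk := eich_mem_of_mem₁ h hd hH hdW hc hdQ hdc
  have hconj := mul_mem (mul_mem hk hM) (inv_mem hk)
  rw [conj_eich, eich_apply hdQ hdc, eich_apply hdQ hdc, e1, e2, e3, e4] at hconj
  simp only [zero_smul, mul_zero, one_smul, add_zero, sub_zero] at hconj
  have hαd' : polar Q α d = 0 := by rw [polar_comm]; exact e1
  have h2 : eich Q α (-d) ∈ M := by
    have := mul_mem (inv_mem hM) hconj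
    rwa [eich_inv hα hαβ, eich_mul hα (by rw [polar_neg_right, hαβ, neg_zero])
      (by rw [polar_sub_right, hαβ, hαd', sub_zero]),
      show -β + (β - d) = -d by abel] at this
  have h3 : eich Q d α ∈ M := by
    convert h2 using 1
    refine orth_ext fun x => ?_
    rw [eich_apply hdQ e1, eich_apply hα (by rw [polar_neg_right, hαd', neg_zero]), hα,
      QuadraticMap.map_neg, hdQ, polar_neg_left]
    module
  refine ⟨d, hdW, hdQ, hd0, a₂, ha₂, ha₂0, ?_⟩
  have := mul_mem h3 (eich_mem_of_mem₁ h hd hH hdW (neg_mem ha₁) hdQ (by rw [polar_neg_right, hda, neg_zero]))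
  rwa [eich_mul hdQ e1 (by rw [polar_neg_right, hda, neg_zero]),
    show α + -a₁ = a₂ by rw [← hαd]; abel] at this

/-- An element moving `W₁` gives an element centred in `W₁` reaching into `W₂`. -/
theorem exists_mixed {g : orth Q} (hg : g ∈ M) (hgW : ¬ ∀ x ∈ W₁, g.1 x ∈ W₁)
    (hside : ¬ ∀ x ∈ W₁, g.1 x ∈ W₂) :
    ∃ d ∈ W₁, Q d = 0 ∧ d ≠ 0 ∧ ∃ y ∈ W₂, y ≠ 0 ∧ eich Q d y ∈ M := by
  classical
  -- some long root of `W₁` has a mixed image
  obtain ⟨a, ha, haQ, b, hb, hbQ, hab, hind, h1, h2⟩ : ∃ a ∈ W₁, Q a = 0 ∧ ∃ b ∈ W₁, Q b = 0 ∧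
      polar Q a b = 0 ∧ (∀ r t : F, r • a + t • b = 0 → r = 0 ∧ t = 0) ∧
      ¬ (g.1 a ∈ W₁ ∧ g.1 b ∈ W₁) ∧ ¬ (g.1 a ∈ W₂ ∧ g.1 b ∈ W₂) := by
    by_contra hcon
    simp only [not_exists, not_and] at hcon
    have key : ∀ a ∈ W₁, Q a = 0 → a ≠ 0 → ∀ a' ∈ W₁, Q a' = 0 → a' ≠ 0 →
        (g.1 a ∈ W₁ ∧ g.1 a' ∈ W₁) ∨ (g.1 a ∈ W₂ ∧ g.1 a' ∈ W₂) := by
      intro a ha haQ ha0 a' ha' haQ' ha0'
      obtain ⟨b, hb, hbQ, hba, hba', hb0, hbn, hbn'⟩ :=
        exists_perp_singular_two h hd ha ha' haQ haQ' ha0 ha0'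
      have hgb : g.1 b ≠ 0 := fun h0 => hb0 (g.1.map_eq_zero_iff.mp h0)
      have side : ∀ c ∈ W₁, Q c = 0 → c ≠ 0 → polar Q b c = 0 → (∀ r : F, b ≠ r • c) →
          (g.1 c ∈ W₁ ∧ g.1 b ∈ W₁) ∨ (g.1 c ∈ W₂ ∧ g.1 b ∈ W₂) := by
        intro c hc hcQ hc0 hbc hbn'
        by_contra hno
        rw [not_or] at hno
        refine (hcon c hc hcQ b hb hbQ (by rw [polar_comm]; exact hbc) (fun r t hrt => ?_)
          (fun h1 h2 => hno.1 ⟨h1, h2⟩)) (fun h1 h2 => hno.2 ⟨h1, h2⟩)
        by_cases ht : t = 0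
        · refine ⟨?_, ht⟩
          rw [ht, zero_smul, add_zero] at hrt
          exact (smul_eq_zero.mp hrt).resolve_right hc0
        · refine absurd ?_ (hbn' (-(t⁻¹ * r)))
          have : t • b = -(r • c) := eq_neg_of_add_eq_zero_right hrt
          rw [← one_smul F b, ← inv_mul_cancel₀ ht, mul_smul, this]
          module
      rcases side a ha haQ ha0 hba hbn with ⟨p1, p2⟩ | ⟨p1, p2⟩ <;>
        rcases side a' ha' haQ' ha0' hba' hbn' with
          ⟨q1, q2⟩ | ⟨q1, q2⟩
      · exact Or.inl ⟨p1, q1⟩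
      · exact absurd (h.eq_zero p2 q2) hgb
      · exact absurd (h.eq_zero q2 p2) hgb
      · exact Or.inr ⟨p1, q1⟩
    obtain ⟨e, he, heQ, -, he0, -⟩ := exists_perp_singular_one h hd 0
    rcases key e he heQ he0 e he heQ he0 with ⟨s1, -⟩ | ⟨s1, -⟩
    · refine hgW fun x hx => le_of_singular_mem h hd (S := W₁.comap g.1.toLinearMap)
        (fun x hx hxQ => ?_) hx
      by_cases hx0 : x = 0
      · simp [hx0]
      rcases key e he heQ he0 x hx hxQ hx0 with ⟨-, q⟩ | ⟨q, -⟩
      · exact q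
      · exact absurd (g.1.map_eq_zero_iff.mp (h.eq_zero s1 q)) he0
    · refine hside fun x hx => le_of_singular_mem h hd (S := W₂.comap g.1.toLinearMap)
        (fun x hx hxQ => ?_) hx
      by_cases hx0 : x = 0
      · simp [hx0]
      rcases key e he heQ he0 x hx hxQ hx0 with ⟨q, -⟩ | ⟨-, q⟩
      · exact absurd (g.1.map_eq_zero_iff.mp (h.eq_zero q s1)) he0
      · exact q
  have hM : eich Q (g.1 a) (g.1 b) ∈ M := by
    rw [← conj_eich]
    exact mul_mem (mul_mem hg (eich_mem_of_mem₁ h hd hH ha hb haQ hab)) (inv_mem hg)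
  have hα : Q (g.1 a) = 0 := by rw [map_form, haQ]
  have hβ : Q (g.1 b) = 0 := by rw [map_form, hbQ]
  have hαβ : polar Q (g.1 a) (g.1 b) = 0 := by rw [map_polar, hab]
  have hind' : ∀ r t : F, r • g.1 a + t • g.1 b = 0 → r = 0 ∧ t = 0 := fun r t hrt =>
    hind r t (g.1.map_eq_zero_iff.mp (by rw [map_add, map_smul, map_smul]; exact hrt))
  generalize g.1 a = α at *
  generalize g.1 b = β at *
  clear hind hab haQ hbQ ha hb hg hgW hside
  obtain ⟨a₁, ha₁, a₂, ha₂, rfl⟩ := h.exists_add α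
  obtain ⟨b₁, hb₁, b₂, hb₂, rfl⟩ := h.exists_add β
  -- shift `β` by a multiple of `α`
  have hshift : ∀ r : F, Q ((b₁ + b₂) + r • (a₁ + a₂)) = 0 ∧
      polar Q (a₁ + a₂) ((b₁ + b₂) + r • (a₁ + a₂)) = 0 ∧
      eich Q (a₁ + a₂) ((b₁ + b₂) + r • (a₁ + a₂)) ∈ M := fun r => by
    refine ⟨?_, ?_, ?_⟩
    · rw [form_add, form_smul, hα, hβ, polar_smul_right, polar_comm Q (b₁ + b₂), hαβ]; simp
    · rw [polar_add_right, hαβ, polar_smul_right, polar_self, hα]; simp
    · rwa [eich_add_smul hα hαβ]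
  -- exchange the roles
  have hswap : ∀ p q : V, Q p = 0 → Q q = 0 → polar Q p q = 0 → eich Q p q ∈ M →
      eich Q q (-p) ∈ M := by
    intro p q hp hq hpq hm
    convert hm using 1
    refine orth_ext fun x => ?_
    rw [eich_apply hp hpq, eich_apply hq (by rw [polar_neg_right, polar_comm, hpq, neg_zero]),
      QuadraticMap.map_neg, hp, hq, polar_neg_left]
    module
  by_cases ha₂0 : a₂ = 0
  · subst ha₂0
    have hb₂0 : b₂ ≠ 0 := fun e => h1 ⟨by simpa using ha₁, by rw [e, add_zero]; exact hb₁⟩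
    by_cases hdep : ∃ r : F, a₁ = r • b₁
    · obtain ⟨r, hr⟩ := hdep
      have ha₁0 : a₁ ≠ 0 := fun e => (one_ne_zero (α := F)) (hind' 1 0 (by simp [e])).1
      have hr0 : r ≠ 0 := fun e => ha₁0 (by rw [hr, e, zero_smul])
      obtain ⟨s1, s2, s3⟩ := hshift (-r⁻¹)
      refine exists_mixed_of h hd hH s1 ((QuadraticMap.map_neg Q _).trans hα)
        (by rw [polar_neg_right, polar_comm, s2, neg_zero]) (hswap _ _ hα s1 s2 s3)
        W₁.zero_mem hb₂ (neg_mem ha₁) W₂.zero_mem ?_ (by simp) hb₂0 (fun t e => ha₁0 ?_)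
      · rw [hr, add_zero, smul_smul, neg_mul, inv_mul_cancel₀ hr0]; module
      · rwa [smul_zero, neg_eq_zero] at e
    · simp only [not_exists] at hdep
      exact exists_mixed_of h hd hH hβ ((QuadraticMap.map_neg Q _).trans hα)
        (by rw [polar_neg_right, polar_comm, hαβ, neg_zero]) (hswap _ _ hα hβ hαβ hM)
        hb₁ hb₂ (neg_mem ha₁) W₂.zero_mem rfl (by simp) hb₂0
        (fun r e => hdep (-r) (by rw [neg_smul, ← e, neg_neg]))
  by_cases hdep : ∃ r : F, b₁ = r • a₁
  · obtain ⟨r, hr⟩ := hdep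
    obtain ⟨s1, s2, s3⟩ := hshift (-r)
    set b' := b₂ - r • a₂ with hb'
    have hb'W : b' ∈ W₂ := sub_mem hb₂ (W₂.smul_mem _ ha₂)
    have heq : (b₁ + b₂) + -r • (a₁ + a₂) = 0 + b' := by rw [hr, hb']; module
    have hb'0 : b' ≠ 0 := fun e => by
      have := (hind' (-r) 1 (by rw [one_smul, add_comm, heq, e, add_zero])).2
      exact one_ne_zero this
    have ha₁0 : a₁ ≠ 0 := fun e => h2 ⟨by rw [e, zero_add]; exact ha₂,
      by rw [hr, e, smul_zero, zero_add]; exact hb₂⟩
    refine exists_mixed_of h hd hH s1 ((QuadraticMap.map_neg Q _).trans hα)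
      (by rw [polar_neg_right, polar_comm, s2, neg_zero]) (hswap _ _ hα s1 s2 s3)
      W₁.zero_mem hb'W (neg_mem ha₁) (neg_mem ha₂) heq.symm (by abel) hb'0 (fun t e => ha₁0 ?_)
    rwa [smul_zero, neg_eq_zero] at e
  · simp only [not_exists] at hdep
    exact exists_mixed_of h hd hH hα hβ hαβ hM ha₁ ha₂ hb₁ hb₂ rfl rfl ha₂0 hdep

/-- A subgroup with the stabiliser and one more element contains `Ω`. -/
theorem eichGroup_le_of_stab
    (hsmall : ∀ S : Submodule F V, S ≤ W₂ → S ≠ ⊥ →
      (∀ s ∈ S, ∀ p ∈ W₂, Q p ≠ 0 → polar Q s p ≠ 0 → p ∈ S) →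
      (∀ u ∈ W₂, ∀ z ∈ W₂, Q u = 0 → polar Q u z = 0 → ∀ s ∈ S, (eich Q u z).1 s ∈ S) → W₂ ≤ S)
    {g : orth Q} (hg : g ∈ M) (hgW : ¬ ∀ x ∈ W₁, g.1 x ∈ W₁)
    (hside : ¬ ∀ x ∈ W₁, g.1 x ∈ W₂) : eichGroup Q ≤ M := by
  classical
  have h5 := five_le h hd
  obtain ⟨d, hdW, hdQ, hd0, y, hy, hy0, hyM⟩ := exists_mixed h hd hH hg hgW hside
  have hdperp : ∀ z ∈ W₂, polar Q d z = 0 := fun z hz => h.orth d hdW z hz
  -- the vectors reached from `d`
  let A : Submodule F V :=
    { carrier := {z | z ∈ W₂ ∧ eich Q d z ∈ M}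
      zero_mem' := ⟨W₂.zero_mem, by rw [eich_zero]; exact one_mem M⟩
      add_mem' := fun {z z'} hz hz' => ⟨add_mem hz.1 hz'.1, by
        rw [← eich_mul hdQ (hdperp z hz.1) (hdperp z' hz'.1)]; exact mul_mem hz.2 hz'.2⟩
      smul_mem' := fun c z hz => by
        by_cases hc : c = 0
        · rw [hc, zero_smul]; exact ⟨W₂.zero_mem, by rw [eich_zero]; exact one_mem M⟩
        obtain ⟨k, hk, hk1, hk2, hkd⟩ := exists_move_singular h hd hdW (W₁.smul_mem c hdW) hd0
          (smul_ne_zero hc hd0) hdQ (by rw [form_smul, hdQ, mul_zero])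
        have hkM := hH k hk hk1
        refine ⟨W₂.smul_mem c hz.1, ?_⟩
        rw [← eich_smul_left hdQ (hdperp z hz.1), ← hkd, ← hk2 z hz.1, ← conj_eich]
        exact mul_mem (mul_mem hkM hz.2) (inv_mem hkM) }
  have hA : W₂ ≤ A := by
    refine hsmall A (fun z hz => hz.1) (fun e => hy0 ?_) (fun s hs p hp hpQ hsp => ?_)
      (fun u hu z hz hQu huz s hs => ?_)
    · exact (Submodule.eq_bot_iff A).mp e y ⟨hy, hyM⟩
    · obtain ⟨e, he, heQ, hed, -, hen⟩ := exists_perp_singular_one h hd d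
      have heS : e ∉ Submodule.span F {d} := fun hm => by
        obtain ⟨r, hr⟩ := Submodule.mem_span_singleton.mp hm
        exact hen r hr.symm
      obtain ⟨x, hx, hxe, hxS⟩ := h.exists_dual he heS
      set q := x + (Q p - Q x) • e with hq
      have hqW : q ∈ W₁ := add_mem hx (W₁.smul_mem _ he)
      have hqQ : Q q = Q p := by
        rw [hq, form_add, form_smul, heQ, polar_smul_right, hxe, smul_eq_mul]; ring
      have hqd : polar Q q d = 0 := by
        rw [hq, polar_add_left, polar_smul_left, hxS d hdW (Submodule.mem_span_singleton_self d),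
          hed, smul_zero, add_zero]
      set k := rf Q p * rf Q q with hk
      have hkE : k ∈ eichGroup Q := rf_mul_rf_mem h.nd h5 hpQ hqQ.symm
      have hk1 : ∀ x ∈ W₁, k.1 x ∈ W₁ := fun x hx => by
        have hrq : (rf Q q).1 x ∈ W₁ := by
          rw [rf_apply]; exact sub_mem hx (W₁.smul_mem _ hqW)
        rw [hk, coe_mul_apply, rf_apply_of_polar (by rw [polar_comm]; exact h.orth _ hrq p hp)]
        exact hrq
      have hkM := hH k hkE hk1
      have hkd : k.1 d = d := by
        rw [hk, coe_mul_apply, rf_apply_of_polar hqd,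
          rf_apply_of_polar (by rw [polar_comm]; exact h.orth d hdW p hp)]
      have hks : k.1 s = s - ((Q p)⁻¹ * polar Q p s) • p := by
        rw [hk, coe_mul_apply, rf_apply_of_polar (h.orth q hqW s hs.1), rf_apply]
      have hmem : k.1 s ∈ A := by
        refine ⟨by rw [hks]; exact sub_mem hs.1 (W₂.smul_mem _ hp), ?_⟩
        have := mul_mem (mul_mem hkM hs.2) (inv_mem hkM)
        rwa [conj_eich, hkd] at this
      have h' := sub_mem hs hmem
      rw [hks, sub_sub_cancel] at h'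
      refine (Submodule.smul_mem_iff A ?_).mp h'
      exact mul_ne_zero (inv_ne_zero hpQ) (by rwa [polar_comm])
    · set k := eich Q u z
      have hk1 : ∀ x ∈ W₁, k.1 x = x := fun x hx => by
        rw [eich_apply hQu huz, polar_comm Q u x, h.orth x hx u hu, polar_comm Q z x,
          h.orth x hx z hz]
        simp
      have hkM := hH k (eich_mem_eichGroup _ _) fun x hx => by rw [hk1 x hx]; exact hx
      refine ⟨?_, ?_⟩
      · rw [eich_apply hQu huz]
        exact sub_mem (sub_mem (add_mem hs.1 (W₂.smul_mem _ hz)) (W₂.smul_mem _ hu))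
          (W₂.smul_mem _ hu)
      · have := mul_mem (mul_mem hkM hs.2) (inv_mem hkM)
        rwa [conj_eich, hk1 d hdW] at this
  -- every singular vector of `W₁` reaches everything orthogonal
  have hfull : ∀ u ∈ W₁, Q u = 0 → ∀ z, polar Q u z = 0 → eich Q u z ∈ M := by
    intro u hu huQ z huz
    by_cases hu0 : u = 0
    · have : eich Q u z = 1 := orth_ext fun x => by
        rw [eich_apply huQ huz, hu0]; simp
      rw [this]; exact one_mem M
    obtain ⟨p, hp, q, hq, rfl⟩ := h.exists_add z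
    have hup : polar Q u p = 0 := by
      rw [polar_add_right, h.orth u hu q hq, add_zero] at huz; exact huz
    rw [← eich_mul huQ hup (h.orth u hu q hq)]
    refine mul_mem (eich_mem_of_mem₁ h hd hH hu hp huQ hup) ?_
    obtain ⟨k, hk, hk1, hk2, hkd⟩ := exists_move_singular h hd hdW hu hd0 hu0 hdQ huQ
    have hkM := hH k hk hk1
    rw [← hkd, ← hk2 q hq, ← conj_eich]
    exact mul_mem (mul_mem hkM (hA hq).2) (inv_mem hkM)
  -- move any singular vector into `W₁`
  refine eichGroup_le_of_singular h.nd h5 fun u z huQ _ huz => ?_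
  suffices hmove : ∃ k ∈ M, k.1 u ∈ W₁ by
    obtain ⟨k, hk, hku⟩ := hmove
    have h' := hfull _ hku (by rw [map_form, huQ]) (k.1 z) (by rw [map_polar, huz])
    rw [← conj_eich] at h'
    simpa [mul_assoc] using mul_mem (mul_mem (inv_mem hk) h') hk
  have mixed : ∀ x ∈ W₁, ∀ w ∈ W₂, x ≠ 0 → ∃ k ∈ M, k.1 (x + w) ∈ W₁ := by
    intro x hx w hw hx0
    obtain ⟨s, hs, hsQ, hsx⟩ : ∃ s ∈ W₁, Q s = 0 ∧ polar Q s x = 1 := by
      obtain ⟨s, hs, hsQ, hne⟩ : ∃ s ∈ W₁, Q s = 0 ∧ polar Q s x ≠ 0 := by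
        by_contra hc
        simp only [not_exists, not_and, not_not] at hc
        refine hx0 (h.nd x fun v => ?_)
        obtain ⟨v1, hv1, v2, hv2, rfl⟩ := h.exists_add v
        rw [polar_add_right, h.orth x hx v2 hv2, add_zero]
        exact le_of_singular_mem h hd (S := LinearMap.ker (polarBilin Q x))
          (fun t ht htQ => by
            show polar Q x t = 0
            rw [polar_comm]; exact hc t ht htQ) hv1
      exact ⟨(polar Q s x)⁻¹ • s, W₁.smul_mem _ hs, by rw [form_smul, hsQ, mul_zero],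
        by rw [polar_smul_left, smul_eq_mul, inv_mul_cancel₀ hne]⟩
    have hsw : polar Q s (-w) = 0 := by rw [polar_neg_right, h.orth s hs w hw, neg_zero]
    refine ⟨eich Q s (-w), hfull s hs hsQ _ hsw, ?_⟩
    rw [eich_apply hsQ hsw, polar_add_right Q s x w, hsx, h.orth s hs w hw, add_zero, one_smul]
    have : x + w + -w = x := by abel
    rw [this]
    exact sub_mem (sub_mem hx (W₁.smul_mem _ hs)) (W₁.smul_mem _ hs)
  obtain ⟨x, hx, w, hw, rfl⟩ := h.exists_add u
  by_cases hx0 : x = 0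
  swap
  · exact mixed x hx w hw hx0
  by_cases hw0 : w = 0
  · exact ⟨1, one_mem M, by simp [hx0, hw0]⟩
  obtain ⟨z', hz', hz'w, -⟩ := h.symm.exists_dual (S := ⊥) hw (by simpa using hw0)
  have hdz : polar Q d z' = 0 := hdperp z' hz'
  obtain ⟨k, hk, hku⟩ := mixed (-d) (neg_mem hdW) w hw (neg_ne_zero.mpr hd0)
  refine ⟨k * eich Q d z', mul_mem hk (hfull d hdW hdQ z' hdz), ?_⟩
  rw [coe_mul_apply, hx0, zero_add, eich_apply hdQ hdz, hdperp w hw, hz'w]
  simpa [neg_add_eq_sub, sub_eq_add_neg, add_comm] using hku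

end Big

/-- The hypothesis of `eichGroup_le_of_stab`, away from the hyperbolic plane over at most
three elements. -/
theorem eq_of_invariant (h : IsOrthPair Q W₁ W₂)
    (hex : Nat.card F ≤ 3 → Module.finrank F W₂ = 2 → ∀ x ∈ W₂, Q x = 0 → x = 0)
    {S : Submodule F V} (hSW : S ≤ W₂) (hS0 : S ≠ ⊥)
    (hrf : ∀ s ∈ S, ∀ p ∈ W₂, Q p ≠ 0 → polar Q s p ≠ 0 → p ∈ S)
    (heich : ∀ u ∈ W₂, ∀ z ∈ W₂, Q u = 0 → polar Q u z = 0 → ∀ s ∈ S, (eich Q u z).1 s ∈ S) :
    W₂ ≤ S := by
  classical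
  by_contra hle
  -- the orthogonal of `S` in `W₂`
  let T : Submodule F V :=
    { carrier := {x | x ∈ W₂ ∧ ∀ s ∈ S, polar Q s x = 0}
      zero_mem' := ⟨W₂.zero_mem, fun s _ => by rw [polar_zero_right]⟩
      add_mem' := fun {x y} hx hy => ⟨add_mem hx.1 hy.1, fun s hs => by
        rw [polar_add_right, hx.2 s hs, hy.2 s hs, add_zero]⟩
      smul_mem' := fun c x hx => ⟨W₂.smul_mem c hx.1, fun s hs => by
        rw [polar_smul_right, hx.2 s hs, smul_zero]⟩ }
  have hTle : ¬ W₂ ≤ T := fun hc => by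
    obtain ⟨s, hs, hs0⟩ := S.ne_bot_iff.mp hS0
    refine hs0 (h.nd s fun v => ?_)
    obtain ⟨p, hp, q, hq, rfl⟩ := h.exists_add v
    rw [polar_add_right, (hc hq).2 s hs, polar_comm Q s p, h.orth p hp s (hSW hs), add_zero]
  -- outside `S ∪ T` everything is singular
  have hout : ∀ x ∈ W₂, x ∉ S → x ∉ T → Q x = 0 := fun x hx hxS hxT => by
    by_contra hQ
    refine hxS ?_
    obtain ⟨s, hs, hne⟩ : ∃ s ∈ S, polar Q s x ≠ 0 := by
      by_contra hc
      simp only [not_exists, not_and, not_not] at hc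
      exact hxT ⟨hx, hc⟩
    exact hrf s hs x hx hQ hne
  have hnd : ∀ x ∈ W₂, (∀ y ∈ W₂, polar Q x y = 0) → x = 0 := fun x hx hall => h.nd x fun v => by
    obtain ⟨p, hp, q, hq, rfl⟩ := h.exists_add v
    rw [polar_add_right, hall q hq, polar_comm Q x p, h.orth p hp x hx, add_zero]
  -- some vector outside both
  have houtS : ∃ x ∈ W₂, x ∉ S ∧ x ∉ T := by
    obtain ⟨a, ha, haS⟩ := SetLike.not_le_iff_exists.mp hle
    obtain ⟨b, hb, hbT⟩ := SetLike.not_le_iff_exists.mp hTle
    by_cases haT : a ∈ T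
    · by_cases hbS : b ∈ S
      · exact ⟨a + b, add_mem ha hb, fun h' => haS (by simpa using sub_mem h' hbS),
          fun h' => hbT (by simpa using sub_mem h' haT)⟩
      · exact ⟨b, hb, hbS, hbT⟩
    · exact ⟨a, ha, haS, haT⟩
  by_cases hR : ∀ r ∈ S, r ∈ T → r = 0
  · -- `W₂ = S ⊥ T`
    have hval : ∀ s ∈ S, s ≠ 0 → ∀ p ∈ T, p ≠ 0 → Q s + Q p = 0 := fun s hs hs0 p hp hp0 => by
      have := hout (s + p) (add_mem (hSW hs) hp.1)
        (fun h' => hp0 (hR p (by simpa using sub_mem h' hs) hp))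
        (fun h' => hs0 (hR s hs (by simpa using sub_mem h' hp)))
      rwa [form_add, hp.2 s hs, add_zero] at this
    have hsup : ∀ x ∈ W₂, ∃ s ∈ S, ∃ p ∈ T, s + p = x := by
      let L : ↥W₂ →ₗ[F] Module.Dual F ↥S :=
        { toFun := fun x => (polarBilin Q (x : V)).comp S.subtype
          map_add' := fun x y => by ext; simp
          map_smul' := fun c x => by ext; simp }
      have hsum : S ⊔ T = W₂ := by
        refine Submodule.eq_of_le_of_finrank_le (sup_le hSW fun x hx => hx.1) ?_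
        have e0 := Submodule.finrank_sup_add_finrank_inf_eq S T
        have e1 : S ⊓ T = ⊥ := (Submodule.eq_bot_iff _).mpr fun x hx => hR x hx.1 hx.2
        rw [e1, finrank_bot, add_zero] at e0
        have e2 := LinearMap.finrank_range_add_finrank_ker L
        have e3 := Submodule.finrank_le (LinearMap.range L)
        rw [Subspace.dual_finrank_eq] at e3
        have e4 : Module.finrank F (LinearMap.ker L) ≤ Module.finrank F T := by
          have hle' : (LinearMap.ker L).map W₂.subtype ≤ T := by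
            rintro _ ⟨x, hx, rfl⟩
            exact ⟨x.2, fun s hs => (polar_comm Q _ _).trans (LinearMap.congr_fun hx ⟨s, hs⟩)⟩
          refine le_trans (le_of_eq ?_) (Submodule.finrank_mono hle')
          exact (Submodule.equivMapOfInjective _ W₂.injective_subtype _).finrank_eq
        omega
      intro x hx
      exact Submodule.mem_sup.mp (hsum.symm ▸ hx : x ∈ S ⊔ T)
    obtain ⟨s₀, hs₀, hs₀0⟩ := S.ne_bot_iff.mp hS0
    obtain ⟨p₀, hp₀, hp₀0⟩ := T.ne_bot_iff.mp fun e => hle fun x hx => by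
      obtain ⟨s, hs, p, hp, rfl⟩ := hsup x hx
      rw [(Submodule.eq_bot_iff T).mp e p hp, add_zero]
      exact hs
    -- the common value is not zero
    have hc0 : Q s₀ ≠ 0 := fun hz => hs₀0 (hnd s₀ (hSW hs₀) fun y hy => by
      obtain ⟨s, hs, p, hp, rfl⟩ := hsup y hy
      rw [polar_add_right, hp.2 s₀ hs₀, add_zero]
      have hp0' : Q p₀ = 0 := by have := hval s₀ hs₀ hs₀0 p₀ hp₀ hp₀0; rwa [hz, zero_add] at this
      have hS' : ∀ x ∈ S, Q x = 0 := fun x hx => by
        by_cases hx0 : x = 0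
        · rw [hx0, QuadraticMap.map_zero]
        · have := hval x hx hx0 p₀ hp₀ hp₀0
          rwa [hp0', add_zero] at this
      simp only [polar, hS' _ (add_mem hs₀ hs), hS' _ hs₀, hS' _ hs, sub_self])
    -- squares of non-zero scalars are one
    have hsq : ∀ t : F, t ≠ 0 → t * t = 1 := fun t ht => by
      have e1 := hval (t • s₀) (S.smul_mem t hs₀) (smul_ne_zero ht hs₀0) p₀ hp₀ hp₀0
      rw [form_smul, ← hval s₀ hs₀ hs₀0 p₀ hp₀ hp₀0, add_left_inj] at e1
      exact (mul_eq_right₀ hc0).mp e1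
    have h01 : ∀ t : F, t = 0 ∨ t = 1 ∨ t = -1 := fun t => by
      by_cases ht : t = 0
      · exact Or.inl ht
      · exact Or.inr ((mul_self_eq_one_iff).mp (hsq t ht))
    have hcard : Nat.card F ≤ 3 := by
      haveI := Fintype.ofFinite F
      rw [Nat.card_eq_fintype_card]
      exact le_trans (Finset.card_le_card (s := Finset.univ) (t := {0, 1, -1})
        fun t _ => by rcases h01 t with r | r | r <;> simp [r]) Finset.card_le_three
    have hcS : ∀ s ∈ S, s ≠ 0 → Q s = Q s₀ := fun s hs hs0 => by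
      have e1 := hval s hs hs0 p₀ hp₀ hp₀0
      rw [← hval s₀ hs₀ hs₀0 p₀ hp₀ hp₀0, add_left_inj] at e1
      exact e1
    have hcT : ∀ p ∈ T, p ≠ 0 → Q p = -Q s₀ := fun p hp hp0 =>
      eq_neg_of_add_eq_zero_right (hval s₀ hs₀ hs₀0 p hp hp0)
    -- dimensions
    have hfr2 : ∀ (X : Submodule F V) (x₀ : V), x₀ ∈ X → (∀ x ∈ X, x ∈ Submodule.span F {x₀}) →
        Module.finrank F X ≤ 1 := fun X x₀ _ hall =>
      (Submodule.finrank_mono (show X ≤ Submodule.span F {x₀} from hall)).trans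
        ((finrank_span_le_card _).trans (by simp))
    by_cases h2 : (2 : F) = 0
    · -- two elements
      have h12 : ∀ t : F, t = 0 ∨ t = 1 := fun t => by
        rcases h01 t with r | r | r
        · exact Or.inl r
        · exact Or.inr r
        · exact Or.inr (by rw [r]; linear_combination -h2)
      have hpol : ∀ x y, Q x = Q s₀ → Q y = Q s₀ → Q (x + y) = Q s₀ → polar Q x y = 1 := by
        intro x y hx hy hxy
        rw [polar, hxy, hx, hy]
        rcases h12 (Q s₀) with r | r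
        · exact absurd r hc0
        · rw [r]; linear_combination -h2
      have hneg : ∀ x : V, x + x = 0 := fun x => by rw [← two_smul F, h2, zero_smul]
      have hSS : ∀ x ∈ S, ∀ y ∈ S, x ≠ 0 → y ≠ 0 → x ≠ y → polar Q x y = 1 := fun x hx y hy hx0 hy0 hxy =>
        hpol x y (hcS x hx hx0) (hcS y hy hy0) (hcS _ (add_mem hx hy) fun e => hxy (by
          rw [← sub_eq_zero, sub_eq_add_neg,
            show -y = y from neg_eq_of_add_eq_zero_right (hneg y)]
          exact e))
      -- a partner of `s₀` inside `S`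
      obtain ⟨y, hy, hys⟩ : ∃ y ∈ W₂, polar Q s₀ y ≠ 0 := by
        by_contra hc
        simp only [not_exists, not_and, not_not] at hc
        exact hs₀0 (hnd s₀ (hSW hs₀) hc)
      obtain ⟨s', hs', t', ht', rfl⟩ := hsup y hy
      rw [polar_add_right, ht'.2 s₀ hs₀, add_zero] at hys
      have hs'0 : s' ≠ 0 := fun e => hys (by rw [e, polar_zero_right])
      have hss' : s₀ ≠ s' := fun e => hys (by rw [← e, polar_self_eq, h2, zero_mul])
      -- a partner of `p₀` inside `T`
      obtain ⟨z, hz, hzp⟩ : ∃ z ∈ W₂, polar Q p₀ z ≠ 0 := by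
        by_contra hc
        simp only [not_exists, not_and, not_not] at hc
        exact hp₀0 (hnd p₀ hp₀.1 hc)
      obtain ⟨a, ha, p', hp', rfl⟩ := hsup z hz
      rw [polar_add_right, polar_comm Q p₀ a, hp₀.2 a ha, zero_add] at hzp
      have hp'0 : p' ≠ 0 := fun e => hzp (by rw [e, polar_zero_right])
      have hone : ∀ t : F, t ≠ 0 → t = 1 := fun t ht => (h12 t).resolve_left ht
      set u := s₀ + p₀
      set w := s' + p'
      have huQ : Q u = 0 := by rw [form_add, hp₀.2 s₀ hs₀, add_zero, hval s₀ hs₀ hs₀0 p₀ hp₀ hp₀0]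
      have hwQ : Q w = 0 := by rw [form_add, hp'.2 s' hs', add_zero, hval s' hs' hs'0 p' hp' hp'0]
      have huw : polar Q u w = 0 := by
        rw [polar_add_left, polar_add_right, polar_add_right, hp'.2 s₀ hs₀, polar_comm Q p₀ s',
          hp₀.2 s' hs', hone _ hys, hone _ hzp, add_zero, zero_add]
        linear_combination h2
      have e1 := heich u (add_mem (hSW hs₀) hp₀.1) w (add_mem (hSW hs') hp'.1) huQ huw s₀ hs₀
      rw [eich_apply huQ huw, hwQ, zero_mul, zero_smul, sub_zero] at e1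
      have ep1 : polar Q u s₀ = 0 := by
        rw [polar_add_left, polar_self_eq, polar_comm Q p₀ s₀, hp₀.2 s₀ hs₀, h2, zero_mul,
          add_zero]
      have ep2 : polar Q w s₀ = 1 := by
        rw [polar_add_left, polar_comm Q p' s₀, hp'.2 s₀ hs₀, add_zero, polar_comm Q s' s₀]
        exact hone _ hys
      rw [ep1, ep2, zero_smul, add_zero, one_smul] at e1
      refine hp₀0 (hR p₀ ?_ hp₀)
      have e2 : p₀ ∈ S := by
        have : s₀ - (s₀ + p₀) = -p₀ := by abel
        rw [this] at e1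
        exact neg_mem_iff.mp e1
      exact e2
    · -- three elements
      have hline : ∀ (X : Submodule F V) (c : F), c ≠ 0 → (∀ x ∈ X, x ≠ 0 → Q x = c) →
          ∀ x₀ ∈ X, x₀ ≠ 0 → ∀ x ∈ X, x ∈ Submodule.span F {x₀} := by
        intro X c hc hX x₀ hx₀ hx₀0 x hx
        by_contra hn
        have n1 : x₀ + x ≠ 0 := fun e => hn (Submodule.mem_span_singleton.mpr
          ⟨-1, by rw [neg_one_smul]; exact neg_eq_of_add_eq_zero_right e⟩)
        have n2 : x₀ + -x ≠ 0 := fun e => hn (Submodule.mem_span_singleton.mpr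
          ⟨1, by rw [one_smul]; exact sub_eq_zero.mp (by rw [sub_eq_add_neg]; exact e)⟩)
        have hx0 : x ≠ 0 := fun e => hn (e ▸ zero_mem _)
        have q1 := hX _ (add_mem hx₀ hx) n1
        have q2 := hX _ (add_mem hx₀ (neg_mem hx)) n2
        rw [form_add, hX _ hx₀ hx₀0, hX _ hx hx0] at q1
        rw [form_add, QuadraticMap.map_neg, hX _ hx₀ hx₀0, hX _ hx hx0, polar_neg_right] at q2
        have : (2 : F) * c = 0 := by linear_combination q1 + q2
        exact hc ((mul_eq_zero.mp this).resolve_left h2)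
      have hS1 := hline S (Q s₀) hc0 hcS s₀ hs₀ hs₀0
      have hT1 := hline T (-Q s₀) (neg_ne_zero.mpr hc0) hcT p₀ hp₀ hp₀0
      have hW2 : Module.finrank F W₂ = 2 := by
        have hsum : S ⊔ T = W₂ := le_antisymm (sup_le hSW fun x hx => hx.1) fun x hx => by
          obtain ⟨s, hs, p, hp, rfl⟩ := hsup x hx
          exact Submodule.add_mem_sup hs hp
        have e0 := Submodule.finrank_sup_add_finrank_inf_eq S T
        have e1 : S ⊓ T = ⊥ := (Submodule.eq_bot_iff _).mpr fun x hx => hR x hx.1 hx.2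
        rw [e1, finrank_bot, hsum, add_zero] at e0
        have e2 := hfr2 S s₀ hs₀ hS1
        have e3 := hfr2 T p₀ hp₀ hT1
        have e4 : 0 < Module.finrank F S := Module.finrank_pos_iff.mpr ⟨⟨⟨s₀, hs₀⟩, 0,
          fun e => hs₀0 (congrArg Subtype.val e)⟩⟩
        have e5 : 0 < Module.finrank F T := Module.finrank_pos_iff.mpr ⟨⟨⟨p₀, hp₀⟩, 0,
          fun e => hp₀0 (congrArg Subtype.val e)⟩⟩
        omega
      have := hex hcard hW2 (s₀ + p₀) (add_mem (hSW hs₀) hp₀.1) (by
        rw [form_add, hp₀.2 s₀ hs₀, add_zero, hval s₀ hs₀ hs₀0 p₀ hp₀ hp₀0])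
      exact hs₀0 (hR s₀ hs₀ (by rw [eq_neg_of_add_eq_zero_left this]; exact neg_mem hp₀))
  · -- `S` meets its orthogonal
    simp only [not_forall] at hR
    obtain ⟨r, hrS, hrT, hr0⟩ := hR
    have hpr : ∀ x ∈ W₂, x ∉ S → x ∉ T → ∀ t : F, t * polar Q x r + t * t * Q r = 0 := by
      intro x hx hxS hxT t
      have e1 := hout (x + t • r) (add_mem hx (W₂.smul_mem t (hSW hrS)))
        (fun h' => hxS (by simpa using sub_mem h' (S.smul_mem t hrS)))
        (fun h' => hxT (by simpa using sub_mem h' (T.smul_mem t hrT)))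
      rwa [form_add, hout x hx hxS hxT, form_smul, polar_smul_right, smul_eq_mul, zero_add,
        add_comm] at e1
    have hrS' : ∀ s ∈ S, polar Q r s = 0 := fun s hs => by rw [polar_comm]; exact hrT.2 s hs
    have hrT' : ∀ p ∈ T, polar Q r p = 0 := fun p hp => hp.2 r hrS
    obtain ⟨x₀, hx₀, hx₀S, hx₀T⟩ := houtS
    by_cases ht : ∃ t : F, t ≠ 0 ∧ t ≠ 1
    · -- more than two elements
      obtain ⟨t, ht0, ht1⟩ := ht
      have hperp : ∀ x ∈ W₂, x ∉ S → x ∉ T → polar Q r x = 0 := fun x hx hxS hxT => by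
        have a1 := hpr x hx hxS hxT 1
        have a2 := hpr x hx hxS hxT t
        have hq : Q r = 0 := by
          have : (t * t - t) * Q r = 0 := by linear_combination a2 - t * a1
          refine (mul_eq_zero.mp this).resolve_left fun e => ?_
          exact ht1 (mul_left_cancel₀ ht0 (by rw [mul_one]; linear_combination e))
        rw [hq, mul_zero, add_zero, one_mul] at a1
        rwa [polar_comm]
      refine hr0 (hnd r (hSW hrS) fun y hy => ?_)
      by_cases hyS : y ∈ S
      · exact hrS' y hyS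
      by_cases hyT : y ∈ T
      · exact hrT' y hyT
      exact hperp y hy hyS hyT
    · -- two elements
      simp only [not_exists, not_and, not_not] at ht
      have h2 : (2 : F) = 0 := by
        by_contra h2
        have h3 := ht 2 h2
        exact one_ne_zero (α := F) (by linear_combination h3)
      haveI := Fintype.ofFinite F
      have hcard : Nat.card F ≤ 3 := by
        rw [Nat.card_eq_fintype_card]
        refine le_trans (Finset.card_le_card (s := Finset.univ) (t := {0, 1, -1}) fun t _ => ?_)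
          Finset.card_le_three
        by_cases h0 : t = 0
        · simp [h0]
        · simp [ht t h0]
      have hone : ∀ t : F, t ≠ 0 → t = 1 := ht
      have hQr : Q r = 1 ∧ ∀ x ∈ W₂, x ∉ S → x ∉ T → polar Q r x = 1 := by
        have hall : ∀ x ∈ W₂, x ∉ S → x ∉ T → polar Q r x = Q r := fun x hx hxS hxT => by
          have := hpr x hx hxS hxT 1
          rw [polar_comm] at this
          linear_combination this - Q r * h2
        have : Q r ≠ 0 := fun e => hr0 (hnd r (hSW hrS) fun y hy => by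
          by_cases hyS : y ∈ S
          · exact hrS' y hyS
          by_cases hyT : y ∈ T
          · exact hrT' y hyT
          rw [hall y hy hyS hyT, e])
        exact ⟨hone _ this, fun x hx hxS hxT => (hall x hx hxS hxT).trans (hone _ this)⟩
      -- the hyperplane orthogonal to `r`
      let H : Submodule F V := W₂ ⊓ LinearMap.ker (polarBilin Q r)
      have hH : ∀ x ∈ H, x ∈ S ∨ x ∈ T := fun x hx => by
        by_contra hc
        rw [not_or] at hc
        exact zero_ne_one ((LinearMap.mem_ker.mp hx.2).symm.trans (hQr.2 x hx.1 hc.1 hc.2))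
      have hx₀H : ∀ z ∈ H, x₀ + z ∉ S ∧ x₀ + z ∉ T := fun z hz => by
        have e1 : polar Q r (x₀ + z) = 1 := by
          rw [polar_add_right, hQr.2 x₀ hx₀ hx₀S hx₀T,
            show polar Q r z = 0 from LinearMap.mem_ker.mp hz.2, add_zero]
        exact ⟨fun hm => one_ne_zero (e1.symm.trans (hrS' _ hm)),
          fun hm => one_ne_zero (e1.symm.trans (hrT' _ hm))⟩
      have hQH : ∀ z ∈ H, Q z + polar Q x₀ z = 0 := fun z hz => by
        have := hout (x₀ + z) (add_mem hx₀ hz.1) (hx₀H z hz).1 (hx₀H z hz).2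
        rwa [form_add, hout x₀ hx₀ hx₀S hx₀T, zero_add] at this
      have hHH : ∀ z ∈ H, ∀ z' ∈ H, polar Q z z' = 0 := fun z hz z' hz' => by
        have e1 := hQH (z + z') (add_mem hz hz')
        rw [form_add, polar_add_right] at e1
        linear_combination e1 - hQH z hz - hQH z' hz'
      have hW2 : Module.finrank F W₂ = 2 := by
        have hle2 : W₂ ≤ Submodule.span F (({r, x₀} : Finset V) : Set V) := by
          intro y hy
          have hz : y - polar Q r y • x₀ ∈ H := ⟨sub_mem hy (W₂.smul_mem _ hx₀), by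
            show polar Q r _ = 0
            rw [polar_sub_right, polar_smul_right, hQr.2 x₀ hx₀ hx₀S hx₀T, smul_eq_mul, mul_one,
              sub_self]⟩
          set z := y - polar Q r y • x₀ with hzdef
          have hrH : r ∈ H := ⟨hSW hrS, by
            show polar Q r r = 0
            rw [polar_self_eq, h2, zero_mul]⟩
          set w := z - polar Q x₀ z • r
          have hw : w = 0 := by
            refine hnd w (sub_mem hz.1 (W₂.smul_mem _ hrH.1)) fun v hv => ?_
            have hvH : v - polar Q r v • x₀ ∈ H := ⟨sub_mem hv (W₂.smul_mem _ hx₀), by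
              show polar Q r _ = 0
              rw [polar_sub_right, polar_smul_right, hQr.2 x₀ hx₀ hx₀S hx₀T, smul_eq_mul, mul_one,
                sub_self]⟩
            have e1 := hHH w (sub_mem hz (H.smul_mem _ hrH)) _ hvH
            rw [polar_sub_right, polar_smul_right] at e1
            have e2 : polar Q w x₀ = 0 := by
              rw [polar_sub_left, polar_smul_left, hQr.2 x₀ hx₀ hx₀S hx₀T, smul_eq_mul, mul_one,
                polar_comm Q z x₀, sub_self]
            rw [e2, smul_zero, sub_zero] at e1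
            exact e1
          rw [show y = (polar Q r y) • x₀ + polar Q x₀ z • r by
            rw [← sub_eq_zero.mp hw, hzdef]; abel]
          exact add_mem (Submodule.smul_mem _ _ (Submodule.subset_span (by simp)))
            (Submodule.smul_mem _ _ (Submodule.subset_span (by simp)))
        refine le_antisymm ((Submodule.finrank_mono hle2).trans
          ((finrank_span_finset_le_card _).trans Finset.card_le_two)) ?_
        have hlt : Submodule.span F {r} < W₂ := lt_of_le_of_ne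
          (Submodule.span_le.mpr (Set.singleton_subset_iff.mpr (hSW hrS))) fun e => hx₀S
            (Submodule.span_le.mpr (Set.singleton_subset_iff.mpr hrS) (e ▸ hx₀))
        have := Submodule.finrank_lt_finrank_of_lt hlt
        rw [finrank_span_singleton hr0] at this
        omega
      exact hx₀S (by rw [hex hcard hW2 x₀ hx₀ (hout x₀ hx₀ hx₀S hx₀T)]; exact zero_mem _)

end Cfsg.Agent.OrthStab
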