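import Cfsg.Agent.MaxSub.OrthStab

/-!
Subgroups of `Ω` containing all root elements centred at a vector; stabilisers of totally singular
subspaces and of non-singular vectors; the parity of maximal totally singular subspaces (helper24).
-/

set_option autoImplicit false

namespace Cfsg.Agent.OrthStab

open QuadraticMap Cfsg.Agent.UnitaryOrthogonal

variable {F : Type*} [Field F] [Finite F] {V : Type*} [AddCommGroup V] [Module F V]
variable [FiniteDimensional F V] {Q : QuadraticForm F V}

/-- The vectors orthogonal to a subspace. -/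
def perpOf (Q : QuadraticForm F V) (W : Submodule F V) : Submodule F V :=
  LinearMap.ker ((W.subtype.dualMap).comp (polarBilin Q))

theorem mem_perpOf {W : Submodule F V} {x : V} :
    x ∈ perpOf Q W ↔ ∀ w ∈ W, polar Q x w = 0 :=
  ⟨fun h w hw => LinearMap.congr_fun h ⟨w, hw⟩, fun h => LinearMap.ext fun w => h w w.2⟩

theorem finrank_perpOf (hQ : PolarND Q) (W : Submodule F V) :
    Module.finrank F (perpOf Q W) + Module.finrank F W = Module.finrank F V := by
  have hinj : Function.Injective (polarBilin Q) := by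
    rw [injective_iff_map_eq_zero]
    exact fun u hu => hQ u fun x => LinearMap.congr_fun hu x
  have hsur : Function.Surjective ((W.subtype.dualMap).comp (polarBilin Q)) :=
    (LinearMap.dualMap_surjective_of_injective W.injective_subtype).comp
      ((LinearMap.injective_iff_surjective_of_finrank_eq_finrank
        (by rw [Subspace.dual_finrank_eq])).mp hinj)
  have h := LinearMap.finrank_range_add_finrank_ker ((W.subtype.dualMap).comp (polarBilin Q))
  rw [LinearMap.range_eq_top.mpr hsur, finrank_top, Subspace.dual_finrank_eq] at h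
  rw [perpOf]
  omega

theorem polar_eq_zero_of_singular {S : Submodule F V} (hS : ∀ x ∈ S, Q x = 0) {x y : V}
    (hx : x ∈ S) (hy : y ∈ S) : polar Q x y = 0 := by
  simp only [polar, hS _ (add_mem hx hy), hS x hx, hS y hy, sub_self]

theorem two_mul_finrank_le (hQ : PolarND Q) {S : Submodule F V} (hS : ∀ x ∈ S, Q x = 0) :
    2 * Module.finrank F S ≤ Module.finrank F V := by
  have h1 := finrank_perpOf hQ S
  have h2 : S ≤ perpOf Q S := fun x hx =>
    mem_perpOf.mpr fun w hw => polar_eq_zero_of_singular hS hx hw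
  have := Submodule.finrank_mono h2
  omega

theorem singular_sup {S : Submodule F V} {u : V} (hS : ∀ x ∈ S, Q x = 0) (hu : Q u = 0)
    (hperp : ∀ x ∈ S, polar Q x u = 0) : ∀ x ∈ S ⊔ Submodule.span F {u}, Q x = 0 := by
  intro x hx
  obtain ⟨s, hs, t, ht, rfl⟩ := Submodule.mem_sup.mp hx
  obtain ⟨r, rfl⟩ := Submodule.mem_span_singleton.mp ht
  rw [form_add, hS s hs, form_smul, hu, polar_smul_right, hperp s hs, smul_zero]
  simp

omit [Finite F] in
theorem finrank_sup_singleton {S : Submodule F V} {u : V} (hu : u ∉ S) :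
    Module.finrank F ↥(S ⊔ Submodule.span F {u}) = Module.finrank F S + 1 := by
  have e := Submodule.finrank_sup_add_finrank_inf_eq S (Submodule.span F {u})
  have hb : S ⊓ Submodule.span F {u} = ⊥ := (Submodule.eq_bot_iff _).mpr fun x hx => by
    obtain ⟨r, rfl⟩ := Submodule.mem_span_singleton.mp hx.2
    by_cases hr : r = 0
    · rw [hr, zero_smul]
    · exact absurd ((Submodule.smul_mem_iff S hr).mp hx.1) hu
  have hu0 : u ≠ 0 := fun h => hu (h ▸ zero_mem _)
  rw [hb, finrank_bot, finrank_span_singleton hu0, add_zero] at e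
  omega

/-- A vector with value one at `e` and zero on `S`. -/
theorem exists_dual_vec (hQ : PolarND Q) {S : Submodule F V} {e : V} (he : e ∉ S) :
    ∃ c, polar Q c e = 1 ∧ ∀ x ∈ S, polar Q c x = 0 := by
  have hp : IsOrthPair Q ⊤ ⊥ := ⟨hQ, isCompl_top_bot, fun x _ y hy => by
    rw [(Submodule.mem_bot F).mp hy, polar_zero_right]⟩
  obtain ⟨c, -, hc, hcS⟩ := hp.exists_dual (S := S) Submodule.mem_top he
  exact ⟨c, hc, fun x hx => hcS x Submodule.mem_top hx⟩

/-- A singular `f` orthogonal to `S` with value one at the singular vector `u`. -/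
theorem exists_partner (hQ : PolarND Q) {S : Submodule F V} {u : V} (hu : u ∉ S) (huQ : Q u = 0)
    (huS : ∀ x ∈ S, polar Q u x = 0) :
    ∃ f, Q f = 0 ∧ polar Q u f = 1 ∧ ∀ x ∈ S, polar Q f x = 0 := by
  obtain ⟨c, hc, hcS⟩ := exists_dual_vec hQ hu
  refine ⟨c - Q c • u, ?_, ?_, fun x hx => ?_⟩
  · rw [sub_eq_add_neg, ← neg_smul, form_add, form_smul, huQ, polar_smul_right, hc, smul_eq_mul]
    ring
  · rw [polar_sub_right, polar_comm Q u c, hc, polar_smul_right, polar_self_eq, huQ]
    simp
  · rw [polar_sub_left, polar_smul_left, hcS x hx, huS x hx, smul_zero, sub_zero]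

/-- `M` contains every root element centred at `u`. -/
def Full (M : Subgroup (orth Q)) (u : V) : Prop := ∀ z, polar Q u z = 0 → eich Q u z ∈ M

variable {M : Subgroup (orth Q)}

omit [Finite F] [FiniteDimensional F V] in
theorem Full.map {u : V} (hu : Full M u) {k : orth Q} (hk : k ∈ M) : Full M (k.1 u) := by
  intro z hz
  obtain ⟨z', rfl⟩ := k.1.surjective z
  rw [map_polar] at hz
  rw [← conj_eich]
  exact mul_mem (mul_mem hk (hu z' hz)) (inv_mem hk)

omit [Finite F] [FiniteDimensional F V] in
theorem Full.smul {u : V} (hu : Full M u) (hQu : Q u = 0) (c : F) : Full M (c • u) := by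
  intro z hz
  by_cases hc : c = 0
  · have h0 : eich Q (c • u) z = 1 := orth_ext fun x => by
      rw [eich_apply (by rw [form_smul, hQu, mul_zero]) hz, hc]; simp
    rw [h0]; exact one_mem M
  rw [polar_smul_left, smul_eq_mul] at hz
  have hz' : polar Q u z = 0 := (mul_eq_zero.mp hz).resolve_left hc
  rw [eich_smul_left hQu hz']
  exact hu _ (by rw [polar_smul_right, hz', smul_zero])

/-- Two non-orthogonal singular centres give all of `Ω`. -/
theorem eichGroup_le_of_hypPair (hQ : PolarND Q) (h5 : 5 ≤ Module.finrank F V) {e f : V}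
    (he : Q e = 0) (hf : Q f = 0) (hef : polar Q e f ≠ 0) (hEe : Full M e) (hEf : Full M f) :
    eichGroup Q ≤ M := by
  have step : ∀ e f : V, Q e = 0 → Q f = 0 → polar Q e f ≠ 0 → Full M e → Full M f →
      ∀ v, Q v = 0 → polar Q e v ≠ 0 → Full M v := by
    intro e f he hf hef hEe hEf v hv hev
    set b := polar Q e f with hb
    have hee : polar Q e e = 0 := by rw [polar_self_eq, he, mul_zero]
    have hff : polar Q f f = 0 := by rw [polar_self_eq, hf, mul_zero]
    set c := polar Q e v / b with hc
    set a := polar Q f v / b with ha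
    have hc0 : c ≠ 0 := div_ne_zero hev hef
    set w := v - c • f - a • e with hw
    have hwe : polar Q e w = 0 := by
      rw [hw, polar_sub_right, polar_sub_right, polar_smul_right, polar_smul_right, hee,
        smul_eq_mul, smul_zero, sub_zero, hc, div_mul_cancel₀ _ hef, sub_self]
    have hwf : polar Q f w = 0 := by
      rw [hw, polar_sub_right, polar_sub_right, polar_smul_right, polar_smul_right, hff,
        polar_comm Q f e, ← hb, smul_zero, sub_zero, smul_eq_mul, ha,
        div_mul_cancel₀ _ hef, sub_self]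
    have hz : polar Q e ((c * b)⁻¹ • w) = 0 := by rw [polar_smul_right, hwe, smul_zero]
    have hQv : Q v = c * a * b + Q w := by
      rw [show v = c • f + a • e + w by rw [hw]; abel, form_add, form_add, form_smul, form_smul,
        he, hf, polar_smul_left, polar_smul_right, polar_comm Q f e, polar_add_left,
        polar_smul_left, polar_smul_left, hwe, hwf, smul_eq_mul, smul_eq_mul, ← hb]
      simp
      ring
    have hkey : (eich Q e ((c * b)⁻¹ • w)).1 (c • f) = v := by
      rw [eich_apply he hz, form_smul, polar_smul_right, polar_smul_right, polar_smul_left,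
        polar_comm Q w f, hwf, ← hb]
      simp only [smul_eq_mul, mul_zero, zero_smul, sub_zero, smul_smul]
      have e1 : c * b * (c * b)⁻¹ = 1 := mul_inv_cancel₀ (mul_ne_zero hc0 hef)
      have e2 : (c * b)⁻¹ * (c * b)⁻¹ * Q w * (c * b) = -a := by
        rw [show Q w = -(c * a * b) by linear_combination hQv.symm.trans hv]
        field_simp
      rw [e1, one_smul, e2, hw]
      module
    exact hkey ▸ (hEf.smul hf c).map (hEe _ hz)
  have all : ∀ v, Q v = 0 → Full M v := by
    intro v hv
    by_cases h1 : polar Q e v ≠ 0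
    · exact step e f he hf hef hEe hEf v hv h1
    by_cases h2 : polar Q f v ≠ 0
    · exact step f e hf he (by rwa [polar_comm]) hEf hEe v hv h2
    simp only [not_not] at h1 h2
    by_cases hv0 : v = 0
    · rw [hv0, ← zero_smul F e]; exact hEe.smul he 0
    obtain ⟨x, hx⟩ : ∃ x, polar Q v x ≠ 0 := by
      by_contra hc
      simp only [not_exists, not_not] at hc
      exact hv0 (hQ v hc)
    set b := polar Q e f with hb
    have hee : polar Q e e = 0 := by rw [polar_self_eq, he, mul_zero]
    set z := x - (polar Q f x / b) • e - (polar Q e x / b) • f with hz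
    have hze : polar Q e z = 0 := by
      rw [hz, polar_sub_right, polar_sub_right, polar_smul_right, polar_smul_right, hee, ← hb,
        smul_zero, sub_zero, smul_eq_mul, div_mul_cancel₀ _ hef, sub_self]
    have hzv : polar Q z v = polar Q v x := by
      rw [hz, polar_sub_left, polar_sub_left, polar_smul_left, polar_smul_left, h1, h2,
        polar_comm Q x v, smul_zero, smul_zero, sub_zero, sub_zero]
    have hk : eich Q e z ∈ M := hEe z hze
    have himg : polar Q f ((eich Q e z).1 v) ≠ 0 := by
      rw [eich_apply he hze, h1, zero_smul, add_zero, mul_zero, zero_smul, sub_zero,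
        polar_sub_right, h2, polar_smul_right, zero_sub, smul_eq_mul, polar_comm Q f e, hzv]
      exact neg_ne_zero.mpr (mul_ne_zero hx hef)
    have h := (step f e hf he (by rwa [polar_comm]) hEf hEe _ (by rw [map_form, hv]) himg).map
      (inv_mem hk)
    rwa [coe_inv_apply_apply] at h
  exact eichGroup_le_of_singular hQ h5 fun u z hu _ huz => all u hu z huz

/-- A centre `u` and an element of `M` moving it off its orthogonal give all of `Ω`. -/
theorem eichGroup_le_of_shift (hQ : PolarND Q) (h5 : 5 ≤ Module.finrank F V) {u f z : V}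
    (hu : Q u = 0) (hf : Q f = 0) (huf : polar Q u f = 1) (hfz : polar Q f z = 0)
    (huz : polar Q u z = 0) (hz : Q z ≠ 0) (hEu : Full M u) (hk : eich Q f z ∈ M) :
    eichGroup Q ≤ M := by
  refine eichGroup_le_of_hypPair hQ h5 hu (f := (eich Q f z).1 u) (by rw [map_form, hu]) ?_ hEu
    (hEu.map hk)
  rw [eich_apply hf hfz, polar_comm Q z u, huz, polar_comm Q f u, huf, one_smul, zero_smul,
    sub_zero, mul_one, polar_sub_right, polar_add_right, polar_self_eq, hu, huz,
    polar_smul_right, huf]
  simpa using hz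

/-- A subgroup with the stabiliser of a totally singular subspace and one more element. -/
theorem eichGroup_le_of_singular_stab (hQ : PolarND Q) (h5 : 5 ≤ Module.finrank F V)
    {W : Submodule F V} (hW : ∀ x ∈ W, Q x = 0)
    (hbig : ∀ u, Q u = 0 → u ∉ W → (∀ w ∈ W, polar Q w u = 0) →
      2 * Module.finrank F W + 3 ≤ Module.finrank F V)
    (hH : ∀ g ∈ eichGroup Q, (∀ x ∈ W, g.1 x ∈ W) → g ∈ M)
    {g : orth Q} (hg : g ∈ M) (hgW : ¬ ∀ x ∈ W, g.1 x ∈ W) : eichGroup Q ≤ M := by
  have hFW : ∀ w ∈ W, Full M w := fun w hw z hwz => by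
    refine hH _ (eich_mem_eichGroup _ _) fun x hx => ?_
    rw [eich_apply (hW w hw) hwz, polar_eq_zero_of_singular hW hw hx, zero_smul, add_zero,
      mul_zero, zero_smul, sub_zero]
    exact sub_mem hx (W.smul_mem _ hw)
  simp only [not_forall] at hgW
  obtain ⟨x, hx, hgx⟩ := hgW
  have hu : Q (g.1 x) = 0 := by rw [map_form, hW x hx]
  have hEu : Full M (g.1 x) := (hFW x hx).map hg
  generalize g.1 x = u at *
  by_cases hperp : ∀ w ∈ W, polar Q w u = 0
  swap
  · simp only [not_forall] at hperp
    obtain ⟨w, hw, hwu⟩ := hperp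
    exact eichGroup_le_of_hypPair hQ h5 (hW w hw) hu hwu (hFW w hw) hEu
  have hdim := hbig u hu hgx hperp
  obtain ⟨f, hf, huf, hfW⟩ := exists_partner hQ hgx hu fun w hw => by
    rw [polar_comm]; exact hperp w hw
  set S := perpOf Q (W ⊔ Submodule.span F {u} ⊔ Submodule.span F {f}) with hS
  have hfn : f ∉ W ⊔ Submodule.span F {u} := fun hm => by
    have : polar Q u f = 0 := polar_eq_zero_of_singular (singular_sup hW hu hperp)
      (Submodule.mem_sup_right (Submodule.mem_span_singleton_self u)) hm
    exact one_ne_zero (huf.symm.trans this)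
  have hmemS : ∀ z ∈ S, (∀ w ∈ W, polar Q z w = 0) ∧ polar Q z u = 0 ∧ polar Q z f = 0 :=
    fun z hz =>
    ⟨fun w hw => mem_perpOf.mp hz w (Submodule.mem_sup_left (Submodule.mem_sup_left hw)),
      mem_perpOf.mp hz u (Submodule.mem_sup_left (Submodule.mem_sup_right
        (Submodule.mem_span_singleton_self u))),
      mem_perpOf.mp hz f (Submodule.mem_sup_right (Submodule.mem_span_singleton_self f))⟩
  obtain ⟨z, hz, hzQ⟩ : ∃ z ∈ S, Q z ≠ 0 := by
    by_contra hc
    simp only [not_exists, not_and, not_not] at hc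
    have e1 := finrank_perpOf hQ (W ⊔ Submodule.span F {u} ⊔ Submodule.span F {f})
    rw [finrank_sup_singleton hfn, finrank_sup_singleton hgx, ← hS] at e1
    have huS : u ∉ S := fun hm => one_ne_zero (huf.symm.trans (hmemS u hm).2.2)
    have e2 := two_mul_finrank_le hQ (singular_sup hc hu fun z hz => (hmemS z hz).2.1)
    rw [finrank_sup_singleton huS] at e2
    omega
  obtain ⟨hzW, hzu, hzf⟩ := hmemS z hz
  have hfz : polar Q f z = 0 := by rw [polar_comm]; exact hzf
  refine eichGroup_le_of_shift hQ h5 hu hf huf hfz (by rw [polar_comm]; exact hzu) hzQ hEu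
    (hH _ (eich_mem_eichGroup _ _) fun w hw => ?_)
  rw [eich_apply hf hfz, hfW w hw, hzW w hw]
  simpa using hw

/-- A subgroup with the stabiliser of a non-singular vector and one more element, in
characteristic two. -/
theorem eichGroup_le_of_vector_stab (hQ : PolarND Q) (h7 : 7 ≤ Module.finrank F V) {v : V}
    (hH : ∀ g ∈ eichGroup Q, g.1 v = v → g ∈ M)
    {g : orth Q} (hg : g ∈ M) (hgv : g.1 v ∉ Submodule.span F {v}) : eichGroup Q ≤ M := by
  classical
  have hp : IsOrthPair Q ⊤ ⊥ := ⟨hQ, isCompl_top_bot, fun x _ y hy => by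
    rw [(Submodule.mem_bot F).mp hy, polar_zero_right]⟩
  have hd : 7 ≤ Module.finrank F (⊤ : Submodule F V) := by rwa [finrank_top]
  have hroot : ∀ u z, Q u = 0 → polar Q u z = 0 → polar Q u v = 0 → polar Q z v = 0 →
      eich Q u z ∈ M := fun u z hu huz huv hzv => hH _ (eich_mem_eichGroup _ _) (by
    rw [eich_apply hu huz, huv, hzv]; simp)
  obtain ⟨u, -, hu, huv, huv', hu0, hind⟩ := exists_perp_singular hp hd v (g.1 v)
  set v' := g.1 v with hv'
  have hroot' : ∀ z, polar Q u z = 0 → polar Q z v' = 0 → eich Q u z ∈ M := fun z huz hzv => by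
    have e1 := hroot (g⁻¹.1 u) (g⁻¹.1 z) (by rw [map_form, hu]) (by rw [map_polar, huz])
      (by rw [← map_polar g, coe_apply_inv_apply]; exact huv')
      (by rw [← map_polar g, coe_apply_inv_apply]; exact hzv)
    have e2 := mul_mem (mul_mem hg e1) (inv_mem hg)
    rwa [conj_eich, coe_apply_inv_apply, coe_apply_inv_apply] at e2
  have hnm : v' ∉ Submodule.span F (({u, v} : Finset V) : Set V) := by
    simp only [Finset.coe_insert, Finset.coe_singleton, Submodule.mem_span_pair]
    rintro ⟨a, b, hab⟩
    by_cases ha : a = 0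
    · exact hgv (Submodule.mem_span_singleton.mpr ⟨b, by rw [← hab, ha, zero_smul, zero_add]⟩)
    · refine hind (-(a⁻¹ * b)) a⁻¹ ?_
      rw [← hab, smul_add, smul_smul, smul_smul, inv_mul_cancel₀ ha, one_smul]
      module
  obtain ⟨y, hy, hyS⟩ := exists_dual_vec hQ hnm
  have hyu : polar Q y u = 0 := hyS u (Submodule.subset_span (by simp))
  have hyv : polar Q y v = 0 := hyS v (Submodule.subset_span (by simp))
  have hEu : Full M u := fun z huz => by
    set c := polar Q z v'
    have e1 : polar Q u (c • y) = 0 := by rw [polar_smul_right, polar_comm, hyu, smul_zero]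
    have e2 : polar Q u (z - c • y) = 0 := by rw [polar_sub_right, huz, e1, sub_zero]
    have := mul_mem (hroot u (c • y) hu e1 huv (by rw [polar_smul_left, hyv, smul_zero]))
      (hroot' (z - c • y) e2 (by rw [polar_sub_left, polar_smul_left, hy, smul_eq_mul, mul_one,
        sub_self]))
    rwa [eich_mul hu e1 e2, add_sub_cancel] at this
  have huS : u ∉ Submodule.span F {v} := fun hm => by
    obtain ⟨r, hr⟩ := Submodule.mem_span_singleton.mp hm
    exact hind r 0 (by rw [← hr]; simp)
  obtain ⟨f, hf, huf, hfS⟩ := exists_partner hQ huS hu fun x hx => by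
    obtain ⟨r, rfl⟩ := Submodule.mem_span_singleton.mp hx
    rw [polar_smul_right, huv, smul_zero]
  set U := Submodule.span F (({u, f, v} : Finset V) : Set V)
  obtain ⟨z, hz, hzQ⟩ : ∃ z ∈ perpOf Q U, Q z ≠ 0 := by
    by_contra hc
    simp only [not_exists, not_and, not_not] at hc
    have e1 := finrank_perpOf hQ U
    have e2 : Module.finrank F U ≤ 3 :=
      (finrank_span_finset_le_card _).trans Finset.card_le_three
    have e3 := two_mul_finrank_le hQ hc
    omega
  have hzm : ∀ x ∈ ({u, f, v} : Finset V), polar Q z x = 0 := fun x hx =>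
    mem_perpOf.mp hz x (Submodule.subset_span hx)
  have hfz : polar Q f z = 0 := by rw [polar_comm]; exact hzm f (by simp)
  exact eichGroup_le_of_shift hQ (by omega) hu hf huf hfz
    (by rw [polar_comm]; exact hzm u (by simp)) hzQ hEu
    (hroot f z hf hfz (hfS v (Submodule.mem_span_singleton_self v)) (hzm v (by simp)))

/-- A maximal totally singular subspace, half of the space. -/
def IsHalf (Q : QuadraticForm F V) (U : Submodule F V) : Prop :=
  (∀ x ∈ U, Q x = 0) ∧ 2 * Module.finrank F U = Module.finrank F V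

omit [Finite F] [FiniteDimensional F V] in
theorem IsHalf.map {U : Submodule F V} (h : IsHalf Q U) (g : orth Q) :
    IsHalf Q (U.map g.1.toLinearMap) := by
  refine ⟨?_, ?_⟩
  · rintro _ ⟨x, hx, rfl⟩
    exact (map_form g x).trans (h.1 x hx)
  · rw [LinearEquiv.finrank_map_eq g.1 U]
    exact h.2

/-- A reflection changes the dimension of an intersection of halves by one. -/
theorem cast_finrank_inf_rf (hQ : PolarND Q) {U U' : Submodule F V} (hU : IsHalf Q U)
    (hU' : IsHalf Q U') {a : V} (ha : Q a ≠ 0) :
    (Module.finrank F ↥(U ⊓ U'.map (rf Q a).1.toLinearMap) : ZMod 2) =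
      Module.finrank F ↥(U ⊓ U') + 1 := by
  set r := rf Q a with hr
  set X := U ⊓ U'
  set Y := U ⊓ U'.map r.1.toLinearMap with hY
  let A : Submodule F V := LinearMap.ker (polarBilin Q a)
  have hA : ∀ x, x ∈ A ↔ polar Q a x = 0 := fun x => Iff.rfl
  have hfix : ∀ x ∈ A, r.1 x = x := fun x hx => rf_apply_of_polar ((hA x).mp hx)
  have hXY : X ⊓ A = Y ⊓ A := by
    apply le_antisymm
    · rintro x ⟨⟨h1, h2⟩, h3⟩
      exact ⟨⟨h1, x, h2, hfix x h3⟩, h3⟩
    · rintro x ⟨⟨h1, y, hy, hyx⟩, h3⟩
      have hyA : y ∈ A := by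
        rw [hA, ← map_polar r, show r.1 y = x from hyx, hr, rf_apply_self ha, polar_neg_left,
          (hA x).mp h3, neg_zero]
      refine ⟨⟨h1, ?_⟩, h3⟩
      rwa [← show r.1 y = x from hyx, hfix y hyA]
  -- dropping to the hyperplane
  have hdrop : ∀ Z : Submodule F V, ¬ Z ≤ A →
      Module.finrank F Z = Module.finrank F ↥(Z ⊓ A) + 1 := by
    intro Z hZ
    have e1 := LinearMap.finrank_range_add_finrank_ker ((polarBilin Q a).domRestrict Z)
    have e2 := Submodule.finrank_le (LinearMap.range ((polarBilin Q a).domRestrict Z))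
    rw [Module.finrank_self] at e2
    have e3 : Module.finrank F (LinearMap.ker ((polarBilin Q a).domRestrict Z)) =
        Module.finrank F ↥(Z ⊓ A) := by
      refine ((Submodule.equivMapOfInjective _ Z.injective_subtype _).finrank_eq).trans ?_
      have hmap : (LinearMap.ker ((polarBilin Q a).domRestrict Z)).map Z.subtype = Z ⊓ A := by
        ext x
        constructor
        · rintro ⟨y, hy, rfl⟩; exact ⟨y.2, hy⟩
        · rintro ⟨h1, h2⟩; exact ⟨⟨x, h1⟩, h2, rfl⟩
      rw [hmap]
    have e4 : Module.finrank F ↥(Z ⊓ A) < Module.finrank F Z :=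
      Submodule.finrank_lt_finrank_of_lt (lt_of_le_of_ne inf_le_left fun e => hZ (inf_eq_left.mp e))
    omega
  by_cases hXA : X ≤ A
  · have hYA : ¬ Y ≤ A := by
      -- `a` lies in `U ⊔ U'`
      have hsup : perpOf Q X ≤ U ⊔ U' := by
        have hle : U ⊔ U' ≤ perpOf Q X := sup_le
          (fun x hx => mem_perpOf.mpr fun w hw => polar_eq_zero_of_singular hU.1 hx hw.1)
          (fun x hx => mem_perpOf.mpr fun w hw => polar_eq_zero_of_singular hU'.1 hx hw.2)
        refine (Submodule.eq_of_le_of_finrank_le hle ?_).ge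
        have e1 := finrank_perpOf hQ X
        have e2 : Module.finrank F ↥(U ⊔ U') + Module.finrank F X =
            Module.finrank F U + Module.finrank F U' := Submodule.finrank_sup_add_finrank_inf_eq U U'
        have := hU.2
        have := hU'.2
        omega
      obtain ⟨u, hu, u', hu', hau⟩ :=
        Submodule.mem_sup.mp (hsup (mem_perpOf.mpr fun w hw => (hA w).mp (hXA hw)))
      have he : polar Q a u' = Q a := by
        have h0 : u = a + -u' := by rw [← hau]; abel
        have := hU.1 u hu
        rw [h0, form_add, QuadraticMap.map_neg, hU'.1 u' hu', polar_neg_right] at this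
        linear_combination -this
      intro hle
      have hmem : -u ∈ Y := ⟨neg_mem hu, u', hu', by
        show r.1 u' = -u
        rw [hr, rf_apply, he, inv_mul_cancel₀ ha, one_smul, ← hau]
        abel⟩
      have h2 := (hA _).mp (hle hmem)
      rw [polar_neg_right, neg_eq_zero] at h2
      have h3 : polar Q a a = polar Q a u + polar Q a u' := by
        rw [← polar_add_right, hau]
      rw [polar_self_eq, h2, he, zero_add] at h3
      exact ha (by linear_combination h3)
    rw [hdrop Y hYA, ← hXY, inf_eq_left.mpr hXA]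
    push_cast
    rfl
  · have hYA : Y ≤ A := by
      obtain ⟨x, hx, hxA⟩ := SetLike.not_le_iff_exists.mp hXA
      rintro y ⟨hyU, y', hy', hyy⟩
      set c := (Q a)⁻¹ * polar Q a y'
      have h1 : y = y' - c • a := (show r.1 y' = y from hyy).symm.trans (rf_apply a y')
      have h2 := polar_eq_zero_of_singular hU.1 hx.1 hyU
      rw [h1, polar_sub_right, polar_eq_zero_of_singular hU'.1 hx.2 hy', polar_smul_right,
        polar_comm Q x a, zero_sub, neg_eq_zero, smul_eq_mul] at h2
      have h3 : c = 0 := (mul_eq_zero.mp h2).resolve_right fun e => hxA ((hA x).mpr e)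
      rw [hA, h1, h3, zero_smul, sub_zero]
      exact ((mul_eq_zero.mp h3).resolve_left (inv_ne_zero ha))
    rw [hdrop X hXA, hXY, inf_eq_left.mpr hYA, Nat.cast_add, Nat.cast_one, add_assoc,
      show (1 : ZMod 2) + 1 = 0 from rfl, add_zero]

/-- `Ω` preserves the parity of the intersections of halves. -/
theorem cast_finrank_inf_map (hQ : PolarND Q) (h5 : 5 ≤ Module.finrank F V) {g : orth Q}
    (hg : g ∈ eichGroup Q) {U U' : Submodule F V} (hU : IsHalf Q U) (hU' : IsHalf Q U') :
    (Module.finrank F ↥(U ⊓ U'.map g.1.toLinearMap) : ZMod 2) = Module.finrank F ↥(U ⊓ U') := by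
  let P : orth Q → ZMod 2 → Prop := fun g s => ∀ U U', IsHalf Q U → IsHalf Q U' →
    (Module.finrank F ↥(U ⊓ U'.map g.1.toLinearMap) : ZMod 2) = Module.finrank F ↥(U ⊓ U') + s
  have hmul : ∀ g h s t, P g s → P h t → P (g * h) (s + t) := fun g h s t hs ht U U' hU hU' => by
    have e : U'.map (g * h).1.toLinearMap = (U'.map h.1.toLinearMap).map g.1.toLinearMap := by
      rw [← Submodule.map_comp]; rfl
    rw [e, hs U _ hU (hU'.map h), ht U U' hU hU']
    ring
  have hneg : ∀ t : ZMod 2, t + t = 0 := by decide
  have hinv : ∀ g s, P g s → P g⁻¹ s := fun g s hs U U' hU hU' => by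
    have h1 := hs U _ hU (hU'.map g⁻¹)
    have e : (U'.map (g⁻¹).1.toLinearMap).map g.1.toLinearMap = U' := by
      rw [← Submodule.map_comp]
      convert Submodule.map_id U'
      exact LinearMap.ext fun x => coe_apply_inv_apply g x
    rw [e] at h1
    rw [h1, add_assoc, hneg, add_zero]
  have hex : ∀ g, ∃ s, P g s := by
    obtain ⟨W, W', M', hM, hne, hgen, ⟨e⟩⟩ := exists_model hQ h5
    haveI : Finite W' := Module.finite_of_finite F
    have htop : reflGroup Q = ⊤ := reflGroup_congr e.symm (reflGroup_eq_top_of_elem hM hne hgen)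
    intro g
    have hgm : g ∈ reflGroup Q := htop ▸ Subgroup.mem_top g
    unfold reflGroup at hgm
    induction hgm using Subgroup.closure_induction with
    | mem x hx =>
      obtain ⟨a, rfl⟩ := hx
      by_cases ha : Q a = 0
      · refine ⟨0, fun U U' _ _ => ?_⟩
        have h1 : rf Q a = 1 := orth_ext fun x => by rw [rf_apply, ha]; simp
        rw [h1, show U'.map (1 : orth Q).1.toLinearMap = U' from Submodule.map_id U', add_zero]
      · exact ⟨1, fun U U' hU hU' => cast_finrank_inf_rf hQ hU hU' ha⟩
    | one => exact ⟨0, fun U U' _ _ => by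
        rw [show U'.map (1 : orth Q).1.toLinearMap = U' from Submodule.map_id U', add_zero]⟩
    | mul x y _ _ hx hy => exact ⟨_, hmul _ _ _ _ hx.choose_spec hy.choose_spec⟩
    | inv x _ hx => exact ⟨_, hinv _ _ hx.choose_spec⟩
  let N : Subgroup (orth Q) :=
    { carrier := {g | P g 0}
      mul_mem' := fun {a b} ha hb => by simpa using hmul a b 0 0 ha hb
      one_mem' := fun U U' _ _ => by
        rw [show U'.map (1 : orth Q).1.toLinearMap = U' from Submodule.map_id U', add_zero]
      inv_mem' := fun {a} ha => hinv a 0 ha }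
  have hle : commutator (orth Q) ≤ N := by
    rw [commutator_def, Subgroup.commutator_le]
    intro x _ y _
    obtain ⟨s, hs⟩ := hex x
    obtain ⟨t, ht⟩ := hex y
    show P _ 0
    have := hmul _ _ _ _ (hmul _ _ _ _ (hmul _ _ _ _ hs ht) (hinv _ _ hs)) (hinv _ _ ht)
    rwa [show s + t + s + t = 0 by rw [add_assoc (s + t) s t, hneg],
      ← commutatorElement_def] at this
  have := hle (by rwa [commutator_eq hQ h5]) U U' hU hU'
  rwa [add_zero] at this

end Cfsg.Agent.OrthStab
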