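import Cfsg.Agent.Lib.Dickson.Main

/-!
A subgroup of `PSL₂(F)` with many translations and one more unipotent element: its translations
form a scalar multiple of a subfield (helper24).
-/

set_option autoImplicit false
set_option linter.unusedSectionVars false

namespace Cfsg.Agent.SL2Orbit

open Matrix MulAction OnePoint Cfsg.Agent.Dickson
open scoped MatrixGroups Classical
open Cfsg.Agent.PLocalB (upper lower)

attribute [local instance] Cfsg.Agent.PLocalB.lineAction pslLine

variable {F : Type*} [Field F] [Fintype F]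

theorem lower_conj (a : F) : ∃ t : SL(2, F), lower a = t * upper (-a) * t⁻¹ ∧
    t • (∞ : OnePoint F) = ((0 : F) : OnePoint F) := by
  obtain ⟨t, ht⟩ : ∃ t : SL(2, F), (t : Matrix (Fin 2) (Fin 2) F) = !![0, -1; 1, 0] :=
    ⟨⟨!![0, -1; 1, 0], by simp [det_fin_two]⟩, rfl⟩
  refine ⟨t, ?_, ?_⟩
  · apply eq_mul_inv_iff_mul_eq.mpr
    apply Subtype.ext
    rw [Matrix.SpecialLinearGroup.coe_mul, Matrix.SpecialLinearGroup.coe_mul, ht]
    simp [upper, lower]
  · rw [PLocalB.smul_infty_of_ne _ (by simp [ht])]; simp [ht]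

/-- Translations in a subgroup with a further unipotent element are closed under `b ↦ -1/(a² b)`. -/
theorem translations_closed (H : Subgroup (PSL2 F)) (A : AddSubgroup F)
    (hA : ∀ b : F, b ∈ A ↔ uppHom F (Multiplicative.ofAdd b) ∈ H) (hcard : 64 ≤ Nat.card A)
    {a : F} (ha0 : a ≠ 0) (ha : (QuotientGroup.mk (lower a) : PSL2 F) ∈ H) :
    -a⁻¹ ∈ A ∧ ∀ b ∈ A, b ≠ 0 → -(a ^ 2)⁻¹ / b ∈ A := by
  set k := AlgebraicClosure F
  set f : F →+* k := algebraMap F k
  let ι : H →* PSL2 k := (extend f).comp H.subtype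
  have hι : Function.Injective ι := (extend_injective f).comp Subtype.val_injective
  letI : MulAction H (OnePoint k) := MulAction.compHom (OnePoint k) ι
  have hS : Sharp H (OnePoint k) := sharp_of_injective ι hι
  have hsmul : ∀ (g : H) (v : OnePoint k), g • v = extend f (g : PSL2 F) • v := fun _ _ => rfl
  have hU : ∀ (w : OnePoint F) (g : H), IsUni (pointMap f w) g ↔ IsUni w (g : PSL2 F) := fun w g => by
    rw [← isUni_extend_iff f]
    simp only [IsUni, hsmul]
    rw [show (g = 1 ↔ extend f (g : PSL2 F) = 1) from (map_eq_one_iff ι hι).symm]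
  set wi := pointMap f (∞ : OnePoint F)
  set w0 := pointMap f ((0 : F) : OnePoint F)
  -- the translations fix `∞` only
  let toUni : A → uni hS wi := fun b => ⟨⟨uppHom F (Multiplicative.ofAdd (b : F)), (hA _).mp b.2⟩,
    (hU _ _).mpr (isUni_infty_iff_upp.mpr ⟨b, rfl⟩)⟩
  have hbij : Function.Bijective toUni := by
    refine ⟨fun b c e => Subtype.ext (Multiplicative.ofAdd.injective (uppHom_injective
      (congrArg (fun u : uni hS wi => ((u : H) : PSL2 F)) e))), fun u => ?_⟩
    obtain ⟨b, hb⟩ := isUni_infty_iff_upp.mp ((hU _ _).mp u.2)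
    exact ⟨⟨b, (hA b).mpr (hb ▸ u.1.2)⟩, Subtype.ext (Subtype.ext hb.symm)⟩
  have hui : uc hS wi = Nat.card A := (Nat.card_congr (Equiv.ofBijective _ hbij)).symm
  have h0 : uppHom F (Multiplicative.ofAdd (0 : F)) = 1 := by rw [ofAdd_zero, map_one]
  -- the further element fixes `0` only
  have hlow : IsUni ((0 : F) : OnePoint F) (QuotientGroup.mk (lower a) : PSL2 F) := by
    obtain ⟨t, ht, htp⟩ := lower_conj a
    rw [ht, ← htp, QuotientGroup.mk_mul, QuotientGroup.mk_mul, QuotientGroup.mk_inv, ← mk_smul]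
    exact isUni_conj (isUni_infty_iff_upp.mpr ⟨-a, rfl⟩)
  have hlow1 : (QuotientGroup.mk (lower a) : PSL2 F) ≠ 1 := fun e => by
    have := ((SL2Tor.psl_mk_eq_one_iff _).mp e).2.1
    simp [lower, ha0] at this
  have hlinf : (QuotientGroup.mk (lower a) : PSL2 F) • (∞ : OnePoint F)
      = ((a⁻¹ : F) : OnePoint F) := by
    rw [mk_smul, PLocalB.smul_infty_of_ne _ (by simp [lower, ha0])]
    simp [lower]
  have hu0 : 2 ≤ uc hS w0 := by
    haveI : Nontrivial (uni hS w0) := ⟨⟨⟨_, ha⟩, (hU _ _).mpr hlow⟩, 1, fun e =>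
      hlow1 (congrArg (fun u : uni hS w0 => ((u : H) : PSL2 F)) e)⟩
    exact Finite.one_lt_card
  obtain ⟨w, hw3, horb, hst⟩ : ∃ w : OnePoint k, 3 ≤ uc hS w ∧ orb H w = uc hS w + 1 ∧
      (st H w = uc hS w * (uc hS w - 1) ∨ 2 * st H w = uc hS w * (uc hS w - 1)) := by
    have hsmall : ∀ n, Nat.card H = n → n ≤ 60 → False := fun n hn h60 => by
      have := Nat.le_of_dvd Nat.card_pos
        (Subgroup.card_subgroup_dvd_card (uni hS wi))
      change uc hS wi ≤ _ at this
      omega
    rcases classify hS with ⟨-, hnu⟩ | ⟨w, hfix, hu⟩ | ⟨n, hn, ⟨e⟩, x, hx, hnu⟩ | h | h | h | h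
    · haveI : Nontrivial (uni hS wi) := Finite.one_lt_card_iff_nontrivial.mp (by
        change 1 < uc hS wi; omega)
      obtain ⟨u, hu⟩ := exists_ne (1 : uni hS wi)
      exact absurd ⟨wi, u.2⟩ (hnu u.1 fun e => hu (Subtype.ext e))
    · exfalso
      haveI : Nontrivial (uni hS wi) := Finite.one_lt_card_iff_nontrivial.mp (by
        change 1 < uc hS wi; omega)
      obtain ⟨u, hu'⟩ := exists_ne (1 : uni hS wi)
      have hw : w = wi := ((u.2 : IsUni wi u.1).resolve_left
        fun e => hu' (Subtype.ext e) ) w |>.mp (hfix u.1)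
      have := hfix ⟨_, ha⟩
      rw [hw, hsmul, extend_smul, hlinf] at this
      exact OnePoint.coe_ne_infty _ (pointMap_injective f this)
    · exfalso
      have hdis : Subgroup.zpowers x ⊓ uni hS wi = ⊥ := by
        rw [Subgroup.eq_bot_iff_forall]
        rintro y ⟨hy1, hy2⟩
        by_contra hy
        obtain ⟨i, rfl⟩ := hy1
        have hu := (hy2 : IsUni wi (x ^ i)).resolve_left hy
        have hc : x * x ^ i = x ^ i * x := ((Commute.refl x).zpow_right i).eq
        have hxw : x • wi = wi := (hu _).mp (by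
          rw [← mul_smul, ← hc, mul_smul, (hy2 : IsUni wi (x ^ i)).smul_eq])
        exact hnu ⟨wi, uni_of_comm hS hxw hy2 hy hc⟩
      have hH : Nat.card H = 2 * n := by rw [Nat.card_congr e.toEquiv, DihedralGroup.nat_card]
      have h' := Nat.card_le_card_of_injective
        (fun p : Subgroup.zpowers x × uni hS wi => (p.1 : H) * (p.2 : H))
        (fun p q hpq => by
          have h1 : (q.1 : H)⁻¹ * (p.1 : H) = (q.2 : H) * (p.2 : H)⁻¹ := by
            rw [eq_mul_inv_iff_mul_eq, mul_assoc, inv_mul_eq_iff_eq_mul]; exact hpq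
          have h3 : (q.1 : H)⁻¹ * (p.1 : H) ∈ Subgroup.zpowers x ⊓ uni hS wi :=
            Subgroup.mem_inf.mpr ⟨Subgroup.mul_mem _ (Subgroup.inv_mem _ q.1.2) p.1.2,
              h1 ▸ Subgroup.mul_mem _ q.2.2 (Subgroup.inv_mem _ p.2.2)⟩
          rw [hdis, Subgroup.mem_bot] at h3
          have e1 : p.1 = q.1 := Subtype.ext (inv_mul_eq_one.mp h3).symm
          refine Prod.ext e1 (Subtype.ext (mul_left_cancel (a := (p.1 : H)) (hpq.trans ?_)))
          show (q.1 : H) * (q.2 : H) = _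
          rw [e1])
      rw [Nat.card_prod, Nat.card_zpowers, hx, hH] at h'
      change n * uc hS wi ≤ 2 * n at h'
      have : n * 64 ≤ n * uc hS wi := Nat.mul_le_mul_left _ (by omega)
      omega
    · exact (hsmall 12 (by rw [Nat.card_congr h.some.toEquiv, nat_card_alternatingGroup]; simp; rfl)
        (by norm_num)).elim
    · exact (hsmall 24 (by rw [Nat.card_congr h.some.toEquiv, Nat.card_perm]; simp; rfl)
        (by norm_num)).elim
    · exact (hsmall 60 (by rw [Nat.card_congr h.some.toEquiv, nat_card_alternatingGroup]; simp; rfl)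
        le_rfl).elim
    · exact h
  -- both points lie in the orbit of `w`
  have hspec : ∀ v, 2 ≤ uc hS v → v ∈ special H (OnePoint k) := fun v hv => by
    haveI : Nontrivial (uni hS v) := Finite.one_lt_card_iff_nontrivial.mp hv
    obtain ⟨u, hu⟩ := exists_ne (1 : uni hS v)
    exact ⟨u.1, fun e => hu (Subtype.ext e), (u.2 : IsUni v u.1).smul_eq⟩
  have horbw : ∀ v, 2 ≤ uc hS v → v ∈ orbit H w := by
    intro v hv
    by_contra hvw
    have hne := ne_of_notMem_orbit hvw
    have := (sum_orbits_le hS (⊤ : Subgroup H) (R := {w, v}) (by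
      simp only [Finset.mem_insert, Finset.mem_singleton, forall_eq_or_imp, forall_eq]
      exact ⟨hspec w (by omega), hspec v hv⟩) (distinct_pair hvw)).1
    rw [Finset.sum_pair hne, Subgroup.card_top] at this
    have h1 := orb_mul_wt_top hS w
    have h2 := group_le_wt hS hv
    have h3 : orb H w * 3 ≤ orb H w * uc hS w := Nat.mul_le_mul_left _ hw3
    have h4 := orb_pos (G := H) w
    have h5 : 0 < Nat.card H := Nat.card_pos
    omega
  obtain ⟨g₁, hg₁⟩ := horbw wi (by omega)
  have hoi : orbit H wi = orbit H w := orbit_eq_iff.mpr ⟨g₁, hg₁⟩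
  have hcardS : orb H wi = Nat.card A + 1 := by
    rw [show orb H wi = orb H w by rw [orb, orb, hoi], horb, ← hui, ← hg₁, uc_smul]
  obtain ⟨g₀, hg₀⟩ : w0 ∈ orbit H wi := hoi ▸ horbw w0 hu0
  set S := {v : OnePoint F | ∃ h ∈ H, h • (∞ : OnePoint F) = v} with hSdef
  have hScard : S.ncard = Nat.card A + 1 := by
    rw [← hcardS, orb, Nat.card_coe_set_eq, ← Set.ncard_image_of_injective S (pointMap_injective f)]
    congr 1
    ext y
    constructor
    · rintro ⟨v, ⟨h, hh, rfl⟩, rfl⟩
      exact ⟨⟨h, hh⟩, extend_smul f h ∞⟩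
    · rintro ⟨g, rfl⟩
      exact ⟨(g : PSL2 F) • (∞ : OnePoint F), ⟨g, g.2, rfl⟩, (extend_smul f _ _).symm⟩
  have hupp : ∀ b x : F, uppHom F (Multiplicative.ofAdd b) • ((x : F) : OnePoint F)
      = ((x + b : F) : OnePoint F) := fun b x => by
    show (PLocalB.upper b) • ((x : F) : OnePoint F) = _
    rw [PLocalB.upper_smul_coe]
  have hzero : ((0 : F) : OnePoint F) ∈ S := ⟨g₀, g₀.2, pointMap_injective f (by
    rw [← extend_smul]; exact hg₀)⟩
  have hsub : insert (∞ : OnePoint F) ((fun b : F => (b : OnePoint F)) '' (A : Set F)) ⊆ S := by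
    intro v hv
    rcases Set.mem_insert_iff.mp hv with rfl | ⟨b, hb, rfl⟩
    · exact ⟨1, one_mem _, one_smul _ _⟩
    · obtain ⟨h, hh, he⟩ := hzero
      exact ⟨uppHom F (Multiplicative.ofAdd b) * h, mul_mem ((hA b).mp hb) hh,
        by rw [mul_smul, he, hupp, zero_add]⟩
  have hins : (insert (∞ : OnePoint F) ((fun b : F => (b : OnePoint F)) '' (A : Set F))).ncard
      = Nat.card A + 1 := by
    rw [Set.ncard_insert_of_notMem (by simp) (Set.toFinite _),
      Set.ncard_image_of_injective _ (fun b c h => OnePoint.coe_eq_coe.mp h),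
      ← Nat.card_coe_set_eq]
    rfl
  have hSeq := Set.eq_of_subset_of_ncard_le hsub (by rw [hins, hScard]) (Set.toFinite _)
  have hcoe : ∀ x : F, ((x : F) : OnePoint F) ∈ S → x ∈ A := fun x hx => by
    rw [← hSeq] at hx
    rcases Set.mem_insert_iff.mp hx with h | ⟨b, hb, h⟩
    · exact absurd h (OnePoint.coe_ne_infty _)
    · rwa [← OnePoint.coe_eq_coe.mp h]
  have hainv : -a⁻¹ ∈ A := neg_mem (hcoe _ ⟨_, ha, hlinf⟩)
  refine ⟨hainv, fun b hb hb0 => hcoe _ ?_⟩
  obtain ⟨h, hh, he⟩ : ((b : F) : OnePoint F) ∈ S := hsub (Or.inr ⟨b, hb, rfl⟩)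
  set W : SL(2, F) := upper (-a⁻¹) * lower a * upper (-a⁻¹) with hW
  have hWv : (W : Matrix (Fin 2) (Fin 2) F) = !![0, -a⁻¹; a, 0] := by
    rw [hW, Matrix.SpecialLinearGroup.coe_mul, Matrix.SpecialLinearGroup.coe_mul]
    simp [upper, lower, ha0]
  have hWH : (QuotientGroup.mk W : PSL2 F) ∈ H := by
    rw [hW, QuotientGroup.mk_mul, QuotientGroup.mk_mul]
    exact mul_mem (mul_mem ((hA _).mp hainv) ha) ((hA _).mp hainv)
  refine ⟨QuotientGroup.mk W * h, mul_mem hWH hh, ?_⟩
  rw [mul_smul, he, mk_smul, PLocalB.smul_coe_eq, if_neg (by simp [hWv, ha0, hb0]),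
    OnePoint.coe_eq_coe]
  simp [hWv]
  field_simp

end Cfsg.Agent.SL2Orbit
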