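import Cfsg.Agent.MaxSub.Alt
import Cfsg.Agent.MaxSub.OrthVectorGL

/-!
The similitude group of a quadratic form is maximal in the special linear group, odd characteristic
(helper24).
-/

set_option autoImplicit false
set_option linter.unusedSectionVars false

namespace Cfsg.Agent.Similitude

open Matrix QuadraticMap Cfsg.Agent.MaxSub Cfsg.Agent.UnitaryOrthogonal Cfsg.Agent.OrthStab

variable {ι : Type} [Fintype ι] [DecidableEq ι] {F : Type*} [Field F] [Finite F]
variable (Q : QuadraticForm F (ι → F))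

theorem bil : Geo.IsBilinearForm (polar (⇑Q)) :=
  ⟨fun x y z => polar_add_left Q x y z, fun c x y => by rw [polar_smul_left, smul_eq_mul],
    fun x y z => polar_add_right Q x y z, fun c x y => by rw [polar_smul_right, smul_eq_mul]⟩

/-- `x ↦ x + (polar (⇑Q))(x,u) z - (polar (⇑Q))(x,z) u - Q(z) (polar (⇑Q))(x,u) u`. -/
noncomputable def se (u z : ι → F) : GL ι F :=
  tv z (rep (polar (⇑Q)) u) * tv u (-rep (polar (⇑Q)) z - Q z • rep (polar (⇑Q)) u)

variable {Q}

theorem se_mulVec {u z : ι → F} (hu : Q u = 0) (hzu : (polar (⇑Q)) z u = 0) (x : ι → F) :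
    (se Q u z : Matrix ι ι F) *ᵥ x = x + (polar (⇑Q)) x u • z - (polar (⇑Q)) x z • u - (Q z * (polar (⇑Q)) x u) • u := by
  have hb := bil Q
  have huu : (polar (⇑Q)) u u = 0 := by rw [polar_self_eq, hu, mul_zero]
  have h1 : rep (polar (⇑Q)) u ⬝ᵥ z = 0 := by rw [rep_dot hb, hzu]
  have h2 : (-rep (polar (⇑Q)) z - Q z • rep (polar (⇑Q)) u) ⬝ᵥ u = 0 := by
    rw [sub_dotProduct, neg_dotProduct, smul_dotProduct, rep_dot hb, rep_dot hb, huu,
      polar_comm, hzu]
    simp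
  rw [se, Units.val_mul, ← mulVec_mulVec, tv_mulVec h2, tv_mulVec h1, rep_dot hb, sub_dotProduct,
    neg_dotProduct, smul_dotProduct, rep_dot hb, rep_dot hb, polar_add_left, polar_smul_left, huu,
    smul_zero, add_zero, smul_eq_mul]
  module

theorem se_similar {u z : ι → F} (hu : Q u = 0) (hzu : (polar (⇑Q)) z u = 0) :
    se Q u z ∈ Geo.quadSimilarityGroup (⇑Q) ⊓ Geo.specialLinear ι F := by
  refine ⟨⟨1, fun x => ?_⟩, mul_mem (tv_mem_specialLinear _ _) (tv_mem_specialLinear _ _)⟩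
  have h : eichMap Q u z x = (se Q u z : Matrix ι ι F) *ᵥ x := by
    rw [eichMap_apply, se_mulVec hu hzu, polar_comm (⇑Q) u x, polar_comm (⇑Q) z x]
  rw [← h, form_eichMap Q hu (by rw [polar_comm]; exact hzu), Units.val_one, one_mul]

/-- An isometry moves transvection data. -/
theorem tv_rep_conj {k : GL ι F} (hk : k ∈ isom (polar (⇑Q))) {v y : ι → F} (h : (polar (⇑Q)) v y = 0) :
    k * tv v (rep (polar (⇑Q)) y) * k⁻¹ =
      tv ((k : Matrix ι ι F) *ᵥ v) (rep (polar (⇑Q)) ((k : Matrix ι ι F) *ᵥ y)) := by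
  rw [tv_conj k (by rw [rep_dot (bil Q), h]), rep_vecMul_inv (bil Q) hk]

theorem isom_of_form {k : GL ι F} (h : ∀ x, Q ((k : Matrix ι ι F) *ᵥ x) = Q x) : k ∈ isom (polar (⇑Q)) := by
  intro x y
  show (polar (⇑Q)) ((k : Matrix ι ι F) *ᵥ x) ((k : Matrix ι ι F) *ᵥ y) = (polar (⇑Q)) x y
  simp only [polar, ← mulVec_add, h]

theorem se_isom {u z : ι → F} (hu : Q u = 0) (hzu : (polar (⇑Q)) z u = 0) : se Q u z ∈ isom (polar (⇑Q)) :=
  isom_of_form fun x => by
    have h : eichMap Q u z x = (se Q u z : Matrix ι ι F) *ᵥ x := by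
      rw [eichMap_apply, se_mulVec hu hzu, polar_comm (⇑Q) u x, polar_comm (⇑Q) z x]
    rw [← h, form_eichMap Q hu (by rw [polar_comm]; exact hzu)]

variable (hQ : PolarND Q) (hn : 13 ≤ Fintype.card ι) (h2 : (2 : F) ≠ 0)
include hQ hn h2

/-- A singular vector orthogonal to a list. -/
theorem exists_singular {k : ℕ} (p : Fin k → ι → F) (hk : k + 3 ≤ Fintype.card ι) :
    ∃ v, v ≠ 0 ∧ Q v = 0 ∧ ∀ i, (polar (⇑Q)) v (p i) = 0 := by
  let L : (ι → F) →ₗ[F] (Fin k → F) := LinearMap.pi fun i => lmap (bil Q) (p i)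
  have hdim : 3 ≤ Module.finrank F (LinearMap.ker L) := by
    have e1 := LinearMap.finrank_range_add_finrank_ker L
    have e2 := Submodule.finrank_le (LinearMap.range L)
    simp at e1 e2
    omega
  obtain ⟨v, hv, hv0, hvQ⟩ := exists_singular_mem (Q := Q) _ hdim
  exact ⟨v, hv0, hvQ, fun i => congrFun hv i⟩

theorem exists_sum_ne {S a b d₁ d₂ : ι → F} (h1S : (polar (⇑Q)) d₁ S = 0) (h1a : (polar (⇑Q)) d₁ a ≠ 0)
    (h2S : (polar (⇑Q)) d₂ S = 0) (h2b : (polar (⇑Q)) d₂ b ≠ 0) : ∃ d, (polar (⇑Q)) d S = 0 ∧ (polar (⇑Q)) d a ≠ 0 ∧ (polar (⇑Q)) d b ≠ 0 := by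
  by_cases h3 : (polar (⇑Q)) d₁ b = 0
  · by_cases h4 : (polar (⇑Q)) d₂ a = 0
    · exact ⟨d₁ + d₂, by rw [polar_add_left, h1S, h2S, add_zero],
        by rwa [polar_add_left, h4, add_zero], by rwa [polar_add_left, h3, zero_add]⟩
    · exact ⟨d₂, h2S, h4, h2b⟩
  · exact ⟨d₁, h1S, h1a, h3⟩

theorem exists_shift {d r : ι → F} (hr : Q r = 0) (hdr : (polar (⇑Q)) d r ≠ 0) :
    ∃ t : F, Q (d + t • r) = 0 := by
  refine ⟨-Q d / (polar (⇑Q)) d r, ?_⟩
  rw [form_add, form_smul, hr, polar_smul_right, smul_eq_mul, div_mul_cancel₀ _ hdr]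
  ring

theorem exists_singular_nonorth {e y : ι → F} (hye : y ∉ Submodule.span F {e}) :
    ∃ p, Q p = 0 ∧ (polar (⇑Q)) p e = 0 ∧ (polar (⇑Q)) p y ≠ 0 := by
  obtain ⟨z, hze⟩ : ∃ z, e ≠ 0 → (polar (⇑Q)) z e ≠ 0 := by
    by_cases h : e = 0
    · exact ⟨0, fun h' => (h' h).elim⟩
    obtain ⟨z, hz, -⟩ := exists_dual_vec (S := ⊥) hQ (e := e) (by simpa using h)
    exact ⟨z, fun _ => by rw [hz]; exact one_ne_zero⟩
  obtain ⟨r, hr0, hrQ, hrp⟩ := exists_singular hQ hn h2 ![e, y, z] (by omega)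
  have hre : r ∉ Submodule.span F {e} := fun hm => by
    obtain ⟨c, rfl⟩ := Submodule.mem_span_singleton.mp hm
    obtain ⟨hc0, he0⟩ := smul_ne_zero_iff.mp hr0
    have h : (polar (⇑Q)) (c • e) z = 0 := hrp 2
    rw [polar_smul_left, smul_eq_mul, polar_comm] at h
    exact hze he0 ((mul_eq_zero.mp h).resolve_left hc0)
  obtain ⟨d₁, h1y, h1e⟩ := exists_dual_vec hQ hye
  obtain ⟨d₂, h2r, h2e⟩ := exists_dual_vec hQ hre
  obtain ⟨d, hde, hdy, hdr⟩ := exists_sum_ne hQ hn h2 (S := e) (a := y) (b := r)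
    (h1e e (Submodule.mem_span_singleton_self e)) (by rw [h1y]; exact one_ne_zero)
    (h2e e (Submodule.mem_span_singleton_self e)) (by rw [h2r]; exact one_ne_zero)
  obtain ⟨t, ht⟩ := exists_shift hQ hn h2 hrQ hdr
  refine ⟨_, ht, ?_, ?_⟩
  · rw [polar_add_left, polar_smul_left, hde, show (polar (⇑Q)) r e = 0 from hrp 0, smul_zero, add_zero]
  · rwa [polar_add_left, polar_smul_left, show (polar (⇑Q)) r y = 0 from hrp 1, smul_zero, add_zero]

theorem exists_common {a v : ι → F} (ha : Q a = 0) (ha0 : a ≠ 0) (hv0 : v ≠ 0)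
    (hav : (polar (⇑Q)) a v = 0) : ∃ e, Q e = 0 ∧ (polar (⇑Q)) e a ≠ 0 ∧ (polar (⇑Q)) e v ≠ 0 := by
  obtain ⟨d₁, h1, h1e⟩ := exists_dual_vec (S := ⊥) hQ (e := a) (by simpa using ha0)
  obtain ⟨d₂, h2v, h2e⟩ := exists_dual_vec (S := ⊥) hQ (e := v) (by simpa using hv0)
  obtain ⟨d, -, hda, hdv⟩ := exists_sum_ne hQ hn h2 (S := 0) (a := a) (b := v)
    (polar_zero_right Q d₁) (by rw [h1]; exact one_ne_zero) (polar_zero_right Q d₂)
    (by rw [h2v]; exact one_ne_zero)
  obtain ⟨t, ht⟩ := exists_shift hQ hn h2 ha hda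
  exact ⟨_, ht, by rwa [polar_add_left, polar_smul_left, polar_self_eq, ha, mul_zero, smul_zero,
    add_zero], by rwa [polar_add_left, polar_smul_left, hav, smul_zero, add_zero]⟩

/-- The adjoint data of an element outside the similitude group. -/
theorem exists_twisted {g : GL ι F} (hg : g ∉ Geo.quadSimilarityGroup (⇑Q)) :
    ∃ p P₁, Q p = 0 ∧ p ≠ 0 ∧
      (∀ x, (polar (⇑Q)) x P₁ = (polar (⇑Q)) (((g⁻¹ : GL ι F) : Matrix ι ι F) *ᵥ x) p) ∧
      P₁ ∉ Submodule.span F {(g : Matrix ι ι F) *ᵥ p} := by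
  by_contra hcon
  simp only [not_exists, not_and, not_not] at hcon
  have hb := bil Q
  have hnd : Geo.IsNondegenerateForm (polar (⇑Q)) := fun v hv => by
    have h : ∃ u, (polar (⇑Q)) u v ≠ 0 := by
      obtain ⟨z, hz, -⟩ := exists_dual_vec (S := ⊥) hQ (e := v) (by simpa using hv)
      exact ⟨z, by rw [hz]; exact one_ne_zero⟩
    obtain ⟨u, hu⟩ := h
    exact ⟨⟨u, hu⟩, u, by rw [polar_comm]; exact hu⟩
  have hc : ∀ p, Q p = 0 → p ≠ 0 → ∃ c : F, ∀ x,
      (polar (⇑Q)) x p = c * (polar (⇑Q)) ((g : Matrix ι ι F) *ᵥ x) ((g : Matrix ι ι F) *ᵥ p) := by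
    intro p hp hp0
    obtain ⟨P₁, hP⟩ := exists_rep hb hnd (rep (polar (⇑Q)) p ᵥ* ((g⁻¹ : GL ι F) : Matrix ι ι F))
    have hP' : ∀ x, (polar (⇑Q)) x P₁ = (polar (⇑Q)) (((g⁻¹ : GL ι F) : Matrix ι ι F) *ᵥ x) p := fun x => by
      rw [← rep_dot hb, hP, ← dotProduct_mulVec, rep_dot hb]
    obtain ⟨c, hc⟩ := Submodule.mem_span_singleton.mp (hcon p P₁ hp hp0 hP')
    refine ⟨c, fun x => ?_⟩
    rw [← smul_eq_mul, ← polar_smul_right, hc, hP', inv_mulVec_mulVec]
  choose c hc using hc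
  have key : ∀ (p r : ι → F) (hp : Q p = 0) (hp0 : p ≠ 0) (hr : Q r = 0) (hr0 : r ≠ 0),
      (polar (⇑Q)) p r ≠ 0 → c p hp hp0 = c r hr hr0 := by
    intro p r hp hp0 hr hr0 hne
    have h1 := hc p hp hp0 r
    have h3 := hc r hr hr0 p
    rw [polar_comm (⇑Q) p r, polar_comm (⇑Q) ((g : Matrix ι ι F) *ᵥ p), h1] at h3
    refine mul_right_cancel₀ (fun h => hne ?_) h3
    rw [polar_comm, h1, h, mul_zero]
  have orth : ∀ (p r : ι → F) (hp : Q p = 0) (hp0 : p ≠ 0) (hr : Q r = 0) (hr0 : r ≠ 0),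
      (polar (⇑Q)) p r = 0 → c p hp hp0 = c r hr hr0 := by
    intro p r hp hp0 hr hr0 h
    obtain ⟨e, he, hep, her⟩ := exists_common hQ hn h2 hp hp0 hr0 h
    have he0 : e ≠ 0 := fun h => hep (by rw [h, polar_zero_left])
    exact (key p e hp hp0 he he0 (by rwa [polar_comm])).trans (key e r he he0 hr hr0 her)
  obtain ⟨p₀, hp00, hp₀, -⟩ := exists_singular hQ hn h2 (![] : Fin 0 → ι → F) (by omega)
  set l := c p₀ hp₀ hp00
  have all : ∀ p, Q p = 0 → ∀ x,
      (polar (⇑Q)) x p = l * (polar (⇑Q)) ((g : Matrix ι ι F) *ᵥ x) ((g : Matrix ι ι F) *ᵥ p) := by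
    intro p hp x
    by_cases hp0 : p = 0
    · simp [hp0, mulVec_zero]
    obtain ⟨r, hr0, hr, hrp⟩ := exists_singular hQ hn h2 ![p, p₀] (by omega)
    rw [hc p hp hp0 x, (orth p r hp hp0 hr hr0 (by rw [polar_comm]; exact hrp 0)).trans
      (orth r p₀ hr hr0 hp₀ hp00 (hrp 1))]
  have hall : ∀ x y, (polar (⇑Q)) x y = l * (polar (⇑Q)) ((g : Matrix ι ι F) *ᵥ x) ((g : Matrix ι ι F) *ᵥ y) := by
    intro x y
    by_cases hy : y = 0
    · simp [hy, mulVec_zero]
    obtain ⟨p, hp, -, hpy⟩ := exists_singular_nonorth hQ hn h2 (e := 0) (y := y) (by simpa using hy)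
    obtain ⟨t, ht⟩ := exists_shift hQ hn h2 (d := y) hp (by rwa [polar_comm])
    have e1 := all _ ht x
    have e2 := all p hp x
    simp only [mulVec_add, mulVec_smul, polar_add_right, polar_smul_right, smul_eq_mul] at e1
    linear_combination e1 - t * e2
  have hl : l ≠ 0 := fun h => by
    obtain ⟨z, hz, -⟩ := exists_dual_vec (S := ⊥) hQ (e := p₀) (by simpa using hp00)
    rw [hall, h, zero_mul] at hz
    exact zero_ne_one hz
  refine hg ⟨(Units.mk0 l hl)⁻¹, fun v => ?_⟩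
  have h3 := hall v v
  rw [polar_self_eq, polar_self_eq, mul_left_comm] at h3
  rw [Units.val_inv_eq_inv_val, Units.val_mk0, mul_left_cancel₀ h2 h3, ← mul_assoc,
    inv_mul_cancel₀ hl, one_mul]

variable {M : Subgroup (GL ι F)}
variable (hseM : ∀ u z, Q u = 0 → (polar (⇑Q)) z u = 0 → se Q u z ∈ M)

include hseM in
theorem exists_move {a d : ι → F} (ha : a ≠ 0) (hd : d ≠ 0) (haQ : Q a = 0) (hdQ : Q d = 0) :
    ∃ k ∈ M, k ∈ isom (polar (⇑Q)) ∧ (k : Matrix ι ι F) *ᵥ a = d := by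
  obtain ⟨g, hg, hga⟩ := exists_eich_map_of_form_eq hQ (by simp; omega) ha hd (by rw [haQ, hdQ])
  have h : ∀ g ∈ eichGroup Q, ∃ k ∈ M ⊓ isom (polar (⇑Q)), ∀ x, (k : Matrix ι ι F) *ᵥ x = g.1 x := by
    intro g hg
    refine Subgroup.closure_induction ?_ ?_ ?_ ?_ hg
    · rintro _ ⟨u, z, hu, hz, rfl⟩
      have hz' : (polar (⇑Q)) z u = 0 := by rw [polar_comm]; exact hz
      refine ⟨_, ⟨hseM u z hu hz', se_isom hu hz'⟩, fun x => ?_⟩
      rw [se_mulVec hu hz', eich_apply hu hz, polar_comm (⇑Q) u x, polar_comm (⇑Q) z x]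
    · exact ⟨1, one_mem _, fun x => by simp⟩
    · rintro x y - - ⟨k, hk, hkx⟩ ⟨l, hl, hly⟩
      exact ⟨k * l, mul_mem hk hl, fun v => by
        rw [Units.val_mul, ← mulVec_mulVec, hly, hkx, coe_mul_apply]⟩
    · rintro x - ⟨k, hk, hkx⟩
      refine ⟨k⁻¹, inv_mem hk, fun v => mulVec_injective k ?_⟩
      show _ *ᵥ _ = _ *ᵥ _
      rw [mulVec_inv_mulVec, hkx, coe_apply_inv_apply]
  obtain ⟨k, hk, hkx⟩ := h g hg
  exact ⟨k, hk.1, hk.2, by rw [hkx, hga]⟩

include hseM in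
/-- All multiples of one singular transvection. -/
theorem exists_centre {g : GL ι F} (hgM : g ∈ M) (hg : g ∉ Geo.quadSimilarityGroup (⇑Q)) :
    ∃ a, Q a = 0 ∧ a ≠ 0 ∧ ∀ r : F, tv (r • a) (rep (polar (⇑Q)) a) ∈ M := by
  classical
  have hb := bil Q
  have hnd : Geo.IsNondegenerateForm (polar (⇑Q)) := fun v hv => by
    obtain ⟨z, hz, -⟩ := exists_dual_vec (S := ⊥) hQ (e := v) (by simpa using hv)
    exact ⟨⟨z, by rw [hz]; exact one_ne_zero⟩, z, by rw [polar_comm, hz]; exact one_ne_zero⟩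
  obtain ⟨p, P₁, hp, hp0, hP₁, hPn⟩ := exists_twisted hQ hn h2 hg
  set t := ((g⁻¹ : GL ι F) : Matrix ι ι F) *ᵥ P₁ with ht
  have hgt : (g : Matrix ι ι F) *ᵥ t = P₁ := mulVec_inv_mulVec g P₁
  have htp : t ∉ Submodule.span F {p} := fun hm => by
    obtain ⟨c, hc⟩ := Submodule.mem_span_singleton.mp hm
    exact hPn (Submodule.mem_span_singleton.mpr ⟨c, by rw [← hgt, ← hc, mulVec_smul]⟩)
  obtain ⟨q, hqp, hqn⟩ : ∃ q, (polar (⇑Q)) q p = 0 ∧ q ∉ Submodule.span F {p, t} := by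
    obtain ⟨q, hq, hqn⟩ := SetLike.not_le_iff_exists.mp
      fun h : LinearMap.ker (lmap hb p) ≤ Submodule.span F {p, t} => by
        have h1 := Submodule.finrank_mono h
        have h3 := LinearMap.finrank_range_add_finrank_ker (lmap hb p)
        have h4 := Submodule.finrank_le (LinearMap.range (lmap hb p))
        have h5 := finrank_span_finset_le_card (R := F) ({p, t} : Finset (ι → F))
        have h6 := Finset.card_le_two (a := p) (b := t)
        rw [Finset.coe_pair] at h5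
        simp [Set.finrank] at h3 h4 h5
        omega
    exact ⟨q, hq, hqn⟩
  obtain ⟨P₂, hP₂'⟩ := exists_rep hb hnd (rep (polar (⇑Q)) q ᵥ* ((g⁻¹ : GL ι F) : Matrix ι ι F))
  have hP₂ : ∀ x, (polar (⇑Q)) x P₂ = (polar (⇑Q)) (((g⁻¹ : GL ι F) : Matrix ι ι F) *ᵥ x) q := fun x => by
    rw [← rep_dot hb, hP₂', ← dotProduct_mulVec, rep_dot hb]
  set u := (g : Matrix ι ι F) *ᵥ p with hu
  set w := (g : Matrix ι ι F) *ᵥ q with hw
  have hu0 : u ≠ 0 := mulVec_ne_zero g hp0
  have hwu : w ∉ Submodule.span F {u} := fun hm => by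
    obtain ⟨c, hc⟩ := Submodule.mem_span_singleton.mp hm
    refine hqn (Submodule.mem_span_pair.mpr ⟨c, 0, mulVec_injective g ?_⟩)
    show _ *ᵥ _ = _ *ᵥ _
    rw [zero_smul, add_zero, mulVec_smul, ← hu, hc]
  have hPuw : P₁ ∉ Submodule.span F {u, w} := fun hm => by
    obtain ⟨α, β, h⟩ := Submodule.mem_span_pair.mp hm
    have h' : t = α • p + β • q := by
      rw [ht, ← h, mulVec_add, mulVec_smul, mulVec_smul, hu, hw, inv_mulVec_mulVec,
        inv_mulVec_mulVec]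
    by_cases hβ : β = 0
    · exact htp (Submodule.mem_span_singleton.mpr ⟨α, by rw [h', hβ, zero_smul, add_zero]⟩)
    refine hqn (Submodule.mem_span_pair.mpr ⟨-α / β, β⁻¹, ?_⟩)
    rw [h', smul_add, smul_smul, smul_smul, inv_mul_cancel₀ hβ, one_smul, div_eq_inv_mul,
      ← add_assoc, ← add_smul, mul_neg, neg_add_cancel, zero_smul, zero_add]
  obtain ⟨b, hbP, hbS⟩ := exists_dual_vec hQ hPuw
  have hbu : (polar (⇑Q)) b u = 0 := hbS u (Submodule.subset_span (by simp))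
  have hbw : (polar (⇑Q)) b w = 0 := hbS w (Submodule.subset_span (by simp))
  obtain ⟨zw, hzw, hzwS⟩ := exists_dual_vec hQ hwu
  obtain ⟨zu, hzu, -⟩ := exists_dual_vec (S := ⊥) hQ (e := u) (by simpa using hu0)
  obtain ⟨a, ha0, ha, hap⟩ := exists_singular hQ hn h2 ![u, w, P₁, P₂, b, zu, zw] (by omega)
  have hau : (polar (⇑Q)) a u = 0 := hap 0
  have haw : (polar (⇑Q)) a w = 0 := hap 1
  have hba : (polar (⇑Q)) b a = 0 := by rw [polar_comm]; exact hap 4
  have haa : (polar (⇑Q)) a a = 0 := by rw [polar_self_eq, ha, mul_zero]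
  -- the conjugated root element
  set h' := g * se Q p q * g⁻¹ with hh'
  have hh'M : h' ∈ M := mul_mem (mul_mem hgM (hseM p q hp hqp)) (inv_mem hgM)
  have hh'x : ∀ x, (h' : Matrix ι ι F) *ᵥ x =
      x + (polar (⇑Q)) x P₁ • w - (polar (⇑Q)) x P₂ • u - (Q q * (polar (⇑Q)) x P₁) • u := by
    intro x
    rw [hh', Units.val_mul, Units.val_mul, ← mulVec_mulVec, ← mulVec_mulVec, se_mulVec hp hqp,
      ← hP₁, ← hP₂, mulVec_sub, mulVec_sub, mulVec_add, mulVec_inv_mulVec, mulVec_smul,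
      mulVec_smul, mulVec_smul]
  clear_value h'
  set δ := w - ((polar (⇑Q)) b P₂ + Q q) • u with hδ
  have hh'b : (h' : Matrix ι ι F) *ᵥ b = b + δ := by
    rw [hh'x, hbP, hδ]
    module
  have hδa : (polar (⇑Q)) δ a = 0 := by
    rw [hδ, polar_sub_left, polar_smul_left, polar_comm (⇑Q) w a, haw, polar_comm (⇑Q) u a, hau]
    simp
  have key : h' * se Q a b = tv δ (rep (polar (⇑Q)) a) * se Q a b * h' := gl_ext fun x => by
    have hT : rep (polar (⇑Q)) a ⬝ᵥ δ = 0 := by rw [rep_dot hb, hδa]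
    set y := (h' : Matrix ι ι F) *ᵥ x with hy
    have hya : (polar (⇑Q)) y a = (polar (⇑Q)) x a := by
      rw [hy, hh'x]
      simp only [polar_sub_left, polar_add_left, polar_smul_left, polar_comm (⇑Q) w a, haw,
        polar_comm (⇑Q) u a, hau, smul_zero, add_zero, sub_zero]
    have hyb : (polar (⇑Q)) y b = (polar (⇑Q)) x b := by
      rw [hy, hh'x]
      simp only [polar_sub_left, polar_add_left, polar_smul_left, polar_comm (⇑Q) w b, hbw,
        polar_comm (⇑Q) u b, hbu, smul_zero, add_zero, sub_zero]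
    have hh'a : (h' : Matrix ι ι F) *ᵥ a = a := by
      rw [hh'x, show (polar (⇑Q)) a P₁ = 0 from hap 2, show (polar (⇑Q)) a P₂ = 0 from hap 3]
      module
    rw [Units.val_mul, Units.val_mul, Units.val_mul, ← mulVec_mulVec, ← mulVec_mulVec,
      ← mulVec_mulVec, ← hy, se_mulVec ha hba, se_mulVec ha hba, tv_mulVec hT, rep_dot hb,
      hya, hyb, mulVec_sub, mulVec_sub, mulVec_add, mulVec_smul, mulVec_smul, mulVec_smul, hh'a,
      hh'b, ← hy]
    simp only [polar_sub_left, polar_add_left, polar_smul_left, hba, haa, hya, smul_zero,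
      add_zero, sub_zero]
    module
  have hδM : tv δ (rep (polar (⇑Q)) a) ∈ M := by
    rw [show tv δ (rep (polar (⇑Q)) a) = h' * se Q a b * h'⁻¹ * (se Q a b)⁻¹ by rw [key]; group]
    exact mul_mem (mul_mem (mul_mem hh'M (hseM a b ha hba)) (inv_mem hh'M))
      (inv_mem (hseM a b ha hba))
  have hδn : δ ∉ Submodule.span F {a} := fun hm => by
    obtain ⟨c, hc⟩ := Submodule.mem_span_singleton.mp hm
    have h3 : (polar (⇑Q)) δ zw = 0 := by
      rw [← hc, polar_smul_left, show (polar (⇑Q)) a zw = 0 from hap 6, smul_zero]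
    rw [hδ, polar_sub_left, polar_smul_left, polar_comm (⇑Q) w zw, hzw, polar_comm (⇑Q) u zw,
      hzwS u (Submodule.mem_span_singleton_self u), smul_zero, sub_zero] at h3
    exact one_ne_zero h3
  refine ⟨a, ha, ha0, fun r => ?_⟩
  obtain ⟨c, hcδ, hca'⟩ := exists_dual_vec hQ hδn
  have hca : (polar (⇑Q)) (r • c) a = 0 := by
    rw [polar_smul_left, hca' a (Submodule.mem_span_singleton_self a), smul_zero]
  have h3 := mul_mem (mul_mem (hseM a _ ha hca) hδM) (inv_mem (hseM a _ ha hca))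
  rw [tv_rep_conj (se_isom ha hca) hδa, se_mulVec ha hca, se_mulVec ha hca, haa, hδa,
    polar_comm (⇑Q) a (r • c), hca] at h3
  have h4 : δ - r • a ∈ centreSet M (rep (polar (⇑Q)) a) :=
    ⟨by rw [dotProduct_sub, rep_dot hb, rep_dot hb, hδa, polar_smul_left, haa]; simp, by
      convert! h3 using 2
      · rw [polar_comm, polar_smul_left, hcδ]
        simp
      · simp⟩
  have h5 : δ ∈ centreSet M (rep (polar (⇑Q)) a) := ⟨by rw [rep_dot hb, hδa], hδM⟩
  have h6 := sub_mem h5 h4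
  rw [sub_sub_cancel] at h6
  exact h6.2

include hseM in
theorem specialLinear_le {g : GL ι F} (hgM : g ∈ M) (hg : g ∉ Geo.quadSimilarityGroup (⇑Q)) :
    Geo.specialLinear ι F ≤ M := by
  have hb := bil Q
  obtain ⟨a₀, ha₀, ha00, hM₀⟩ := exists_centre hQ hn h2 hseM hgM hg
  have hC : ∀ v, Q v = 0 → ∀ r : F, tv (r • v) (rep (polar (⇑Q)) v) ∈ M := by
    intro v hv r
    by_cases hv0 : v = 0
    · simp [hv0, one_mem]
    obtain ⟨k, hk, hki, hka⟩ := exists_move hQ hn h2 hseM ha00 hv0 ha₀ hv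
    have := mul_mem (mul_mem hk (hM₀ r)) (inv_mem hk)
    rwa [tv_rep_conj hki (by rw [polar_smul_left, polar_self_eq, ha₀]; simp), mulVec_smul, hka]
      at this
  -- all functionals at a singular centre
  have hD : ∀ b, Q b = 0 → ∀ y, (polar (⇑Q)) b y = 0 → tv b (rep (polar (⇑Q)) y) ∈ M := by
    intro b hb' y hby
    by_cases hb0 : b = 0
    · simp [hb0, one_mem]
    obtain ⟨a, ha, hba, -⟩ := exists_partner (S := ⊥) hQ (by simpa using hb0) hb'
      fun x hx => by rw [(Submodule.mem_bot F).mp hx, polar_zero_right]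
    have hab : (polar (⇑Q)) a b = 1 := by rw [polar_comm]; exact hba
    have haa : (polar (⇑Q)) a a = 0 := by rw [polar_self_eq, ha, mul_zero]
    have hbb : (polar (⇑Q)) b b = 0 := by rw [polar_self_eq, hb', mul_zero]
    have hX : ∀ (v : ι → F) (r : F), Q v = 0 → ∀ x,
        (tv (r • v) (rep (polar (⇑Q)) v) : Matrix ι ι F) *ᵥ x = x + (r * (polar (⇑Q)) x v) • v := fun v r hv x => by
      rw [tv_mulVec (by rw [rep_dot hb, polar_smul_left, polar_self_eq, hv]; simp), rep_dot hb,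
        smul_smul, mul_comm]
    set S := tv ((1 : F) • a) (rep (polar (⇑Q)) a) * tv ((-1 : F) • b) (rep (polar (⇑Q)) b) *
      tv ((1 : F) • a) (rep (polar (⇑Q)) a) with hS
    have hSM : S ∈ M := mul_mem (mul_mem (hC a ha 1) (hC b hb' (-1))) (hC a ha 1)
    have hSx : ∀ x, (S : Matrix ι ι F) *ᵥ x =
        x + ((polar (⇑Q)) x a - (polar (⇑Q)) x b) • a - ((polar (⇑Q)) x b + (polar (⇑Q)) x a) • b := by
      intro x
      rw [hS, Units.val_mul, Units.val_mul, ← mulVec_mulVec, ← mulVec_mulVec, hX a 1 ha,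
        hX b (-1) hb', hX a 1 ha]
      simp only [polar_add_left, polar_smul_left, haa, hab, hba, hbb, smul_eq_mul]
      module
    -- `S` applied to root elements
    have hc : ∀ c, (polar (⇑Q)) c a = 0 → (polar (⇑Q)) c b = 0 → tv ((2 : F) • b) (rep (polar (⇑Q)) c) ∈ M := by
      intro c hca hcb
      have hnb : (polar (⇑Q)) (-c) b = 0 := by rw [polar_neg_left, hcb, neg_zero]
      have hW := hC b hb' (2 * Q c)
      have hK := mul_mem (mul_mem (mul_mem (mul_mem hSM (hseM a c ha hca)) (inv_mem hSM))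
        (hseM b (-c) hb' hnb)) hW
      have hac : (polar (⇑Q)) a c = 0 := by rw [polar_comm]; exact hca
      have hbc : (polar (⇑Q)) b c = 0 := by rw [polar_comm]; exact hcb
      have hT : rep (polar (⇑Q)) c ⬝ᵥ ((2 : F) • b) = 0 := by
        rw [rep_dot hb, polar_smul_left, hbc, smul_zero]
      convert! hK using 1
      refine gl_ext fun x => ?_
      -- undo `S`
      set x' := x + (2 * Q c * (polar (⇑Q)) x b) • b with hx'
      set z := (se Q b (-c) : Matrix ι ι F) *ᵥ x' with hz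
      set y := z - ((polar (⇑Q)) z a + (polar (⇑Q)) z b) • a + ((polar (⇑Q)) z b - (polar (⇑Q)) z a) • b with hy
      have hSy : (S : Matrix ι ι F) *ᵥ y = z := by
        rw [hSx, hy]
        simp only [polar_add_left, polar_sub_left, polar_smul_left, haa, hab, hba, hbb,
          smul_eq_mul]
        module
      have hyS : ((S⁻¹ : GL ι F) : Matrix ι ι F) *ᵥ z = y := by
        rw [← hSy, inv_mulVec_mulVec]
      rw [Units.val_mul, Units.val_mul, Units.val_mul, Units.val_mul, ← mulVec_mulVec,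
        ← mulVec_mulVec, ← mulVec_mulVec, ← mulVec_mulVec, hX b (2 * Q c) hb', ← hx', ← hz, hyS,
        se_mulVec ha hca, hSx, tv_mulVec hT, rep_dot hb, hy, hz, se_mulVec hb' hnb, hx']
      have hQc : Q (-c) = Q c := QuadraticMap.map_neg Q c
      simp only [polar_add_left, polar_sub_left, polar_smul_left, polar_neg_left, polar_neg_right,
        haa, hab, hba, hbb, hca, hcb, hac, hbc, hQc, polar_self_eq, hb', ha, smul_eq_mul,
        smul_neg, neg_smul]
      match_scalars <;> ring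
    have hcb' : y - (polar (⇑Q)) y a • b ∈ (lmap hb a).ker ∧ (polar (⇑Q)) (y - (polar (⇑Q)) y a • b) b = 0 := by
      constructor
      · simp [polar_sub_left, polar_smul_left, hba]
      · rw [polar_sub_left, polar_smul_left, polar_comm (⇑Q) y b, hby, hbb]; simp
    set c := y - (polar (⇑Q)) y a • b with hcd
    have h1 := hc ((2 : F)⁻¹ • c) (by rw [polar_smul_left, show (polar (⇑Q)) c a = 0 from hcb'.1, smul_zero])
      (by rw [polar_smul_left, hcb'.2, smul_zero])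
    have hbc : rep (polar (⇑Q)) ((2 : F)⁻¹ • c) ⬝ᵥ b = 0 := by
      rw [rep_dot hb, polar_smul_right, polar_comm, hcb'.2, smul_zero]
    rw [tv_smul_comm _ hbc, rep_smul hb, smul_smul, mul_inv_cancel₀ h2, one_smul] at h1
    have h3 := hC b hb' ((polar (⇑Q)) y a)
    rw [tv_smul_comm _ (by rw [rep_dot hb, hbb]), ← rep_smul hb] at h3
    have h4 := mul_mem h1 h3
    rw [tv_mul_right (by rw [rep_dot hb, polar_comm, hcb'.2])
      (by rw [rep_dot hb, polar_smul_right, hbb, smul_zero]), ← rep_add hb, hcd,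
      sub_add_cancel] at h4
    exact h4
  refine specialLinear_le_of_tv_mem fun v φ hφ => ?_
  have hnd : Geo.IsNondegenerateForm (polar (⇑Q)) := fun v hv => by
    obtain ⟨z, hz, -⟩ := exists_dual_vec (S := ⊥) hQ (e := v) (by simpa using hv)
    exact ⟨⟨z, by rw [hz]; exact one_ne_zero⟩, z, by rw [polar_comm, hz]; exact one_ne_zero⟩
  obtain ⟨y, rfl⟩ := exists_rep hb hnd φ
  rw [rep_dot hb] at hφ
  suffices v ∈ centreSet M (rep (polar (⇑Q)) y) from this.2
  have single : ∀ b, Q b = 0 → (polar (⇑Q)) b y = 0 → b ∈ centreSet M (rep (polar (⇑Q)) y) := fun b hb' hby =>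
    ⟨by rw [rep_dot hb, hby], hD b hb' y hby⟩
  by_cases hvy : v ∈ Submodule.span F {y}
  · obtain ⟨c, rfl⟩ := Submodule.mem_span_singleton.mp hvy
    by_cases hc : c = 0
    · rw [hc, zero_smul]; exact zero_mem _
    rw [polar_smul_left, smul_eq_mul, polar_self_eq] at hφ
    have hy : Q y = 0 := by simpa [hc, h2] using hφ
    exact single _ (by rw [form_smul, hy, mul_zero])
      (by rw [polar_smul_left, polar_self_eq, hy]; simp)
  obtain ⟨p, hp, hpy, hpv⟩ := exists_singular_nonorth hQ hn h2 hvy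
  obtain ⟨t, ht⟩ := exists_shift hQ hn h2 (d := v) hp (by rwa [polar_comm])
  have h := sub_mem (single _ ht (by rw [polar_add_left, polar_smul_left, hφ, hpy]; simp))
    (single (t • p) (by rw [form_smul, hp, mul_zero]) (by rw [polar_smul_left, hpy, smul_zero]))
  rwa [add_sub_cancel_right] at h

end Cfsg.Agent.Similitude
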