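import Mathlib

/-!
The Singer group of a finite field extension, its normaliser and its intersections with conjugates.
-/

set_option autoImplicit false
set_option linter.unusedSectionVars false
set_option linter.style.haveILetI false

namespace Cfsg.Agent.MaxSub

variable {F K : Type*} [Field F] [Fintype F] [Field K] [Fintype K] [Algebra F K]

/-- Multiplications by non-zero elements, as a homomorphism to the units of the endomorphism ring. -/
abbrev singerHom (F K : Type*) [Field F] [Field K] [Algebra F K] : Kˣ →* (Module.End F K)ˣ :=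
  Units.map ((Algebra.lmul F K : K →ₐ[F] Module.End F K) : K →* Module.End F K)

theorem singerHom_apply (x : Kˣ) (z : K) : ((singerHom F K x : (Module.End F K)ˣ) : Module.End F K) z = x * z := rfl

theorem singerHom_injective : Function.Injective (singerHom F K) := by
  intro x y h
  refine Units.ext ?_
  have := congrArg (fun u : (Module.End F K)ˣ => (u : Module.End F K) 1) h
  simpa [singerHom_apply] using this

/-- Elements `x` of the field for which `g` conjugates some multiplication to multiplication by `x`. -/
def intertwined (g : (Module.End F K)ˣ) : Subalgebra F K where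
  carrier := {x | ∃ y : K, ∀ z, x * (g : Module.End F K) z = (g : Module.End F K) (y * z)}
  mul_mem' := by
    rintro a b ⟨c, hc⟩ ⟨d, hd⟩
    exact ⟨c * d, fun z => by rw [mul_assoc, hd, hc, mul_assoc]⟩
  add_mem' := by
    rintro a b ⟨c, hc⟩ ⟨d, hd⟩
    exact ⟨c + d, fun z => by rw [add_mul, hc, hd, add_mul, map_add]⟩
  algebraMap_mem' r := ⟨algebraMap F K r, fun z => by
    rw [← Algebra.smul_def, ← Algebra.smul_def, map_smul]⟩

theorem natCard_normalizer_singer :
    Nat.card (Subgroup.normalizer ((singerHom F K).range : Set (Module.End F K)ˣ)) =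
      Nat.card (K ≃ₐ[F] K) * Nat.card Kˣ := by
  classical
  haveI : Finite (Module.End F K) := Module.finite_of_finite F
  set M := (singerHom F K).range
  let β : (K ≃ₐ[F] K) × Kˣ → (Module.End F K)ˣ := fun p =>
    singerHom F K p.2 * ⟨p.1.toLinearMap, p.1.symm.toLinearMap, LinearMap.ext fun z => p.1.apply_symm_apply z,
      LinearMap.ext fun z => p.1.symm_apply_apply z⟩
  have hβ : ∀ p z, (β p : Module.End F K) z = p.2 * p.1 z := fun p z => rfl
  have hinj : Function.Injective β := by
    rintro ⟨φ, c⟩ ⟨ψ, d⟩ h
    have h' : ∀ z, (c : K) * φ z = d * ψ z := fun z => by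
      simpa [hβ] using congrArg (fun u : (Module.End F K)ˣ => (u : Module.End F K) z) h
    obtain rfl : c = d := Units.ext (by simpa using h' 1)
    obtain rfl : φ = ψ := AlgEquiv.ext fun z => mul_left_cancel₀ c.ne_zero (h' z)
    rfl
  have hrange : Set.range β = (Subgroup.normalizer (M : Set (Module.End F K)ˣ) : Set (Module.End F K)ˣ) := by
    ext g
    constructor
    · rintro ⟨⟨φ, c⟩, rfl⟩
      refine Subgroup.mem_normalizer_fintype ?_
      rintro _ ⟨x, rfl⟩
      refine ⟨Units.map (φ : K →* K) x, ?_⟩
      rw [eq_mul_inv_iff_mul_eq]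
      refine Units.ext (LinearMap.ext fun z => ?_)
      simp only [Units.val_mul, Module.End.mul_apply, hβ, singerHom_apply]
      show φ (x : K) * ((c : K) * φ z) = (c : K) * φ ((x : K) * z)
      rw [map_mul]
      ring
    · intro hg
      set T : Module.End F K := (g : Module.End F K) with hT
      have h1 : T 1 ≠ 0 := by
        intro h0
        have := congrArg ((g⁻¹ : (Module.End F K)ˣ) : Module.End F K) h0
        rw [map_zero, hT, ← Module.End.mul_apply, ← Units.val_mul, inv_mul_cancel] at this
        exact one_ne_zero this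
      have hmul : ∀ x z, T (x * z) * T 1 = T x * T z := by
        intro x z
        rcases eq_or_ne x 0 with rfl | hx
        · simp
        obtain ⟨y, hy⟩ := (Subgroup.mem_normalizer_iff.mp hg _).mp ⟨Units.mk0 x hx, rfl⟩
        have hy' : ∀ w, T (x * w) = y * T w := fun w => by
          have h2 : singerHom F K y * g = g * singerHom F K (Units.mk0 x hx) := by
            rw [hy]; group
          simpa [singerHom_apply] using
            (congrArg (fun u : (Module.End F K)ˣ => (u : Module.End F K) w) h2).symm
        have h3 := hy' 1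
        rw [mul_one] at h3
        rw [hy', h3]
        ring
      let φ₀ : K →ₗ[F] K := (Algebra.lmul F K (T 1)⁻¹).comp T
      have hφ0 : ∀ z, φ₀ z = (T 1)⁻¹ * T z := fun z => rfl
      let φ : K →ₐ[F] K := AlgHom.ofLinearMap φ₀ (by rw [hφ0, inv_mul_cancel₀ h1]) (fun x z => by
        simp only [hφ0]
        have := hmul x z
        field_simp
        linear_combination this)
      refine ⟨⟨AlgEquiv.ofBijective φ (Algebra.IsAlgebraic.algHom_bijective φ), Units.mk0 _ h1⟩,
        Units.ext (LinearMap.ext fun z => ?_)⟩
      rw [hβ]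
      show T 1 * φ₀ z = T z
      rw [hφ0]
      field_simp
  have h2 : Nat.card (Set.range β) = Nat.card ((K ≃ₐ[F] K) × Kˣ) :=
    Nat.card_range_of_injective hinj
  rw [hrange, Nat.card_prod] at h2
  exact h2

theorem exists_divisor_intersection (n : ℕ) (hdim : Module.finrank F K = n) (g : (Module.End F K)ˣ)
    (hg : (singerHom F K).range.map (MulAut.conj g).toMonoidHom ≠ (singerHom F K).range) :
    ∃ r : ℕ, 1 ≤ r ∧ r ∣ n ∧ r < n ∧
      Nat.card ↥((singerHom F K).range.map (MulAut.conj g).toMonoidHom ⊓ (singerHom F K).range) ∣
        Fintype.card F ^ r - 1 := by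
  classical
  haveI : Finite (Module.End F K) := Module.finite_of_finite F
  set M := (singerHom F K).range
  set L : IntermediateField F K :=
    (intertwined g).toIntermediateField (fun x hx => (intertwined g).inv_mem_of_algebraic (x := ⟨x, hx⟩)
      (Algebra.IsAlgebraic.isAlgebraic x))
  have hL : L ≠ ⊤ := by
    intro htop
    apply hg
    refine (Subgroup.eq_of_le_of_card_ge ?_ ?_).symm
    · rintro _ ⟨x, rfl⟩
      obtain ⟨y, hy⟩ : (x : K) ∈ L := htop ▸ trivial
      have hy0 : y ≠ 0 := by
        intro h0
        have h2 := hy (((g⁻¹ : (Module.End F K)ˣ) : Module.End F K) 1)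
        rw [h0, zero_mul, map_zero, ← Module.End.mul_apply, ← Units.val_mul, mul_inv_cancel, Units.val_one,
          Module.End.one_apply, mul_one] at h2
        exact x.ne_zero h2
      refine ⟨singerHom F K (Units.mk0 y hy0), ⟨_, rfl⟩, ?_⟩
      simp only [MulEquiv.coe_toMonoidHom, MulAut.conj_apply]
      rw [mul_inv_eq_iff_eq_mul]
      exact Units.ext (LinearMap.ext fun z => (hy z).symm)
    · rw [Subgroup.card_map_of_injective (MulAut.conj g).injective]
  refine ⟨Module.finrank F L, Module.finrank_pos, ?_, ?_, ?_⟩
  · exact ⟨Module.finrank L K, by rw [← hdim]; exact (Module.finrank_mul_finrank F L K).symm⟩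
  · rw [← hdim]
    refine lt_of_le_of_ne (Submodule.finrank_le L.toSubmodule) fun h => hL ?_
    exact IntermediateField.eq_of_le_of_finrank_le le_top (by rw [IntermediateField.finrank_top', h])
  · set I := M.map (MulAut.conj g).toMonoidHom ⊓ M
    have h1 : Nat.card I = Nat.card (I.comap (singerHom F K)) := by
      rw [← Subgroup.card_map_of_injective (singerHom_injective (F := F) (K := K)),
        Subgroup.map_comap_eq_self inf_le_right]
    have h2 : I.comap (singerHom F K) ≤ (Units.map (L.val : L →* K)).range := by
      rintro x ⟨⟨_, ⟨y, rfl⟩, hy⟩, -⟩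
      have hxL : (x : K) ∈ L := ⟨y, fun z => by
        simp only [MulEquiv.coe_toMonoidHom, MulAut.conj_apply] at hy
        rw [mul_inv_eq_iff_eq_mul] at hy
        exact (congrArg (fun u : (Module.End F K)ˣ => (u : Module.End F K) z) hy).symm⟩
      exact ⟨Units.mk0 ⟨x, hxL⟩ (fun h => x.ne_zero (congrArg Subtype.val h)), Units.ext rfl⟩
    rw [h1]
    refine (Subgroup.card_dvd_of_le h2).trans ?_
    rw [MonoidHom.range_eq_map, Subgroup.card_map_of_injective
        (Units.map_injective (f := (L.val : L →* K)) L.val.injective),
      Subgroup.card_top, Nat.card_units, Module.natCard_eq_pow_finrank (K := F), Nat.card_eq_fintype_card]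

end Cfsg.Agent.MaxSub
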