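import Cfsg.Agent.MaxSub.SubfieldTwo
import Cfsg.Agent.Lib.Reflections.OddIndex

/-!
The orthogonal subfield group is maximal in `SU`, odd characteristic (helper24).
-/

set_option autoImplicit false
set_option linter.unusedSectionVars false

namespace Cfsg.Agent.SubfieldOrth

open Matrix Cfsg.Agent.MaxSub Cfsg.Agent.HermStab Cfsg.Agent.SubfieldTwo

variable {ι : Type} [Fintype ι] [DecidableEq ι] {F : Type*} [Field F] [Finite F]
variable {σ : F ≃+* F} {f : (ι → F) → (ι → F) → F}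

section Qe

variable (hf : Geo.IsUnitaryForm σ f)
include hf

theorem qe_zero (a : ι → F) (ha : f a a = 0) (b : F) : qe f a 0 b = ut f a b := gl_ext fun x => by
  rw [qe_mulVec hf ha (hzero_left hf a), ut_mulVec hf ha, hzero_right hf]
  module

theorem qe_mul {a z w : ι → F} (ha : f a a = 0) (hz : f z a = 0) (hw : f w a = 0) (b c : F) :
    qe f a z b * qe f a w c = qe f a (z + w) (b + c - f w z) := gl_ext fun x => by
  have haz := hswap_zero hf hz
  rw [Units.val_mul, ← mulVec_mulVec, qe_mulVec hf ha hw, qe_mulVec hf ha hz,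
    qe_mulVec hf ha (by rw [hf.add_left, hz, hw, add_zero])]
  simp only [hf.add_left, hf.smul_left, hsub_left hf, hadd_right hf, ha, hw, haz, mul_zero,
    add_zero, sub_zero]
  module

theorem qe_inv {a z : ι → F} (ha : f a a = 0) (hz : f z a = 0) {b : F}
    (hb : b + σ b = -f z z) : (qe f a z b)⁻¹ = qe f a (-z) (σ b) := by
  have hneg : f (-z) a = 0 := by rw [← neg_one_smul F z, hf.smul_left, hz, mul_zero]
  refine inv_eq_of_mul_eq_one_right ?_
  rw [qe_mul hf ha hz hneg, add_neg_cancel, hb, ← neg_one_smul F z, hf.smul_left,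
    neg_one_mul, sub_self, qe_zero hf a ha, ut, zero_smul, tv_zero_right]

theorem qe_conj {a z : ι → F} (ha : f a a = 0) (hz : f z a = 0) (b : F) {k : GL ι F}
    (hk : k ∈ isom f) :
    k * qe f a z b * k⁻¹ =
      qe f ((k : Matrix ι ι F) *ᵥ a) ((k : Matrix ι ι F) *ᵥ z) b := by
  rw [mul_inv_eq_iff_eq_mul]
  refine gl_ext fun x => ?_
  have hk' := mem_isom.mp hk
  rw [Units.val_mul, ← mulVec_mulVec, Units.val_mul, ← mulVec_mulVec, qe_mulVec hf ha hz,
    qe_mulVec hf (by rw [hk', ha]) (by rw [hk', hz]), hk', hk']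
  simp only [mulVec_add, mulVec_sub, mulVec_smul]

end Qe

/-- `z` occurs in the radical part of the stabiliser of `a` inside `M`. -/
def InA (σ : F ≃+* F) (f : (ι → F) → (ι → F) → F) (M : Subgroup (GL ι F)) (a z : ι → F) : Prop :=
  f z a = 0 ∧ ∃ b, b + σ b = -f z z ∧ qe f a z b ∈ M

variable {M : Subgroup (GL ι F)}

section InA

variable (hf : Geo.IsUnitaryForm σ f) {a : ι → F} (ha : f a a = 0)
include hf ha

theorem inA_add {z w : ι → F} (h : InA σ f M a z) (h' : InA σ f M a w) :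
    InA σ f M a (z + w) := by
  obtain ⟨hz, b, hb, hbM⟩ := h
  obtain ⟨hw, c, hc, hcM⟩ := h'
  refine ⟨by rw [hf.add_left, hz, hw, add_zero], b + c - f w z, ?_,
    qe_mul hf ha hz hw b c ▸ mul_mem hbM hcM⟩
  rw [map_sub, map_add, ← hf.herm z w, hf.add_left, hadd_right hf, hadd_right hf]
  linear_combination hb + hc

theorem inA_neg {z : ι → F} (h : InA σ f M a z) : InA σ f M a (-z) := by
  obtain ⟨hz, b, hb, hbM⟩ := h
  refine ⟨by rw [← neg_one_smul F z, hf.smul_left, hz, mul_zero], σ b, ?_,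
    qe_inv hf ha hz hb ▸ inv_mem hbM⟩
  rw [hf.involutive, ← neg_one_smul F z, hf.smul_left, hsmul_right hf, map_neg, map_one]
  linear_combination hb

theorem inA_sub {z w : ι → F} (h : InA σ f M a z) (h' : InA σ f M a w) :
    InA σ f M a (z - w) := by
  rw [sub_eq_add_neg]; exact inA_add hf ha h (inA_neg hf ha h')

theorem inA_skew {z : ι → F} (hz : f z a = 0) {b c : F} (hc : c + σ c = -f z z)
    (hbM : qe f a z b ∈ M) (hcM : qe f a z c ∈ M) : ut f a (b - c) ∈ M := by
  have hneg : f (-z) a = 0 := by rw [← neg_one_smul F z, hf.smul_left, hz, mul_zero]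
  have := mul_mem hbM (inv_mem hcM)
  rw [qe_inv hf ha hz hc, qe_mul hf ha hz hneg, add_neg_cancel, qe_zero hf a ha] at this
  convert! this using 2
  rw [← neg_one_smul F z, hf.smul_left]
  linear_combination -hc

end InA

/-! ### Rational vectors -/

variable {F₀ : Subfield F} {P : GL ι F} {ε : F}
variable (hf : Geo.IsUnitaryForm σ f) (hd : IsIndexTwo F₀ σ ε)
variable (hrat : ∀ x y, Rat F₀ P x → Rat F₀ P y → f x y ∈ F₀)
include hf hd hrat

theorem symm_rat {x y : ι → F} (hx : Rat F₀ P x) (hy : Rat F₀ P y) : f y x = f x y := by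
  rw [hf.herm y x]; exact (hd.mem_iff _).mp (hrat x y hx hy)

theorem split_zero {c d x : ι → F} (hc : Rat F₀ P c) (hd' : Rat F₀ P d) (hx : Rat F₀ P x)
    (h : f (c + ε • d) x = 0) : f c x = 0 ∧ f d x = 0 :=
  eq_zero_of_add hd (hrat c x hc hx) (hrat d x hd' hx) (by rwa [← hf.smul_left, ← hf.add_left])

theorem exists_rat_dual {k : ℕ} (p : Fin k → ι → F) (hp : ∀ i, Rat F₀ P (p i)) {y : ι → F}
    (hy : y ∉ Submodule.span F (Set.range p)) :
    ∃ z, Rat F₀ P z ∧ (∀ i, f z (p i) = 0) ∧ f z y ≠ 0 := by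
  obtain ⟨w, hw, hwp⟩ := exists_dual hf hy
  obtain ⟨c, d, hc, hd', rfl⟩ := exists_rat_split (P := P) hd w
  have h0 := fun i => split_zero hf hd hrat hc hd' (hp i) (hwp _ (Submodule.subset_span ⟨i, rfl⟩)).1
  by_cases h : f c y = 0
  · refine ⟨d, hd', fun i => (h0 i).2, fun h' => one_ne_zero (α := F) ?_⟩
    rw [← hw, hf.add_left, hf.smul_left, h, h', mul_zero, add_zero]
  · exact ⟨c, hc, fun i => (h0 i).1, h⟩

theorem exists_rat_orth {k : ℕ} (p : Fin k → ι → F) (hp : ∀ i, Rat F₀ P (p i))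
    (hk : k < Fintype.card ι) :
    ∃ z, Rat F₀ P z ∧ z ≠ 0 ∧ ∀ i, f z (p i) = 0 := by
  obtain ⟨y, -, hy⟩ := SetLike.not_le_iff_exists.mp
    fun h : (⊤ : Submodule F (ι → F)) ≤ Submodule.span F (Set.range p) => by
      have h1 := Submodule.finrank_mono h
      have h2 := finrank_range_le_card (R := F) p
      rw [Set.finrank] at h2
      simp at h1 h2
      omega
  obtain ⟨z, hz, hzp, hzy⟩ := exists_rat_dual hf hd hrat p hp hy
  exact ⟨z, hz, fun h => hzy (by rw [h, hzero_left hf]), hzp⟩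

variable (h2 : (2 : F) ≠ 0)
include h2

theorem exists_rat_singular {k : ℕ} (p : Fin k → ι → F) (hp : ∀ i, Rat F₀ P (p i))
    (hk : k + 3 ≤ Fintype.card ι) :
    ∃ v, Rat F₀ P v ∧ v ≠ 0 ∧ f v v = 0 ∧ ∀ i, f v (p i) = 0 := by
  haveI := Fintype.ofFinite F₀
  obtain ⟨x, hx, hx0, hxp⟩ := exists_rat_orth hf hd hrat p hp (by omega)
  by_cases hxx : f x x = 0
  · exact ⟨x, hx, hx0, hxx, hxp⟩
  obtain ⟨y, hy, hy0, hyp⟩ := exists_rat_orth hf hd hrat (Fin.cons x p)
    (Fin.cases (by simpa using hx) (by simpa using hp)) (by omega)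
  by_cases hyy : f y y = 0
  · exact ⟨y, hy, hy0, hyy, fun i => by simpa using hyp i.succ⟩
  have hyx : f y x = 0 := by simpa using hyp 0
  obtain ⟨z, hz, hz0, hzp⟩ := exists_rat_orth hf hd hrat (Fin.cons y (Fin.cons x p))
    (Fin.cases (by simpa using hy) (Fin.cases (by simpa using hx) (by simpa using hp))) (by omega)
  by_cases hzz : f z z = 0
  · exact ⟨z, hz, hz0, hzz, fun i => by simpa using hzp i.succ.succ⟩
  have hzy : f z y = 0 := by simpa using hzp 0
  have hzx : f z x = 0 := by simpa using hzp (Fin.succ 0)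
  obtain ⟨s, t, hst⟩ := Reflections.exists_sum_sq (F := F₀)
    (a := ⟨f x x, hrat x x hx hx⟩) (b := ⟨f y y, hrat y y hy hy⟩)
    (fun h => h2 (by simpa [map_ofNat] using congrArg F₀.subtype h))
    (fun h => hxx (congrArg Subtype.val h)) (fun h => hyy (congrArg Subtype.val h))
    (-⟨f z z, hrat z z hz hz⟩)
  have hst' : f x x * (s : F) ^ 2 + f y y * (t : F) ^ 2 = -f z z := by
    simpa using congrArg Subtype.val hst
  have hs := (hd.mem_iff _).mp s.2
  have ht := (hd.mem_iff _).mp t.2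
  have hxy := hswap_zero hf hyx
  have hxz := hswap_zero hf hzx
  have hyz := hswap_zero hf hzy
  refine ⟨(s : F) • x + (t : F) • y + z,
    rat_add (rat_add (rat_smul s.2 hx) (rat_smul t.2 hy)) hz, ?_, ?_, fun i => ?_⟩
  · intro h
    have h' := congrArg (fun w => f w z) h
    simp only [hf.add_left, hf.smul_left, hxz, hyz, mul_zero, zero_add, hzero_left hf] at h'
    exact hzz h'
  · simp only [hf.add_left, hf.smul_left, hadd_right hf, hsmul_right hf, hs, ht, hxy, hxz, hyz,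
      hyx, hzx, hzy]
    linear_combination hst'
  · simp only [hf.add_left, hf.smul_left, hxp i, show f y (p i) = 0 by simpa using hyp i.succ,
      show f z (p i) = 0 by simpa using hzp i.succ.succ, mul_zero, add_zero]

omit h2 in
theorem exists_sum_ne {a b : ι → F} {S : ι → F} {d₁ d₂ : ι → F} (h1 : Rat F₀ P d₁)
    (h1S : f d₁ S = 0) (h1a : f d₁ a ≠ 0) (h2' : Rat F₀ P d₂) (h2S : f d₂ S = 0)
    (h2b : f d₂ b ≠ 0) :
    ∃ d, Rat F₀ P d ∧ f d S = 0 ∧ f d a ≠ 0 ∧ f d b ≠ 0 := by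
  by_cases h3 : f d₁ b = 0
  · by_cases h4 : f d₂ a = 0
    · exact ⟨d₁ + d₂, rat_add h1 h2', by rw [hf.add_left, h1S, h2S, add_zero],
        by rwa [hf.add_left, h4, add_zero], by rwa [hf.add_left, h3, zero_add]⟩
    · exact ⟨d₂, h2', h2S, h4, h2b⟩
  · exact ⟨d₁, h1, h1S, h1a, h3⟩

/-- Move `d` along the singular `r` to a singular vector. -/
theorem singular_shift {d r : ι → F} (hd' : Rat F₀ P d) (hr : Rat F₀ P r) (hrr : f r r = 0)
    (hdr : f d r ≠ 0) :
    ∃ t ∈ F₀, Rat F₀ P (d + t • r) ∧ f (d + t • r) (d + t • r) = 0 := by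
  have hrd := symm_rat hf hd hrat hd' hr
  set t := -f d d / (2 * f d r) with ht
  have htF : t ∈ F₀ :=
    div_mem (neg_mem (hrat d d hd' hd')) (mul_mem (ofNat_mem F₀ 2) (hrat d r hd' hr))
  refine ⟨t, htF, rat_add hd' (rat_smul htF hr), ?_⟩
  simp only [hf.add_left, hf.smul_left, hadd_right hf, hsmul_right hf, hrr,
    (hd.mem_iff t).mp htF, hrd]
  rw [ht]
  field_simp
  ring

variable (hn : 6 ≤ Fintype.card ι)
include hn

theorem exists_singular_nonorth {e y : ι → F} (he : Rat F₀ P e) (hy : Rat F₀ P y)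
    (hye : y ∉ Submodule.span F {e}) :
    ∃ p, Rat F₀ P p ∧ f p p = 0 ∧ f p e = 0 ∧ f p y ≠ 0 := by
  obtain ⟨z, hz, hze⟩ : ∃ z, Rat F₀ P z ∧ (e ≠ 0 → f z e ≠ 0) := by
    by_cases h : e = 0
    · exact ⟨0, rat_zero, fun h' => (h' h).elim⟩
    obtain ⟨z, hz, -, hze⟩ := exists_rat_dual hf hd hrat ![] (fun i => i.elim0) (y := e)
      (by simpa using h)
    exact ⟨z, hz, fun _ => hze⟩
  obtain ⟨r, hr, hr0, hrr, hrp⟩ := exists_rat_singular hf hd hrat h2 ![e, y, z]
    (by intro i; fin_cases i <;> simpa) (by omega)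
  have hre : r ∉ Submodule.span F {e} := fun hm => by
    obtain ⟨c, rfl⟩ := Submodule.mem_span_singleton.mp hm
    obtain ⟨hc0, he0⟩ := smul_ne_zero_iff.mp hr0
    have := hrp 2
    rw [hf.smul_left] at this
    exact hswap_ne_zero hf (hze he0) ((mul_eq_zero.mp this).resolve_left hc0)
  obtain ⟨d₁, h1, h1e, h1y⟩ := exists_rat_dual hf hd hrat ![e] (by simpa) (y := y) (by simpa)
  obtain ⟨d₂, h2', h2e, h2r⟩ := exists_rat_dual hf hd hrat ![e] (by simpa) (y := r) (by simpa)
  obtain ⟨d, hd', hde, hdy, hdr⟩ :=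
    exists_sum_ne hf hd hrat h1 (h1e 0) h1y h2' (h2e 0) h2r
  obtain ⟨t, -, hp, hpp⟩ := singular_shift hf hd hrat h2 hd' hr hrr hdr
  have hre0 : f r e = 0 := hrp 0
  have hry0 : f r y = 0 := hrp 1
  exact ⟨_, hp, hpp, by rw [hf.add_left, hf.smul_left, hre0, show f d e = 0 from hde, mul_zero, add_zero],
    by rwa [hf.add_left, hf.smul_left, hry0, mul_zero, add_zero]⟩

variable (hqM : ∀ a b, Rat F₀ P a → Rat F₀ P b → f a a = 0 → f b a = 0 →
  qe f a b (-f b b / 2) ∈ M)

omit h2 hn in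
theorem half_trace {b : ι → F} (hb : Rat F₀ P b) (h2 : (2 : F) ≠ 0) :
    -f b b / 2 + σ (-f b b / 2) = -f b b := by
  rw [map_div₀, map_neg, map_ofNat, ← hf.herm]
  field_simp
  ring

include hqM in
theorem inA_rat {a b : ι → F} (ha : Rat F₀ P a) (haa : f a a = 0) (hb : Rat F₀ P b)
    (hba : f b a = 0) : InA σ f M a b :=
  ⟨hba, _, half_trace hf hd hrat hb h2, hqM a b ha hb haa hba⟩

include hqM in
theorem centre_step {a v e : ι → F} (ha : Rat F₀ P a) (hv : Rat F₀ P v) (he : Rat F₀ P e)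
    (hee : f e e = 0) (hae : f a e ≠ 0) (hvv : f v v = 0) (hve : f v e ≠ 0)
    (hc : Centre σ f M a) : Centre σ f M v := by
  set s := f v e with hs
  have hsF : s ∈ F₀ := hrat v e hv he
  have hr : s / f a e ∈ F₀ := div_mem hsF (hrat a e ha he)
  set y := (s / f a e) • a with hy
  have hyr : Rat F₀ P y := rat_smul hr ha
  have hye : f y e = s := by rw [hy, hf.smul_left, div_mul_cancel₀ _ hae]
  set w := s⁻¹ • (v - y) with hw
  have hwr : Rat F₀ P w := rat_smul (inv_mem hsF) (rat_sub hv hyr)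
  have hwe : f w e = 0 := by rw [hw, hf.smul_left, hsub_left hf, hye, ← hs, sub_self, mul_zero]
  have hb := half_trace hf hd hrat hwr h2
  have hbM := hqM e w he hwr hee hwe
  set b := -f w w / 2 with hbdef
  have hbF : b ∈ F₀ := div_mem (neg_mem (hrat w w hwr hwr)) (ofNat_mem F₀ 2)
  have h1 := centre_map hf (centre_smul hf hc (s / f a e)) hbM (qe_mem_su hf hee hwe hb).1
  set δ := b * s - f y w with hδ
  have hδF : σ δ = δ := (hd.mem_iff _).mp (sub_mem (mul_mem hbF hsF) (hrat y w hyr hwr))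
  have himg : (qe f e w b : Matrix ι ι F) *ᵥ y = v + δ • e := by
    rw [qe_mulVec hf hee hwe, hye, hδ, hw, smul_smul, mul_inv_cancel₀ hve, one_smul]
    module
  rw [← hy, himg] at h1
  have h3 := h1.1
  simp only [hf.add_left, hf.smul_left, hadd_right hf, hsmul_right hf, hee, hvv, hδF,
    symm_rat hf hd hrat hv he, ← hs] at h3
  have h4 : 2 * s * δ = 0 := by linear_combination h3
  rwa [(mul_eq_zero.mp h4).resolve_left (mul_ne_zero h2 hve), zero_smul, add_zero] at h1

/-- Two orthogonal singular vectors have a common singular non-neighbour. -/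
theorem exists_common {a v : ι → F} (ha : Rat F₀ P a) (haa : f a a = 0) (ha0 : a ≠ 0)
    (hv : Rat F₀ P v) (hv0 : v ≠ 0) (hav : f a v = 0) :
    ∃ e, Rat F₀ P e ∧ f e e = 0 ∧ f e a ≠ 0 ∧ f e v ≠ 0 := by
  obtain ⟨d₁, h1, -, h1a⟩ := exists_rat_dual hf hd hrat ![] (fun i => i.elim0) (y := a)
    (by simpa using ha0)
  obtain ⟨d₂, h2', -, h2v⟩ := exists_rat_dual hf hd hrat ![] (fun i => i.elim0) (y := v)
    (by simpa using hv0)
  obtain ⟨d, hd', -, hda, hdv⟩ := exists_sum_ne hf hd hrat (S := 0) h1 (hzero_right hf _) h1a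
    h2' (hzero_right hf _) h2v
  obtain ⟨t, -, he, hee⟩ := singular_shift hf hd hrat h2 hd' ha haa hda
  exact ⟨_, he, hee, by rwa [hf.add_left, hf.smul_left, haa, mul_zero, add_zero],
    by rwa [hf.add_left, hf.smul_left, hav, mul_zero, add_zero]⟩

include hqM in
theorem centre_rat {a : ι → F} (ha : Rat F₀ P a) (ha0 : a ≠ 0) (hc : Centre σ f M a) {v : ι → F}
    (hv : Rat F₀ P v) (hvv : f v v = 0) : Centre σ f M v := by
  by_cases hv0 : v = 0
  · rw [hv0]; exact centre_zero hf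
  have orth : ∀ a v : ι → F, Rat F₀ P a → a ≠ 0 → Centre σ f M a → Rat F₀ P v → v ≠ 0 →
      f v v = 0 → f a v = 0 → Centre σ f M v := by
    intro a v ha ha0 hc hv hv0 hvv hav
    obtain ⟨e, he, hee, hea, hev⟩ := exists_common hf hd hrat h2 hn ha hc.1 ha0 hv hv0 hav
    exact centre_step hf hd hrat h2 hn hqM ha hv he hee (hswap_ne_zero hf hea) hvv
      (hswap_ne_zero hf hev) hc
  obtain ⟨r, hr, hr0, hrr, hrp⟩ := exists_rat_singular hf hd hrat h2 ![a, v]
    (by intro i; fin_cases i <;> simpa) (by omega)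
  exact orth r v hr hr0 (orth a r ha ha0 hc hr hr0 hrr (hswap_zero hf (hrp 0))) hv hv0 hvv (hrp 1)

/-- An element outside the subfield group moves a singular rational point off the rational
points. -/
theorem exists_nonrat_singular {g : GL ι F} (hg : g ∉ Geo.subfieldSubgroup F₀ P)
    (hgi : g ∈ isom f) :
    ∃ p, Rat F₀ P p ∧ f p p = 0 ∧
      ∀ (b : F) (w : ι → F), Rat F₀ P w → (g : Matrix ι ι F) *ᵥ p ≠ b • w := by
  by_contra hcon
  simp only [not_exists, not_and, not_forall, not_not] at hcon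
  obtain ⟨p₀, hp₀, hp00, hpp₀, -⟩ := exists_rat_singular hf hd hrat h2 ![] (fun i => i.elim0)
    (by omega)
  obtain ⟨l, w₀, hw₀, hgl⟩ := hcon p₀ hp₀ hpp₀
  have hl : l ≠ 0 := fun h => mulVec_ne_zero g hp00 (by rw [hgl, h, zero_smul])
  have key : ∀ p p' : ι → F, Rat F₀ P p → f p p = 0 → Rat F₀ P p' → f p p' ≠ 0 →
      Rat F₀ P (l⁻¹ • ((g : Matrix ι ι F) *ᵥ p')) →
      Rat F₀ P (l⁻¹ • ((g : Matrix ι ι F) *ᵥ p)) := by
    intro p p' hp hpp hp' hne h'
    obtain ⟨m, w, hw, hgm⟩ := hcon p hp hpp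
    set w' := l⁻¹ • ((g : Matrix ι ι F) *ᵥ p') with hw'
    have hgp' : (g : Matrix ι ι F) *ᵥ p' = l • w' := by
      rw [hw', smul_smul, mul_inv_cancel₀ hl, one_smul]
    have h1 := mem_isom.mp hgi p p'
    rw [hgm, hgp', hf.smul_left, hsmul_right hf] at h1
    have hww : f w w' ≠ 0 := fun h => hne (by rw [← h1, h, mul_zero, mul_zero])
    have h3 : m * σ l ∈ F₀ := by
      have : m * σ l = f p p' / f w w' := by rw [← h1]; field_simp
      rw [this]; exact div_mem (hrat _ _ hp hp') (hrat _ _ hw h')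
    have h4 : l * σ l ∈ F₀ := (hd.mem_iff _).mpr (by rw [map_mul, hd.invol, mul_comm])
    rw [hgm, smul_smul]
    refine rat_smul ?_ hw
    have hsl : σ l ≠ 0 := by simpa using hl
    rw [show l⁻¹ * m = (m * σ l) / (l * σ l) by field_simp]
    exact div_mem h3 h4
  have orth : ∀ p p' : ι → F, Rat F₀ P p → f p p = 0 → p ≠ 0 → Rat F₀ P p' → f p' p' = 0 →
      p' ≠ 0 → f p p' = 0 → Rat F₀ P (l⁻¹ • ((g : Matrix ι ι F) *ᵥ p')) →
      Rat F₀ P (l⁻¹ • ((g : Matrix ι ι F) *ᵥ p)) := by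
    intro p p' hp hpp hp0 hp' hpp' hp0' hort h'
    obtain ⟨e, he, hee, hep, hep'⟩ := exists_common hf hd hrat h2 hn hp hpp hp0 hp' hp0' hort
    exact key p e hp hpp he (hswap_ne_zero hf hep) (key e p' he hee hp' hep' h')
  have all : ∀ p, Rat F₀ P p → f p p = 0 →
      Rat F₀ P (l⁻¹ • ((g : Matrix ι ι F) *ᵥ p)) := by
    intro p hp hpp
    by_cases hp0 : p = 0
    · rw [hp0, mulVec_zero, smul_zero]; exact rat_zero
    obtain ⟨r, hr, hr0, hrr, hrp⟩ := exists_rat_singular hf hd hrat h2 ![p, p₀]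
      (by intro i; fin_cases i <;> simpa) (by omega)
    refine orth p r hp hpp hp0 hr hrr hr0 (hswap_zero hf (hrp 0))
      (orth r p₀ hr hrr hr0 hp₀ hpp₀ hp00 (hrp 1) ?_)
    rw [hgl, smul_smul, inv_mul_cancel₀ hl, one_smul]
    exact hw₀
  refine hg (mem_of_rat (inv_ne_zero hl) fun v hv => ?_)
  by_cases hv0 : v = 0
  · rw [hv0, mulVec_zero, smul_zero]; exact rat_zero
  obtain ⟨p, hp, hpp, -, hpv⟩ := exists_singular_nonorth hf hd hrat h2 hn rat_zero hv
    (by simpa using hv0)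
  obtain ⟨t, ht, hq, hqq⟩ := singular_shift hf hd hrat h2 hv hp hpp (hswap_ne_zero hf hpv)
  have h5 := rat_sub (all _ hq hqq) (rat_smul ht (all p hp hpp))
  rwa [mulVec_add, mulVec_smul, smul_add, smul_comm, add_sub_cancel_right] at h5

include hqM in
theorem exists_centre {g : GL ι F} (hgM : g ∈ M) (hgi : g ∈ isom f)
    (hg : g ∉ Geo.subfieldSubgroup F₀ P) :
    ∃ a, Rat F₀ P a ∧ a ≠ 0 ∧ Centre σ f M a := by
  have hk := mem_isom.mp hgi
  obtain ⟨p, hp, hpp, hpn⟩ := exists_nonrat_singular hf hd hrat h2 hn hg hgi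
  set u := (g : Matrix ι ι F) *ᵥ p with hu
  obtain ⟨u₁, u₂, hu₁, hu₂, hsu⟩ := exists_rat_split (P := P) hd u
  have hu₁0 : u₁ ≠ 0 := fun h => hpn ε u₂ hu₂ (by rw [← hsu, h, zero_add])
  have hu₂n : u₂ ∉ Submodule.span F {u₁} := fun hm => by
    obtain ⟨c, hc⟩ := Submodule.mem_span_singleton.mp hm
    obtain ⟨b, w, hw, e⟩ := smul_of_dependent hd hu₁ hu₂ hc.symm
    exact hpn b w hw (by rw [← hsu, e])
  -- the form on `u₁`, `u₂`
  classical
  have huu : f u u = 0 := (hk p p).trans hpp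
  have hxu : ∀ x, f x u = f x u₁ + σ ε * f x u₂ := fun x => by
    rw [← hsu, hadd_right hf, hsmul_right hf]
  have h21 : f u₂ u₁ = f u₁ u₂ := symm_rat hf hd hrat hu₁ hu₂
  have hAF := hrat u₁ u₁ hu₁ hu₁
  have hBF := hrat u₁ u₂ hu₁ hu₂
  have hCF := hrat u₂ u₂ hu₂ hu₂
  have hex : f u₁ u₁ + (ε + σ ε) * f u₁ u₂ + ε * σ ε * f u₂ u₂ = 0 := by
    have h := huu
    rw [hxu, ← hsu, hf.add_left, hf.smul_left, hf.add_left, hf.smul_left, h21] at h
    linear_combination h
  have hzero : ∀ s t, s ∈ F₀ → t ∈ F₀ → s + σ ε * t = 0 → s = 0 ∧ t = 0 := fun s t hs ht h =>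
    eq_zero_of_add hd hs ht (by
      have := congrArg σ h
      rwa [map_add, map_mul, hd.invol, (hd.mem_iff _).mp hs, (hd.mem_iff _).mp ht, map_zero]
        at this)
  have hli : ∀ α β : F, α • u₂ + β • u₁ = 0 → α = 0 ∧ β = 0 := fun α β h => by
    have hα : α = 0 := by
      by_contra hα
      exact hu₂n ((Submodule.smul_mem_iff _ hα).mp (by
        rw [eq_neg_of_add_eq_zero_left h]
        exact neg_mem (Submodule.smul_mem _ _ (Submodule.mem_span_singleton_self u₁))))
    rw [hα, zero_smul, zero_add, smul_eq_zero] at h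
    exact ⟨hα, h.resolve_right hu₁0⟩
  -- the second component of a multiple of `u`
  have hyform : ∀ μ : F, μ ≠ 0 → ∃ α β : F, (α ≠ 0 ∨ β ≠ 0) ∧ ∀ x y, Rat F₀ P x → Rat F₀ P y →
      x + ε • y = μ • u → y = α • u₂ + β • u₁ := fun μ hμ => by
    obtain ⟨m₁, hm₁, m₂, hm₂, hm⟩ := exists_split hd μ
    obtain ⟨e₁, he₁, e₂, he₂, he⟩ := exists_split hd (ε * ε)
    refine ⟨m₁ + e₂ * m₂, m₂, ?_, fun x y hx hy hxy => ?_⟩
    · by_contra h
      simp only [not_or, not_not] at h
      obtain ⟨h', rfl⟩ := h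
      exact hμ (by rw [← hm]; simpa using h')
    have h7 : (x - (m₁ • u₁ + (e₁ * m₂) • u₂)) +
        ε • (y - ((m₁ + e₂ * m₂) • u₂ + m₂ • u₁)) = 0 := by
      have h8 : x + ε • y = (m₁ + ε * m₂) • (u₁ + ε • u₂) := by rw [hxy, hm, hsu]
      rw [← sub_eq_zero] at h8
      rw [← h8]
      match_scalars <;> first | ring1 | linear_combination m₂ * he | linear_combination -m₂ * he
    exact sub_eq_zero.mp (rat_eq_zero_of_add hd
      (rat_sub hx (rat_add (rat_smul hm₁ hu₁) (rat_smul (mul_mem he₁ hm₂) hu₂)))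
      (rat_sub hy (rat_add (rat_smul (add_mem hm₁ (mul_mem he₂ hm₂)) hu₂)
        (rat_smul hm₂ hu₁))) h7).2
  -- the images of the rational points orthogonal to `p` fill three dimensions of `u⊥`
  have img : ∀ (c₀ : ι → F) (S : Submodule F (ι → F)),
      (∀ q, Rat F₀ P q → f q p = 0 → f ((g : Matrix ι ι F) *ᵥ q) c₀ = 0 →
        (g : Matrix ι ι F) *ᵥ q ∈ S) →
      ∃ K, K ≤ S ∧ 3 ≤ Module.finrank F K ∧ ∀ y ∈ K, f y u = 0 := by
    intro c₀ S hS
    obtain ⟨c, d, hc, hd', hcd⟩ :=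
      exists_rat_split (P := P) hd (((g⁻¹ : GL ι F) : Matrix ι ι F) *ᵥ c₀)
    set L := LinearMap.pi ![hl hf p, hl hf c, hl hf d] with hL
    have h1 := LinearMap.finrank_range_add_finrank_ker L
    have h2 := Submodule.finrank_le (LinearMap.range L)
    simp at h1 h2
    have hg : Function.Injective (g : Matrix ι ι F).mulVecLin := mulVec_injective g
    refine ⟨(LinearMap.ker L).map (g : Matrix ι ι F).mulVecLin, ?_, ?_, ?_⟩
    · rintro _ ⟨x, hx, rfl⟩
      have hx' : f x p = 0 ∧ f x c = 0 ∧ f x d = 0 := by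
        simpa [hL, funext_iff, Fin.forall_fin_succ] using hx
      obtain ⟨r, s, hr, hs, rfl⟩ := exists_rat_split (P := P) hd x
      obtain ⟨e1, e2⟩ := split_zero hf hd hrat hr hs hp hx'.1
      obtain ⟨e3, e4⟩ := split_zero hf hd hrat hr hs hc hx'.2.1
      obtain ⟨e5, e6⟩ := split_zero hf hd hrat hr hs hd' hx'.2.2
      have key : ∀ z, f z c = 0 → f z d = 0 → f ((g : Matrix ι ι F) *ᵥ z) c₀ = 0 :=
        fun z h h' => by
          rw [← mulVec_inv_mulVec g c₀, hk, ← hcd, hadd_right hf, hsmul_right hf, h, h']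
          simp
      rw [mulVecLin_apply, mulVec_add, mulVec_smul]
      exact add_mem (hS r hr e1 (key r e3 e5)) (Submodule.smul_mem _ _ (hS s hs e2 (key s e4 e6)))
    · rw [← (Submodule.equivMapOfInjective _ hg _).finrank_eq]
      omega
    · rintro _ ⟨x, hx, rfl⟩
      have hx' : f x p = 0 ∧ f x c = 0 ∧ f x d = 0 := by
        simpa [hL, funext_iff, Fin.forall_fin_succ] using hx
      exact (hk x p).trans hx'.1
  obtain ⟨q, b, a, hq, hqp, hb, hbu₁, hbu₂, hbw, ha, ha0, haa, hau₁, hau₂, haw, hab, hay⟩ :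
      ∃ q b a, Rat F₀ P q ∧ f q p = 0 ∧ Rat F₀ P b ∧ f b u₁ = 0 ∧ f b u₂ = 0 ∧
        f b ((g : Matrix ι ι F) *ᵥ q) ≠ 0 ∧ Rat F₀ P a ∧ a ≠ 0 ∧ f a a = 0 ∧ f a u₁ = 0 ∧
        f a u₂ = 0 ∧ f a ((g : Matrix ι ι F) *ᵥ q) = 0 ∧ f a b = 0 ∧
        ∀ x y, Rat F₀ P x → Rat F₀ P y → x + ε • y = f b ((g : Matrix ι ι F) *ᵥ q) • u →
          y ∉ Submodule.span F {a} := by
    by_cases hts : f u₁ u₁ = 0 ∧ f u₁ u₂ = 0 ∧ f u₂ u₂ = 0
    · -- a totally singular pair
      obtain ⟨hA, hB, hC⟩ := hts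
      obtain ⟨q, hq, hqp, hq2, hqn⟩ : ∃ q, Rat F₀ P q ∧ f q p = 0 ∧
          f ((g : Matrix ι ι F) *ᵥ q) u₂ = 0 ∧
          (g : Matrix ι ι F) *ᵥ q ∉ Submodule.span F {u₁, u₂} := by
        by_contra hc
        simp only [not_exists, not_and, not_not] at hc
        obtain ⟨K, hK, hK3, -⟩ := img u₂ _ hc
        have h1 := hK3.trans (Submodule.finrank_mono hK)
        have h5 := finrank_span_finset_le_card (R := F) ({u₁, u₂} : Finset (ι → F))
        have h6 := Finset.card_le_two (a := u₁) (b := u₂)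
        rw [Finset.coe_pair] at h5
        simp [Set.finrank] at h5
        omega
      set w := (g : Matrix ι ι F) *ᵥ q
      have hw1 : f w u₁ = 0 := by
        have h := hxu w
        rw [show f w u = 0 from (hk q p).trans hqp, hq2, mul_zero, add_zero] at h
        exact h.symm
      obtain ⟨b, hb, hbp, hbw⟩ := exists_rat_dual hf hd hrat ![u₁, u₂]
        (by intro i; fin_cases i <;> simpa) (y := w) (by
          rwa [Matrix.range_cons, Matrix.range_cons, Matrix.range_empty, Set.union_empty,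
            Set.singleton_union])
      obtain ⟨α, β, hαβ, hy⟩ := hyform _ hbw
      by_cases hα : α = 0
      · refine ⟨q, b, u₂, hq, hqp, hb, hbp 0, hbp 1, hbw, hu₂,
          fun h => hu₂n (h ▸ zero_mem _), hC, h21.trans hB, hC, hswap_zero hf hq2,
          hswap_zero hf (hbp 1), fun x y hx hy' hxy hm => ?_⟩
        obtain ⟨c, hc⟩ := Submodule.mem_span_singleton.mp hm
        rw [hy x y hx hy' hxy] at hc
        have := (hli (α - c) β (by rw [sub_smul, hc]; abel)).2
        exact hαβ.elim (fun h => h hα) (fun h => h this)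
      · refine ⟨q, b, u₁, hq, hqp, hb, hbp 0, hbp 1, hbw, hu₁, hu₁0, hA, hA, hB,
          hswap_zero hf hw1, hswap_zero hf (hbp 0), fun x y hx hy' hxy hm => ?_⟩
        obtain ⟨c, hc⟩ := Submodule.mem_span_singleton.mp hm
        rw [hy x y hx hy' hxy] at hc
        exact hα (hli α (β - c) (by rw [sub_smul, hc]; abel)).1
    · obtain ⟨a, ha, ha0, haa, hap⟩ := exists_rat_singular hf hd hrat h2 ![u₁, u₂]
        (by intro i; fin_cases i <;> simpa) (by omega)
      have hau₁ : f a u₁ = 0 := hap 0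
      have hau₂ : f a u₂ = 0 := hap 1
      have haU : ∀ α β : F, a ≠ α • u₂ + β • u₁ := by
        intro α β h
        have h1 : α * f u₁ u₂ + β * f u₁ u₁ = 0 := by
          rw [← hau₁, h, hf.add_left, hf.smul_left, hf.smul_left, h21]
        have h2' : α * f u₂ u₂ + β * f u₁ u₂ = 0 := by
          rw [← hau₂, h, hf.add_left, hf.smul_left, hf.smul_left]
        have hne : f u₁ u₁ * f u₂ u₂ - f u₁ u₂ * f u₁ u₂ ≠ 0 := fun h3 => hts (by
          have h4 : (f u₁ u₂ + ε * f u₂ u₂) * (f u₁ u₂ + σ ε * f u₂ u₂) = 0 := by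
            linear_combination f u₂ u₂ * hex - h3
          have h5 : f u₁ u₂ = 0 ∧ f u₂ u₂ = 0 := (mul_eq_zero.mp h4).elim
            (eq_zero_of_add hd hBF hCF) (hzero _ _ hBF hCF)
          exact ⟨by linear_combination hex - (ε + σ ε) * h5.1 - ε * σ ε * h5.2, h5.1, h5.2⟩)
        refine ha0 ?_
        rw [h, (mul_eq_zero.mp (show (f u₁ u₁ * f u₂ u₂ - f u₁ u₂ * f u₁ u₂) * α = 0 by
          linear_combination f u₁ u₁ * h2' - f u₁ u₂ * h1)).resolve_left hne,
          (mul_eq_zero.mp (show (f u₁ u₁ * f u₂ u₂ - f u₁ u₂ * f u₁ u₂) * β = 0 by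
          linear_combination f u₂ u₂ * h1 - f u₁ u₂ * h2')).resolve_left hne]
        simp
      obtain ⟨q, hq, hqp, hqa, hqn⟩ : ∃ q, Rat F₀ P q ∧ f q p = 0 ∧
          f ((g : Matrix ι ι F) *ᵥ q) a = 0 ∧
          (g : Matrix ι ι F) *ᵥ q ∉ Submodule.span F {u₁, u₂, a} := by
        by_contra hc
        simp only [not_exists, not_and, not_not] at hc
        obtain ⟨K, hK, hK3, hKu⟩ := img a _ hc
        have h5 := finrank_span_finset_le_card (R := F) ({u₁, u₂, a} : Finset (ι → F))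
        have h6 := Finset.card_le_three (a := u₁) (b := u₂) (c := a)
        rw [Finset.coe_insert, Finset.coe_pair] at h5
        simp [Set.finrank] at h5
        have heq := Submodule.eq_of_le_of_finrank_le hK (by omega)
        have h7 : f u₁ u = 0 := hKu u₁ (heq ▸ Submodule.subset_span (by simp))
        have h8 : f u₂ u = 0 := hKu u₂ (heq ▸ Submodule.subset_span (by simp))
        rw [hxu] at h7 h8
        rw [h21] at h8
        exact hts ⟨(hzero _ _ hAF hBF h7).1, hzero _ _ hBF hCF h8⟩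
      set w := (g : Matrix ι ι F) *ᵥ q
      obtain ⟨b, hb, hbp, hbw⟩ := exists_rat_dual hf hd hrat ![u₁, u₂, a]
        (by intro i; fin_cases i <;> simpa) (y := w) (by
          rwa [Matrix.range_cons, Matrix.range_cons, Matrix.range_cons, Matrix.range_empty,
            Set.union_empty, Set.singleton_union, Set.singleton_union])
      refine ⟨q, b, a, hq, hqp, hb, hbp 0, hbp 1, hbw, ha, ha0, haa, hau₁, hau₂,
        hswap_zero hf hqa, hswap_zero hf (hbp 2), fun x y hx hy' hxy hm => ?_⟩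
      obtain ⟨α, β, hαβ, hy⟩ := hyform _ hbw
      obtain ⟨c, hc⟩ := Submodule.mem_span_singleton.mp hm
      rw [hy x y hx hy' hxy] at hc
      by_cases hc0 : c = 0
      · obtain ⟨e1, e2⟩ := hli α β (by rw [← hc, hc0, zero_smul])
        exact hαβ.elim (fun h => h e1) (fun h => h e2)
      exact haU (c⁻¹ * α) (c⁻¹ * β) (by
        rw [mul_smul, mul_smul, ← smul_add, ← hc, smul_smul, inv_mul_cancel₀ hc0, one_smul])
  set w := (g : Matrix ι ι F) *ᵥ q with hw
  set s := -f q q / 2 with hs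
  have hk' : qe f u w s ∈ M := by
    rw [hu, hw, ← qe_conj hf hpp hqp s hgi]
    exact mul_mem (mul_mem hgM (hqM p q hp hq hpp hqp)) (inv_mem hgM)
  have hwu : f w u = 0 := (hk q p).trans hqp
  have hsw : s + σ s = -f w w := by rw [hk q q]; exact half_trace hf hd hrat hq h2
  have hau : f a u = 0 := by rw [hxu, hau₁, hau₂, mul_zero, add_zero]
  have hbu : f b u = 0 := by rw [hxu, hbu₁, hbu₂, mul_zero, add_zero]
  have hba : f b a = 0 := hswap_zero hf hab
  have hA : InA σ f M a b := inA_rat hf hd hrat h2 hn hqM ha haa hb hba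
  have hmi : qe f u w s ∈ isom f := (qe_mem_su hf huu hwu hsw).1
  have hA' : InA σ f M a (b - f b w • u) := by
    obtain ⟨-, c, hc, hcM⟩ := hA
    have himg : (qe f u w s : Matrix ι ι F) *ᵥ a = a ∧
        (qe f u w s : Matrix ι ι F) *ᵥ b = b - f b w • u := by
      rw [qe_mulVec hf huu hwu, qe_mulVec hf huu hwu, hau, haw, hbu]
      constructor <;> module
    have h6 := mul_mem (mul_mem hk' hcM) (inv_mem hk')
    rw [qe_conj hf haa hba c hmi, himg.1, himg.2] at h6
    have hua := hswap_zero hf hau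
    refine ⟨by rw [hsub_left hf, hf.smul_left, hba, hua, mul_zero, sub_zero], c, ?_, h6⟩
    rw [← himg.2, mem_isom.mp hmi]; exact hc
  have hA'' := inA_sub hf haa hA hA'
  rw [sub_sub_cancel] at hA''
  set μ := f b w
  -- `z` with non-real inner product
  obtain ⟨b', hb', hb'a, hne⟩ : ∃ b', Rat F₀ P b' ∧ f b' a = 0 ∧
      σ (f (μ • u) b') ≠ f (μ • u) b' := by
    obtain ⟨x, y, hx, hy, hxy⟩ := exists_rat_split (P := P) hd (μ • u)
    have hyn : y ∉ Submodule.span F {a} := hay x y hx hy hxy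
    obtain ⟨b', hb', hb'a, hb'y⟩ := exists_rat_dual hf hd hrat ![a] (by simpa) (y := y)
      (by simpa)
    refine ⟨b', hb', hb'a 0, fun h => hb'y ?_⟩
    rw [← hxy, hf.add_left, hf.smul_left, map_add, map_mul,
      (hd.mem_iff _).mp (hrat x b' hx hb'), (hd.mem_iff _).mp (hrat y b' hy hb')] at h
    have h8 : (σ ε - ε) * f y b' = 0 := by linear_combination h
    rw [symm_rat hf hd hrat hy hb']
    exact (mul_eq_zero.mp h8).resolve_left (sub_ne_zero.mpr hd.eps)
  refine ⟨a, ha, ha0, haa, fun e he => ?_⟩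
  set z := μ • u with hz
  set e₀ := f z b' - f b' z with he₀
  have he₀0 : e₀ ≠ 0 := fun h => hne (by rw [← hf.herm]; exact (sub_eq_zero.mp h).symm)
  have hl' : e / e₀ ∈ F₀ := (hd.mem_iff _).mpr (by
    rw [map_div₀, he₀, map_sub, ← hf.herm, ← hf.herm, eq_neg_of_add_eq_zero_right he,
      ← neg_sub (f z b'), neg_div_neg_eq])
  set l := e / e₀ with hl
  obtain ⟨hza, c, hc, hcM⟩ := hA''
  obtain ⟨hb'a', c', hc', hc'M⟩ :=
    inA_rat hf hd hrat h2 hn hqM ha haa (rat_smul hl' hb') (by rw [hf.smul_left, hb'a, mul_zero])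
  have h9 := qe_mul hf haa hza hb'a' c c'
  have h10 := qe_mul hf haa hb'a' hza c' c
  rw [add_comm (l • b') z] at h10
  have hsum : f (z + l • b') a = 0 := by rw [hf.add_left, hza, hb'a', add_zero]
  have h11 := inA_skew hf haa hsum (z := z + l • b') (b := c + c' - f (l • b') z)
    (c := c' + c - f z (l • b')) (by
      rw [map_sub, map_add, ← hf.herm, hf.add_left, hadd_right hf, hadd_right hf]
      linear_combination hc + hc')
    (h9 ▸ mul_mem hcM hc'M) (h10 ▸ mul_mem hc'M hcM)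
  convert! h11 using 2
  rw [hf.smul_left l b' z, show f z (l • b') = σ l * f z b' from hsmul_right hf _ _ _,
    (hd.mem_iff l).mp hl', hl, he₀]
  have := he₀0
  rw [he₀] at this
  field_simp
  ring

include hqM in
theorem centre_all {g : GL ι F} (hgM : g ∈ M) (hgi : g ∈ isom f)
    (hg : g ∉ Geo.subfieldSubgroup F₀ P) : ∀ v, f v v = 0 → Centre σ f M v := by
  obtain ⟨a, ha, ha0, hca⟩ := exists_centre hf hd hrat h2 hn hqM hgM hgi hg
  have hC : ∀ v, Rat F₀ P v → f v v = 0 → Centre σ f M v :=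
    fun v hv hvv => centre_rat hf hd hrat h2 hn hqM ha ha0 hca hv hvv
  obtain ⟨e, he, he0, hee, -⟩ := exists_rat_singular hf hd hrat h2 ![] (fun i => i.elim0)
    (by omega)
  -- all multiples of singular rational vectors orthogonal to `e`
  have hmul : ∀ v, Rat F₀ P v → f v v = 0 → f v e = 0 → ∀ r : F, InA σ f M e (r • v) := by
    intro v hv hvv hve r
    by_cases hvs : v ∈ Submodule.span F {e}
    · obtain ⟨m, rfl⟩ := Submodule.mem_span_singleton.mp hvs
      rw [smul_smul]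
      set t := r * m
      have hte : f (t • e) e = 0 := by rw [hf.smul_left, hee, mul_zero]
      refine ⟨hte, 0, by rw [hf.smul_left, hsmul_right hf, hee]; simp, ?_⟩
      have : qe f e (t • e) 0 = ut f e (t - σ t) := gl_ext fun x => by
        rw [qe_mulVec hf hee hte, ut_mulVec hf hee, hsmul_right hf]
        module
      rw [this]
      exact (hC e he hee).2 _ (by rw [map_sub, hf.involutive]; ring)
    obtain ⟨b, hb, hbe, hbv⟩ := exists_rat_dual hf hd hrat ![e] (by simpa) (y := v) (by simpa)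
    have hbe : f b e = 0 := hbe 0
    have skew : ∀ d, d + σ d = 0 → InA σ f M e (d • v) := by
      intro d hd'
      set c := d / f b v with hc
      have hcs : c + σ c = 0 := by
        rw [hc, map_div₀, (hd.mem_iff _).mp (hrat b v hb hv), ← add_div, hd', zero_div]
      obtain ⟨-, t, ht, htM⟩ := inA_rat hf hd hrat h2 hn hqM he hee hb hbe
      have hev := hswap_zero hf hve
      have hut := ut_mem_isom hf hvv hcs
      have h6 := mul_mem (mul_mem ((hC v hv hvv).2 c hcs) htM)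
        (inv_mem ((hC v hv hvv).2 c hcs))
      have himg : (ut f v c : Matrix ι ι F) *ᵥ e = e ∧
          (ut f v c : Matrix ι ι F) *ᵥ b = b + d • v := by
        rw [ut_mulVec hf hvv, ut_mulVec hf hvv, hev, hc, div_mul_cancel₀ _ hbv]
        simp
      rw [qe_conj hf hee hbe t hut, himg.1, himg.2] at h6
      have h7 : InA σ f M e (b + d • v) :=
        ⟨by rw [hf.add_left, hf.smul_left, hbe, hve, mul_zero, add_zero], t,
          by rw [← himg.2, mem_isom.mp hut]; exact ht, h6⟩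
      have h8 := inA_sub hf hee h7 (inA_rat hf hd hrat h2 hn hqM he hee hb hbe)
      rwa [add_sub_cancel_left] at h8
    have hr : r • v = ((r + σ r) / 2) • v + ((r - σ r) / 2) • v := by
      rw [← add_smul]; congr 1; field_simp; ring
    have hrF : (r + σ r) / 2 ∈ F₀ := (hd.mem_iff _).mpr (by
      rw [map_div₀, map_add, hd.invol, map_ofNat, add_comm])
    rw [hr]
    exact inA_add hf hee
      (inA_rat hf hd hrat h2 hn hqM he hee (rat_smul hrF hv)
        (by rw [hf.smul_left, hve, mul_zero]))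
      (skew _ (by rw [map_div₀, map_sub, hd.invol, map_ofNat]; ring))
  have hratA : ∀ b, Rat F₀ P b → f b e = 0 → ∀ r : F, InA σ f M e (r • b) := by
    intro b hb hbe r
    by_cases hbb : f b b = 0
    · exact hmul b hb hbb hbe r
    have hbn : b ∉ Submodule.span F {e} := fun hm => hbb (by
      obtain ⟨m, rfl⟩ := Submodule.mem_span_singleton.mp hm
      rw [hf.smul_left, hsmul_right hf, hee]; simp)
    obtain ⟨p, hp, hpp, hpe, hpb⟩ := exists_singular_nonorth hf hd hrat h2 hn he hb hbn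
    obtain ⟨t, ht, hs, hss⟩ := singular_shift hf hd hrat h2 hb hp hpp (hswap_ne_zero hf hpb)
    have h := inA_sub hf hee
      (hmul _ hs hss (by rw [hf.add_left, hf.smul_left, hbe, hpe, mul_zero, add_zero]) r)
      (hmul p hp hpp hpe (r * t))
    rwa [smul_add, smul_smul, add_sub_cancel_right] at h
  obtain ⟨y, hy, hyy, -, hye⟩ := exists_singular_nonorth hf hd hrat h2 hn rat_zero he
    (by simpa using he0)
  refine centre_of_radical hf (by omega) (hC e he hee) (fun w b hwe hb => ?_) (hC y hy hyy) hye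
  obtain ⟨x, z, hx, hz, rfl⟩ := exists_rat_split (P := P) hd w
  obtain ⟨hxe, hze⟩ := split_zero hf hd hrat hx hz he hwe
  obtain ⟨-, c, hc, hcM⟩ := inA_add hf hee (by simpa using hratA x hx hxe 1)
    (hratA z hz hze ε)
  have h := qe_mul hf hee (hzero_left hf e) hwe (b - c) c
  rw [zero_add, hzero_right hf, sub_zero, sub_add_cancel, qe_zero hf e hee] at h
  rw [← h]
  exact mul_mem ((hC e he hee).2 _ (by rw [map_sub]; linear_combination hb - hc)) hcM

end Cfsg.Agent.SubfieldOrth
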