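import Cfsg.Agent.MaxSub.HermStabStd
import Cfsg.Agent.Aschbacher.Descent

/-!
Subfields of index two: the rational structure of a matrix and the subfield group (helper24).
-/

set_option autoImplicit false

namespace Cfsg.Agent.SubfieldTwo

open Matrix Cfsg.Agent.MaxSub

variable {ι : Type} [Fintype ι] [DecidableEq ι] {F : Type*} [Field F]

/-- The vectors in the `F₀`-span of the columns of `P`. -/
def Rat (F₀ : Subfield F) (P : GL ι F) (x : ι → F) : Prop :=
  ∀ i, (((P⁻¹ : GL ι F) : Matrix ι ι F) *ᵥ x) i ∈ F₀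

variable {F₀ : Subfield F} {P : GL ι F}

theorem rat_iff {x : ι → F} :
    Rat F₀ P x ↔ ∃ u : ι → F, (∀ i, u i ∈ F₀) ∧ (P : Matrix ι ι F) *ᵥ u = x :=
  ⟨fun h => ⟨_, h, mulVec_inv_mulVec P x⟩, fun ⟨u, hu, e⟩ i => by
    rw [← e, inv_mulVec_mulVec]; exact hu i⟩

theorem rat_zero : Rat F₀ P (0 : ι → F) := fun i => by simp

theorem rat_add {x y : ι → F} (hx : Rat F₀ P x) (hy : Rat F₀ P y) : Rat F₀ P (x + y) := fun i => by
  rw [mulVec_add]; exact add_mem (hx i) (hy i)

theorem rat_sub {x y : ι → F} (hx : Rat F₀ P x) (hy : Rat F₀ P y) : Rat F₀ P (x - y) := fun i => by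
  rw [mulVec_sub]; exact sub_mem (hx i) (hy i)

theorem rat_smul {a : F} {x : ι → F} (ha : a ∈ F₀) (hx : Rat F₀ P x) : Rat F₀ P (a • x) :=
  fun i => by rw [mulVec_smul]; exact mul_mem ha (hx i)

theorem rat_col (j : ι) : Rat F₀ P ((P : Matrix ι ι F) *ᵥ Pi.single j 1) :=
  rat_iff.mpr ⟨_, fun i => by
    by_cases h : i = j
    · subst h; simp
    · simp [Pi.single_eq_of_ne h], rfl⟩

/-- A linear map vanishing on the rational vectors is zero. -/
theorem eq_zero_of_rat (L : (ι → F) →ₗ[F] F) (h : ∀ x, Rat F₀ P x → L x = 0) (x : ι → F) :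
    L x = 0 := by
  rw [← mulVec_inv_mulVec P x]
  set u := ((P⁻¹ : GL ι F) : Matrix ι ι F) *ᵥ x
  have hu : u = ∑ j, u j • (Pi.single j 1 : ι → F) := pi_eq_sum_univ' u
  rw [hu, mulVec_sum, map_sum]
  exact Finset.sum_eq_zero fun j _ => by rw [mulVec_smul, map_smul, h _ (rat_col j), smul_zero]

theorem mem_of_rat {g : GL ι F} {a : F} (ha : a ≠ 0)
    (h : ∀ x, Rat F₀ P x → Rat F₀ P (a • ((g : Matrix ι ι F) *ᵥ x))) :
    g ∈ Geo.subfieldSubgroup F₀ P := by
  refine Aschbacher.mem_subfieldSubgroup ha fun i j => ?_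
  have := h _ (rat_col j) i
  rw [mulVec_smul, mulVec_mulVec, mulVec_mulVec] at this
  simpa [Units.val_mul, mul_assoc] using this

theorem rat_of_mem {g : GL ι F} (hg : g ∈ Geo.subfieldSubgroup F₀ P) :
    ∃ a : F, a ≠ 0 ∧ ∀ x, Rat F₀ P x → Rat F₀ P (a • ((g : Matrix ι ι F) *ᵥ x)) := by
  rw [Geo.subfieldSubgroup, Subgroup.mem_map] at hg
  obtain ⟨k, hk, rfl⟩ := hg
  rw [Subgroup.mem_sup_of_normal_right] at hk
  obtain ⟨y, hy, z, hz, rfl⟩ := hk
  rw [MonoidHom.mem_range] at hy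
  obtain ⟨A, rfl⟩ := hy
  obtain ⟨c, hc⟩ := (Geo.mem_scalars_iff z).mp hz
  refine ⟨(c : F)⁻¹, inv_ne_zero c.ne_zero, fun x hx i => ?_⟩
  simp only [MulEquiv.coe_toMonoidHom, MulAut.conj_apply]
  rw [Units.val_mul, Units.val_mul, Units.val_mul, hc, ← mulVec_mulVec, ← mulVec_mulVec,
    ← mulVec_mulVec, smul_mulVec, one_mulVec]
  simp only [mulVec_smul, smul_smul]
  rw [
    inv_mul_cancel₀ c.ne_zero, one_smul, inv_mulVec_mulVec]
  rw [mulVec, dotProduct]
  refine sum_mem fun j _ => mul_mem ?_ (hx j)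
  rw [Matrix.GeneralLinearGroup.map_apply]
  exact SetLike.coe_mem _

/-! ### The fixed field of an involution -/

variable {σ : F ≃+* F}

/-- The data of a subfield of index two with an involution. -/
structure IsIndexTwo (F₀ : Subfield F) (σ : F ≃+* F) (ε : F) : Prop where
  mem_iff : ∀ a, a ∈ F₀ ↔ σ a = a
  invol : ∀ a, σ (σ a) = a
  eps : σ ε ≠ ε

variable {ε : F} (hd : IsIndexTwo F₀ σ ε)
include hd

theorem eq_zero_of_add {s t : F} (hs : s ∈ F₀) (ht : t ∈ F₀) (h : s + ε * t = 0) :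
    s = 0 ∧ t = 0 := by
  have h1 := congrArg σ h
  rw [map_add, map_mul, (hd.mem_iff s).mp hs, (hd.mem_iff t).mp ht, map_zero] at h1
  have h2 : (σ ε - ε) * t = 0 := by linear_combination h1 - h
  have ht0 := (mul_eq_zero.mp h2).resolve_left (sub_ne_zero.mpr hd.eps)
  exact ⟨by simpa [ht0] using h, ht0⟩

theorem exists_split (a : F) : ∃ s ∈ F₀, ∃ t ∈ F₀, s + ε * t = a := by
  have hne : σ ε - ε ≠ 0 := sub_ne_zero.mpr hd.eps
  have hne' : ε - σ ε ≠ 0 := sub_ne_zero.mpr (Ne.symm hd.eps)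
  set t := (σ a - a) / (σ ε - ε) with ht
  have htm : σ t = t := by
    rw [ht, map_div₀, map_sub, map_sub, hd.invol, hd.invol]
    field_simp
    ring
  refine ⟨a - ε * t, (hd.mem_iff _).mpr ?_, t, (hd.mem_iff _).mpr htm, by ring⟩
  rw [map_sub, map_mul, htm, ht]
  field_simp
  ring

theorem exists_rat_split (z : ι → F) :
    ∃ x y, Rat F₀ P x ∧ Rat F₀ P y ∧ x + ε • y = z := by
  choose s hs t ht hst using fun i => exists_split hd ((((P⁻¹ : GL ι F) : Matrix ι ι F) *ᵥ z) i)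
  refine ⟨(P : Matrix ι ι F) *ᵥ s, (P : Matrix ι ι F) *ᵥ t, rat_iff.mpr ⟨s, hs, rfl⟩,
    rat_iff.mpr ⟨t, ht, rfl⟩, ?_⟩
  rw [← mulVec_smul, ← mulVec_add, ← mulVec_inv_mulVec P z]
  exact congrArg _ (funext fun i => hst i)

theorem rat_eq_zero_of_add {x y : ι → F} (hx : Rat F₀ P x) (hy : Rat F₀ P y)
    (h : x + ε • y = 0) : x = 0 ∧ y = 0 := by
  have h1 : ((P⁻¹ : GL ι F) : Matrix ι ι F) *ᵥ x +
      ε • (((P⁻¹ : GL ι F) : Matrix ι ι F) *ᵥ y) = 0 := by
    rw [← mulVec_smul, ← mulVec_add, h, mulVec_zero]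
  have h2 := fun i => eq_zero_of_add hd (hx i) (hy i) (congrFun h1 i)
  constructor <;>
    refine mulVec_injective P⁻¹ ?_ <;>
    show _ *ᵥ _ = _ *ᵥ (0 : ι → F) <;> rw [mulVec_zero] <;> funext i
  exacts [(h2 i).1, (h2 i).2]

/-- Dependent rational parts give a multiple of a rational vector. -/
theorem smul_of_dependent {x y : ι → F} (hx : Rat F₀ P x) (hy : Rat F₀ P y) {a : F}
    (ha : y = a • x) : ∃ (b : F) (w : ι → F), Rat F₀ P w ∧ x + ε • y = b • w :=
  ⟨1 + ε * a, x, hx, by rw [ha, smul_smul, add_smul, one_smul]⟩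

/-- An element sending every rational vector to a multiple of a rational one is in the subfield
group. -/
theorem exists_nonrat {g : GL ι F} (hg : g ∉ Geo.subfieldSubgroup F₀ P) :
    ∃ v, Rat F₀ P v ∧ ∀ (b : F) (w : ι → F), Rat F₀ P w → (g : Matrix ι ι F) *ᵥ v ≠ b • w := by
  classical
  by_contra hc
  simp only [not_exists, not_and, not_forall, not_not] at hc
  rcases isEmpty_or_nonempty ι with hemp | hne
  · exact hg (mem_of_rat one_ne_zero fun x _ i => hemp.elim i)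
  choose b w hw hgw using fun j => hc _ (rat_col (F₀ := F₀) (P := P) j)
  have hb : ∀ j, b j ≠ 0 := fun j h => by
    have := hgw j
    rw [h, zero_smul] at this
    exact mulVec_ne_zero g (mulVec_ne_zero P (by simp)) this
  obtain ⟨j₀⟩ := hne
  have hkey : ∀ j, b j / b j₀ ∈ F₀ := by
    intro j
    by_cases hj : j = j₀
    · subst hj; rw [div_self (hb _)]; exact one_mem F₀
    obtain ⟨μ, r, hr, hμ⟩ := hc _ (rat_add (rat_col (F₀ := F₀) (P := P) j) (rat_col j₀))
    rw [mulVec_add, hgw, hgw] at hμ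
    obtain ⟨s, hs, t, ht, hst⟩ := exists_split hd (b j / b j₀)
    obtain ⟨s', hs', t', ht', hst'⟩ := exists_split hd (μ / b j₀)
    have h1 : (s • w j + w j₀ - s' • r) + ε • (t • w j - t' • r) = 0 := by
      have h0 : (b j / b j₀) • w j + w j₀ - (μ / b j₀) • r = 0 := by
        have := congrArg (fun x => (b j₀)⁻¹ • x) hμ
        simp only [smul_add, smul_smul, inv_mul_cancel₀ (hb j₀), one_smul] at this
        rw [div_eq_inv_mul, div_eq_inv_mul, this, sub_self]
      rw [← hst, ← hst'] at h0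
      rw [← h0]
      module
    obtain ⟨e1, e2⟩ := rat_eq_zero_of_add hd
      (rat_sub (rat_add (rat_smul hs (hw j)) (hw j₀)) (rat_smul hs' hr))
      (rat_sub (rat_smul ht (hw j)) (rat_smul ht' hr)) h1
    by_cases ht0 : t = 0
    · rw [← hst, ht0, mul_zero, add_zero]; exact hs
    exfalso
    have hwj : w j ≠ 0 := fun h => by
      have := hgw j
      rw [h, smul_zero] at this
      exact mulVec_ne_zero g (mulVec_ne_zero P (by simp)) this
    have ht'0 : t' ≠ 0 := fun h => by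
      rw [h, zero_smul, sub_zero, smul_eq_zero] at e2
      exact e2.elim ht0 hwj
    -- the two images are dependent
    have hr' : r = (t'⁻¹ * t) • w j := by
      rw [mul_smul, sub_eq_zero.mp e2, smul_smul, inv_mul_cancel₀ ht'0, one_smul]
    have hdep : w j₀ = (s' * (t'⁻¹ * t) - s) • w j := by
      have : w j₀ = s' • r - s • w j := by
        rw [eq_sub_iff_add_eq, ← sub_eq_zero, ← e1]; abel
      rw [this, hr', smul_smul, sub_smul]
    have himg : (g : Matrix ι ι F) *ᵥ ((P : Matrix ι ι F) *ᵥ Pi.single j₀ 1) =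
        (g : Matrix ι ι F) *ᵥ ((P : Matrix ι ι F) *ᵥ
          ((b j₀ * (s' * (t'⁻¹ * t) - s) / b j) • Pi.single j 1)) := by
      rw [hgw, mulVec_smul, mulVec_smul, hgw, smul_smul, div_mul_cancel₀ _ (hb j), hdep,
        smul_smul]
    have h2 := congrFun (mulVec_injective P (mulVec_injective g himg)) j₀
    simp [Pi.single_eq_of_ne (Ne.symm hj)] at h2
  refine hg (mem_of_rat (inv_ne_zero (hb j₀)) fun x hx => ?_)
  obtain ⟨u, hu, rfl⟩ := rat_iff.mp hx
  rw [pi_eq_sum_univ' u, mulVec_sum, mulVec_sum, Finset.smul_sum]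
  refine Finset.sum_induction _ (Rat F₀ P) (fun _ _ => rat_add) rat_zero fun j _ => ?_
  rw [mulVec_smul, mulVec_smul, hgw, smul_smul, smul_smul,
    show (b j₀)⁻¹ * u j * b j = u j * (b j / b j₀) by ring]
  exact rat_smul (mul_mem (hu j) (hkey j)) (hw j)

end Cfsg.Agent.SubfieldTwo
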