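import Cfsg.Agent.MaxSub.OrthVectorGL
import Cfsg.Agent.MaxSub.SubfieldTwo

/-!
Rational structures of a quadratic form over a subfield: rational duals, singular vectors and the
retraction to the rational points (helper24).
-/

set_option autoImplicit false
set_option linter.unusedSectionVars false

namespace Cfsg.Agent.SubfieldQuad

open QuadraticMap Matrix Cfsg.Agent.UnitaryOrthogonal Cfsg.Agent.SubfieldTwo

variable {ι : Type} [Fintype ι] [DecidableEq ι] {F : Type*} [Field F] [Finite F]

/-- A non-degenerate quadratic form with values in `F₀` on the rational vectors. -/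
structure IsRatForm (Q : QuadraticForm F (ι → F)) (F₀ : Subfield F) (P : GL ι F) : Prop where
  nd : PolarND Q
  val : ∀ x, Rat F₀ P x → Q x ∈ F₀
  dim : 9 ≤ Fintype.card ι

variable {Q : QuadraticForm F (ι → F)} {F₀ : Subfield F} {P : GL ι F}

/-- The coordinates along the columns of `P`. -/
noncomputable def coord (P : GL ι F) (x : ι → F) : ι → F :=
  ((P⁻¹ : GL ι F) : Matrix ι ι F) *ᵥ x

/-- A column of `P`. -/
noncomputable def col (P : GL ι F) (j : ι) : ι → F := (P : Matrix ι ι F) *ᵥ Pi.single j 1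

theorem eq_sum_col (x : ι → F) : x = ∑ j, coord P x j • col P j := by
  conv_lhs => rw [← MaxSub.mulVec_inv_mulVec P x, pi_eq_sum_univ' (((P⁻¹ : GL ι F) : Matrix ι ι F) *ᵥ x)]
  simp [mulVec_sum, mulVec_smul, coord, col]

theorem polar_rat (hR : IsRatForm Q F₀ P) {x y : ι → F} (hx : Rat F₀ P x) (hy : Rat F₀ P y) :
    polar Q x y ∈ F₀ := by
  have := sub_mem (sub_mem (hR.val _ (rat_add hx hy)) (hR.val x hx)) (hR.val y hy)
  exact this

theorem rat_neg {x : ι → F} (hx : Rat F₀ P x) : Rat F₀ P (-x) := by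
  simpa using rat_sub (rat_zero (F₀ := F₀) (P := P)) hx

theorem rat_sum {κ : Type*} (s : Finset κ) {g : κ → ι → F} (h : ∀ i ∈ s, Rat F₀ P (g i)) :
    Rat F₀ P (∑ i ∈ s, g i) := by
  classical
  induction s using Finset.induction_on with
  | empty => exact rat_zero
  | insert a s ha ih =>
    rw [Finset.sum_insert ha]
    exact rat_add (h a (Finset.mem_insert_self a s)) (ih fun i hi => h i (Finset.mem_insert_of_mem hi))

/-- A linear retraction of `F` onto `F₀`. -/
theorem exists_retraction (F₀ : Subfield F) : ∃ θ : F →ₗ[F₀] F₀, θ 1 = 1 := by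
  obtain ⟨ξ, hξ, -⟩ := Submodule.exists_dual_map_eq_bot_of_notMem
    (p := (⊥ : Submodule F₀ F)) (x := 1) (by simp) inferInstance
  exact ⟨(ξ 1)⁻¹ • ξ, by simp [hξ]⟩

/-- The chosen retraction. -/
noncomputable def ret (F₀ : Subfield F) : F →ₗ[F₀] F₀ := (exists_retraction F₀).choose

theorem ret_of_mem {a : F} (ha : a ∈ F₀) : (ret F₀ a : F) = a := by
  have h : ret F₀ a = ⟨a, ha⟩ := by
    conv_lhs => rw [show a = (⟨a, ha⟩ : F₀) • (1 : F) from (mul_one a).symm]
    rw [map_smul, ret, (exists_retraction F₀).choose_spec]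
    exact mul_one _
  rw [h]

theorem ret_mul {a s : F} (hs : s ∈ F₀) : (ret F₀ (a * s) : F) = ret F₀ a * s := by
  rw [mul_comm a s, show s * a = (⟨s, hs⟩ : F₀) • a from rfl, map_smul]
  exact mul_comm s _

/-- The retraction of a vector to the rational vectors. -/
noncomputable def down (F₀ : Subfield F) (P : GL ι F) (x : ι → F) : ι → F :=
  ∑ j, (ret F₀ (coord P x j) : F) • col P j

theorem rat_down (x : ι → F) : Rat F₀ P (down F₀ P x) :=
  rat_sum _ fun j _ => rat_smul (SetLike.coe_mem _) (rat_col j)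

theorem polar_down (hR : IsRatForm Q F₀ P) (x : ι → F) {r : ι → F} (hr : Rat F₀ P r) :
    polar Q (down F₀ P x) r = ret F₀ (polar Q x r) := by
  have hsum : ∀ c : ι → F, polar Q (∑ j, c j • col P j) r = ∑ j, c j * polar Q (col P j) r :=
    fun c => by
      show (polarBilin Q).flip r _ = _
      simp [map_sum]
  conv_rhs => rw [eq_sum_col (P := P) x, hsum, map_sum]
  rw [down, hsum, AddSubmonoidClass.coe_finset_sum]
  exact Finset.sum_congr rfl fun j _ => (ret_mul (polar_rat hR (rat_col j) hr)).symm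

theorem eq_zero_of_polar_rat (hR : IsRatForm Q F₀ P) {z : ι → F}
    (h : ∀ r, Rat F₀ P r → polar Q z r = 0) : z = 0 :=
  hR.nd z fun x => SubfieldTwo.eq_zero_of_rat (polarBilin Q z) h x

/-- A vector with rational inner products is rational. -/
theorem rat_of_polar (hR : IsRatForm Q F₀ P) {z : ι → F}
    (h : ∀ r, Rat F₀ P r → polar Q z r ∈ F₀) : Rat F₀ P z := by
  have : down F₀ P z - z = 0 := eq_zero_of_polar_rat hR fun r hr => by
    rw [polar_sub_left, polar_down hR z hr, ret_of_mem (h r hr), sub_self]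
  rw [← sub_eq_zero.mp this]
  exact rat_down z

theorem exists_represent (hnd : PolarND Q) (φ : (ι → F) →ₗ[F] F) :
    ∃ w, ∀ x, polar Q w x = φ x := by
  have hinj : Function.Injective (polarBilin Q) := by
    rw [← LinearMap.ker_eq_bot, Submodule.eq_bot_iff]
    exact fun u hu => hnd u fun x => LinearMap.congr_fun hu x
  obtain ⟨w, hw⟩ := (LinearMap.injective_iff_surjective_of_finrank_eq_finrank
    (Subspace.dual_finrank_eq).symm).mp hinj φ
  exact ⟨w, fun x => LinearMap.congr_fun hw x⟩

/-- A rational vector orthogonal to a list, with value one at a rational vector outside its span. -/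
theorem exists_dual (hR : IsRatForm Q F₀ P) {k : ℕ} (p : Fin k → ι → F)
    (hp : ∀ i, Rat F₀ P (p i)) {y : ι → F} (hy : Rat F₀ P y)
    (hn : y ∉ Submodule.span F (Set.range p)) :
    ∃ z, Rat F₀ P z ∧ (∀ i, polar Q z (p i) = 0) ∧ polar Q z y = 1 := by
  obtain ⟨ξ, hξ, hU⟩ := Submodule.exists_dual_map_eq_bot_of_notMem hn inferInstance
  obtain ⟨w, hw⟩ := exists_represent hR.nd ((ξ y)⁻¹ • ξ)
  refine ⟨down F₀ P w, rat_down w, fun i => ?_, ?_⟩
  · rw [polar_down hR w (hp i), hw, LinearMap.smul_apply,
      (Submodule.eq_bot_iff _).mp hU (ξ (p i)) ⟨_, Submodule.subset_span ⟨i, rfl⟩, rfl⟩, smul_zero,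
      map_zero]
    rfl
  · rw [polar_down hR w hy, hw, LinearMap.smul_apply, smul_eq_mul, inv_mul_cancel₀ hξ,
      ret_of_mem (one_mem F₀)]

theorem exists_dual_one (hR : IsRatForm Q F₀ P) {y : ι → F} (hy : Rat F₀ P y) (hy0 : y ≠ 0) :
    ∃ z, Rat F₀ P z ∧ polar Q z y = 1 := by
  obtain ⟨z, hz, -, h⟩ := exists_dual hR ![] (fun i => i.elim0) hy (by simpa using hy0)
  exact ⟨z, hz, h⟩

/-- Rational vectors detecting the span of a list. -/
theorem exists_detect (hR : IsRatForm Q F₀ P) : ∀ {k : ℕ} (p : Fin k → ι → F),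
    (∀ i, Rat F₀ P (p i)) → ∃ q : Fin k → ι → F, (∀ i, Rat F₀ P (q i)) ∧
      ∀ v ∈ Submodule.span F (Set.range p), (∀ i, polar Q v (q i) = 0) → v = 0 := by
  intro k
  induction k with
  | zero => exact fun p _ => ⟨p, fun i => i.elim0, fun v hv _ => by simpa using hv⟩
  | succ k ih =>
    intro p hp
    obtain ⟨q, hq, hdet⟩ := ih (fun i => p i.succ) fun i => hp i.succ
    have hsplit : ∀ v ∈ Submodule.span F (Set.range p), ∃ c : F,
        ∃ v' ∈ Submodule.span F (Set.range fun i : Fin k => p i.succ), c • p 0 + v' = v := by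
      intro v hv
      obtain ⟨c, rfl⟩ := (Submodule.mem_span_range_iff_exists_fun F).mp hv
      exact ⟨c 0, ∑ i : Fin k, c i.succ • p i.succ,
        Submodule.sum_mem _ fun i _ => Submodule.smul_mem _ _ (Submodule.subset_span ⟨i, rfl⟩),
        (Fin.sum_univ_succ (fun i => c i • p i)).symm⟩
    by_cases h0 : p 0 ∈ Submodule.span F (Set.range fun i : Fin k => p i.succ)
    · refine ⟨Fin.cons 0 q, Fin.cases (by simpa using rat_zero) (by simpa using hq),
        fun v hv h => ?_⟩
      obtain ⟨c, v', hv', rfl⟩ := hsplit v hv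
      exact hdet _ (add_mem (Submodule.smul_mem _ _ h0) hv') fun i => by simpa using h i.succ
    · obtain ⟨e, he, hep, he1⟩ := exists_dual hR _ (fun i => hp (Fin.succ i)) (hp 0) h0
      refine ⟨Fin.cons e q, Fin.cases (by simpa using he) (by simpa using hq), fun v hv h => ?_⟩
      obtain ⟨c, v', hv', rfl⟩ := hsplit v hv
      have hv'e : polar Q e v' = 0 := by
        have : Submodule.span F (Set.range fun i : Fin k => p i.succ) ≤
            LinearMap.ker (polarBilin Q e) :=
          Submodule.span_le.mpr (by rintro _ ⟨i, rfl⟩; exact hep i)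
        exact this hv'
      have hc := h 0
      rw [Fin.cons_zero, polar_comm, polar_add_right, polar_smul_right, he1, hv'e, add_zero,
        smul_eq_mul, mul_one] at hc
      subst hc
      rw [zero_smul, zero_add] at h ⊢
      exact hdet _ hv' fun i => by simpa using h i.succ

/-- A rational singular vector orthogonal to a list. -/
theorem exists_singular (hR : IsRatForm Q F₀ P) {k : ℕ} (p : Fin k → ι → F)
    (hp : ∀ i, Rat F₀ P (p i)) (hk : k + 3 ≤ Fintype.card ι) :
    ∃ x, Rat F₀ P x ∧ x ≠ 0 ∧ Q x = 0 ∧ ∀ i, polar Q x (p i) = 0 := by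
  let up : (ι → F₀) → ι → F := fun u => ∑ j, (u j : F) • col P j
  have hup : ∀ u, Rat F₀ P (up u) := fun u =>
    rat_sum _ fun j _ => rat_smul (SetLike.coe_mem _) (rat_col j)
  have hadd : ∀ u v, up (u + v) = up u + up v := fun u v => by
    simp [up, add_smul, Finset.sum_add_distrib]
  have hsmul : ∀ (s : F₀) u, up (s • u) = (s : F) • up u := fun s u => by
    simp [up, Finset.smul_sum, smul_smul]
  have hpb : ∀ u v, polar (fun u => (⟨Q (up u), hR.val _ (hup u)⟩ : F₀)) u v =
      ⟨polar Q (up u) (up v), polar_rat hR (hup u) (hup v)⟩ := fun u v => Subtype.ext (by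
    simp [polar, hadd])
  let Q₀ : QuadraticForm F₀ (ι → F₀) :=
    QuadraticMap.ofPolar (fun u => (⟨Q (up u), hR.val _ (hup u)⟩ : F₀))
      (fun s u => Subtype.ext (by simp [hsmul, form_smul]))
      (fun u v w => by
        rw [hpb, hpb, hpb]
        exact Subtype.ext (by simp [hadd, polar_add_left]))
      (fun s u v => by
        rw [hpb, hpb]
        exact Subtype.ext (by simp [hsmul]))
  let L : (ι → F₀) →ₗ[F₀] (Fin k → F₀) :=
    { toFun := fun u i => ⟨polar Q (up u) (p i), polar_rat hR (hup u) (hp i)⟩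
      map_add' := fun u v => funext fun i => Subtype.ext (by simp [hadd, polar_add_left])
      map_smul' := fun s u => funext fun i => Subtype.ext (by simp [hsmul]) }
  obtain ⟨u, hu, hu0, huQ⟩ := OrthStab.exists_singular_mem (Q := Q₀) (LinearMap.ker L) (by
    have h1 := LinearMap.finrank_range_add_finrank_ker L
    have h2 := Submodule.finrank_le (LinearMap.range L)
    simp at h1 h2
    omega)
  refine ⟨up u, hup u, fun h => hu0 (funext fun j => Subtype.ext ?_), congrArg Subtype.val huQ,
    fun i => congrArg Subtype.val (congrFun hu i)⟩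
  have e : up u = (P : Matrix ι ι F) *ᵥ fun j => (u j : F) := by
    rw [pi_eq_sum_univ' fun j => (u j : F), mulVec_sum]
    simp [up, col, mulVec_smul]
  rw [e] at h
  exact congrFun (MaxSub.mulVec_injective P (h.trans (mulVec_zero _).symm)) j

/-- A rational singular vector orthogonal to a list and outside its span. -/
theorem exists_singular_out (hR : IsRatForm Q F₀ P) {k : ℕ} (p : Fin k → ι → F)
    (hp : ∀ i, Rat F₀ P (p i)) (hk : 2 * k + 3 ≤ Fintype.card ι) :
    ∃ x, Rat F₀ P x ∧ Q x = 0 ∧ (∀ i, polar Q x (p i) = 0) ∧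
      x ∉ Submodule.span F (Set.range p) := by
  obtain ⟨q, hq, hdet⟩ := exists_detect hR p hp
  obtain ⟨x, hx, hx0, hxQ, hxp⟩ := exists_singular hR (Fin.append p q)
    (Fin.addCases (fun i => by rw [Fin.append_left]; exact hp i)
      (fun i => by rw [Fin.append_right]; exact hq i)) (by omega)
  refine ⟨x, hx, hxQ, fun i => by simpa using hxp (Fin.castAdd k i), fun hm => hx0 ?_⟩
  exact hdet x hm fun i => by
    have := hxp (Fin.natAdd k i)
    rwa [Fin.append_right] at this

/-- A rational singular vector orthogonal to a list and not to a vector outside its span. -/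
theorem exists_singular_sep (hR : IsRatForm Q F₀ P) {k : ℕ} (p : Fin k → ι → F)
    (hp : ∀ i, Rat F₀ P (p i)) {x : ι → F} (hx : Rat F₀ P x)
    (hxn : x ∉ Submodule.span F (Set.range p)) (hk : k ≤ 2) :
    ∃ s, Rat F₀ P s ∧ Q s = 0 ∧ (∀ i, polar Q s (p i) = 0) ∧ polar Q s x ≠ 0 := by
  have hn := hR.dim
  obtain ⟨r, hr, hrQ, hrp, hrn⟩ := exists_singular_out hR (Fin.cons x p)
    (Fin.cases (by simpa using hx) (by simpa using hp)) (by omega)
  have hrx : polar Q r x = 0 := by simpa using hrp 0
  obtain ⟨e, he, hep, her⟩ := exists_dual hR (Fin.cons x p)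
    (Fin.cases (by simpa using hx) (by simpa using hp)) hr hrn
  obtain ⟨d, hd, hdp, hdx⟩ := exists_dual hR p hp hx hxn
  have hex : polar Q e x = 0 := by simpa using hep 0
  -- add the dual of `r` and shift along `r`
  set d' := d + (1 - polar Q d r) • e with hd'
  have hd'R : Rat F₀ P d' := rat_add hd (rat_smul (sub_mem (one_mem _) (polar_rat hR hd hr)) he)
  have hd'r : polar Q d' r = 1 := by
    rw [hd', polar_add_left, polar_smul_left, her]; simp
  refine ⟨d' + (-Q d') • r, rat_add hd'R (rat_smul (neg_mem (hR.val _ hd'R)) hr), ?_,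
    fun i => ?_, ?_⟩
  · rw [form_add, form_smul, hrQ, polar_smul_right, hd'r]; simp
  · rw [hd', polar_add_left, polar_add_left, polar_smul_left, polar_smul_left, hdp,
      show polar Q e (p i) = 0 by simpa using hep i.succ,
      show polar Q r (p i) = 0 by simpa using hrp i.succ]
    simp
  · rw [hd', polar_add_left, polar_add_left, polar_smul_left, polar_smul_left, hdx, hex, hrx]
    simp

/-- A subfield between `F₀` and `F` of prime index is one of them. -/
theorem subfield_cases {r : ℕ} (hr : r.Prime) (hcard : Nat.card F = Nat.card F₀ ^ r)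
    {K : Subfield F} (hle : F₀ ≤ K) : (∀ x ∈ K, x ∈ F₀) ∨ ∀ x : F, x ∈ K := by
  have hfin : Module.finrank F₀ F = r := by
    have h := Module.natCard_eq_pow_finrank (K := F₀) (V := F)
    rw [hcard] at h
    exact (Nat.pow_right_injective Finite.one_lt_card h).symm
  haveI := Subalgebra.isSimpleOrder_of_finrank_prime F₀ F (hfin.symm ▸ hr)
  let S : Subalgebra F₀ F :=
    { K.toSubring.toSubsemiring with algebraMap_mem' := fun x => hle x.2 }
  rcases eq_bot_or_eq_top S with h | h
  · refine Or.inl fun x hx => ?_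
    have : x ∈ S := hx
    rw [h, Algebra.mem_bot] at this
    obtain ⟨y, rfl⟩ := this
    exact y.2
  · exact Or.inr fun x => show x ∈ S from h ▸ Algebra.mem_top

end Cfsg.Agent.SubfieldQuad
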