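import Cfsg.Agent.MaxSub.SubfieldQuadRing

/-!
A root element at an irrational plane with a rational singular vector orthogonal to it gives an
irrational coefficient (helper24).
-/

set_option autoImplicit false
set_option linter.unusedSectionVars false

namespace Cfsg.Agent.SubfieldQuad

open QuadraticMap Matrix Cfsg.Agent.UnitaryOrthogonal Cfsg.Agent.SubfieldTwo

variable {ι : Type} [Fintype ι] [DecidableEq ι] {F : Type*} [Field F] [Finite F]
variable {Q : QuadraticForm F (ι → F)} {F₀ : Subfield F} {P : GL ι F}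
variable {M : Subgroup (orth Q)}

/-- The plane of `u` and `w` is spanned by rational vectors. -/
def RatPlane (F₀ : Subfield F) (P : GL ι F) (u w : ι → F) : Prop :=
  ∃ p q, Rat F₀ P p ∧ Rat F₀ P q ∧ (∃ a b : F, u = a • p + b • q) ∧ ∃ a b : F, w = a • p + b • q

/-- An irrational coefficient of all rational root elements. -/
def Good (Q : QuadraticForm F (ι → F)) (F₀ : Subfield F) (P : GL ι F) (M : Subgroup (orth Q)) :
    Prop :=
  ∃ a ∉ F₀, Spread Q F₀ P M a

variable (hR : IsRatForm Q F₀ P) (hM : RatIn Q F₀ P M)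
include hR hM

theorem good_of_inA {b z : ι → F} (hb : Rat F₀ P b) (hbQ : Q b = 0) (hb0 : b ≠ 0)
    (h : InA M b z) (hz : ¬ ∃ z₀, Rat F₀ P z₀ ∧ ∃ c : F, z = z₀ + c • b) : Good Q F₀ P M := by
  by_contra hg
  have sing : ∀ c, Rat F₀ P c → Q c = 0 → polar Q b c = 0 → polar Q c z ∈ F₀ := by
    intro c hc hcQ hbc
    by_contra hne
    have hcn : c ∉ Submodule.span F {b} := fun hm => hne (by
      obtain ⟨γ, rfl⟩ := Submodule.mem_span_singleton.mp hm
      rw [polar_smul_left, h.1, smul_zero]; exact zero_mem F₀)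
    have h1 := inA_coeff hR hM hb hbQ hc hcQ hbc h (one_mem F₀)
    rw [one_mul] at h1
    exact hg ⟨_, hne, spread_of_one hR hM hb hbQ hb0 hc hcQ hbc hcn h1⟩
  have all : ∀ x, Rat F₀ P x → polar Q b x = 0 → polar Q z x ∈ F₀ := by
    intro x hx hbx
    by_cases hxQ : Q x = 0
    · rw [polar_comm]; exact sing x hx hxQ hbx
    have hxn : x ∉ Submodule.span F {b} := fun hm => hxQ (by
      obtain ⟨γ, rfl⟩ := Submodule.mem_span_singleton.mp hm
      rw [form_smul, hbQ, mul_zero])
    obtain ⟨r, hr, hrQ, hrb, hrx⟩ := exists_singular_sep hR ![b]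
      (by intro i; fin_cases i; simpa) hx (notMem_single hxn) (by norm_num)
    have hbr : polar Q b r = 0 := by rw [polar_comm]; exact hrb 0
    set t := -Q x / polar Q r x
    have ht : t ∈ F₀ := div_mem (neg_mem (hR.val x hx)) (polar_rat hR hr hx)
    have h1 := sing (x + t • r) (rat_add hx (rat_smul ht hr)) (by
      rw [form_add, form_smul, hrQ, polar_smul_right, polar_comm Q x r, smul_eq_mul]
      simp [t, div_mul_cancel₀ _ hrx])
      (by rw [polar_add_right, polar_smul_right, hbx, hbr]; simp)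
    have h2 := sing r hr hrQ hbr
    rw [polar_comm, polar_add_right, polar_smul_right, polar_comm Q z r, smul_eq_mul] at h1
    have := sub_mem h1 (mul_mem ht h2)
    rwa [add_sub_cancel_right] at this
  obtain ⟨d, hd, hdb⟩ := exists_dual_one hR hb hb0
  have hbd : polar Q b d = 1 := by rw [polar_comm]; exact hdb
  set γ := polar Q z d
  refine hz ⟨z - γ • b, rat_of_polar hR fun x hx => ?_, γ, by abel⟩
  have hzb : polar Q z b = 0 := by rw [polar_comm]; exact h.1
  have h1 := all (x - polar Q b x • d) (rat_sub hx (rat_smul (polar_rat hR hb hx) hd))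
    (by rw [polar_sub_right, polar_smul_right, hbd, smul_eq_mul, mul_one, sub_self])
  rw [polar_sub_right, polar_smul_right, smul_eq_mul] at h1
  rw [polar_sub_left, polar_smul_left, smul_eq_mul, mul_comm]
  exact h1

omit hM in
theorem exists_two {b u w : ι → F} (hb : Rat F₀ P b) (hbQ : Q b = 0) (hb0 : b ≠ 0)
    (hbu : polar Q b u = 0) (hbw : polar Q b w = 0)
    (hind : ∀ s t : F, ∀ c : F, s • u + t • w + c • b = 0 → s = 0 ∧ t = 0) :
    ∃ z₁ z₂, Rat F₀ P z₁ ∧ Rat F₀ P z₂ ∧ polar Q b z₁ = 0 ∧ polar Q b z₂ = 0 ∧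
      polar Q z₁ u * polar Q z₂ w - polar Q z₂ u * polar Q z₁ w ≠ 0 := by
  by_contra hcon
  simp only [not_exists, not_and, not_not] at hcon
  obtain ⟨d, hd, hdb⟩ := exists_dual_one hR hb hb0
  have hbd : polar Q b d = 1 := by rw [polar_comm]; exact hdb
  set v : ι → ι → F := fun j => col P j - polar Q b (col P j) • d
  have hv : ∀ j, Rat F₀ P (v j) ∧ polar Q b (v j) = 0 := fun j =>
    ⟨rat_sub (rat_col j) (rat_smul (polar_rat hR hb (rat_col j)) hd), by
      rw [polar_sub_right, polar_smul_right, hbd, smul_eq_mul, mul_one, sub_self]⟩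
  -- the pairing with `u` and with `w` are proportional on the vectors orthogonal to `b`
  obtain ⟨s, t, hst, hzero⟩ : ∃ s t : F, (s ≠ 0 ∨ t ≠ 0) ∧
      ∀ j, s * polar Q (v j) u + t * polar Q (v j) w = 0 := by
    by_cases h : ∀ j, polar Q (v j) u = 0
    · exact ⟨1, 0, Or.inl one_ne_zero, fun j => by simp [h j]⟩
    obtain ⟨i, hi⟩ := not_forall.mp h
    exact ⟨polar Q (v i) w, -polar Q (v i) u, Or.inr (neg_ne_zero.mpr hi), fun j => by
      linear_combination hcon (v j) (v i) (hv j).1 (hv i).1 (hv j).2 (hv i).2⟩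
  set l := s • u + t • w with hl
  have hlb : polar Q b l = 0 := by
    rw [hl, polar_add_right, polar_smul_right, polar_smul_right, hbu, hbw]; simp
  have h0 : l + (-polar Q l d) • b = 0 := by
    refine eq_zero_of_polar_rat hR fun x hx => ?_
    refine SubfieldTwo.eq_zero_of_rat (F₀ := F₀) (P := P) (polarBilin Q _) (fun y hy => ?_) x
    show polar Q _ y = 0
    have e : y = ∑ j, coord P y j • v j + polar Q b y • d := by
      have h1 : polar Q b y = ∑ j, coord P y j * polar Q b (col P j) := by
        conv_lhs => rw [eq_sum_col (P := P) y]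
        show polarBilin Q b _ = _
        simp [map_sum]
      simp only [v, smul_sub, smul_smul, Finset.sum_sub_distrib, ← Finset.sum_smul, ← h1,
        sub_add_cancel]
      exact eq_sum_col y
    rw [e, polar_add_right]
    have h2 : ∀ j, polar Q (l + (-polar Q l d) • b) (v j) = 0 := fun j => by
      rw [polar_add_left, polar_smul_left, (hv j).2, hl, polar_add_left, polar_smul_left,
        polar_smul_left, polar_comm Q u, polar_comm Q w]
      simp [hzero j]
    have h3 : polar Q (l + (-polar Q l d) • b) d = 0 := by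
      rw [polar_add_left, polar_smul_left, hbd, smul_eq_mul, mul_one, add_neg_cancel]
    rw [polar_smul_right, h3, smul_zero, add_zero]
    show polarBilin Q _ _ = 0
    rw [map_sum]
    exact Finset.sum_eq_zero fun j _ => by
      rw [map_smul, show polarBilin Q (l + (-polar Q l d) • b) (v j) = 0 from h2 j, smul_zero]
  obtain ⟨hs, ht⟩ := hind s t (-polar Q l d) h0
  exact hst.elim (fun h => h hs) (fun h => h ht)

/-- A root element at an irrational plane orthogonal to a rational singular vector. -/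
theorem good_of_plane {b u w : ι → F} (hb : Rat F₀ P b) (hbQ : Q b = 0) (hb0 : b ≠ 0)
    (huQ : Q u = 0) (hwQ : Q w = 0) (huw : polar Q u w = 0)
    (hbu : polar Q b u = 0) (hbw : polar Q b w = 0) (hk : eich Q u w ∈ M)
    (huw' : ∀ s t : F, s • u + t • w = 0 → s = 0 ∧ t = 0)
    (hpl : ¬ RatPlane F₀ P u w) : Good Q F₀ P M := by
  by_contra hg
  have hwu : polar Q w u = 0 := by rw [polar_comm]; exact huw
  -- the plane contains no rational singular vector orthogonal to it
  have outside : ∀ b, Rat F₀ P b → Q b = 0 → b ≠ 0 → polar Q b u = 0 → polar Q b w = 0 →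
      ∀ s t c : F, s • u + t • w + c • b = 0 → s = 0 ∧ t = 0 := by
    intro b hb hbQ hb0 hbu hbw
    have key : ∀ u w : ι → F, Q u = 0 → polar Q u w = 0 → polar Q b w = 0 → eich Q u w ∈ M →
        ¬ RatPlane F₀ P u w → ∀ s t : F, s ≠ 0 → s • u + t • w ≠ b := by
      intro u w huQ huw hbw hk hpl s t hs e
      have hu : u = s⁻¹ • b + (-(t / s)) • w := by
        rw [← e, smul_add, smul_smul, smul_smul, inv_mul_cancel₀ hs, one_smul, div_eq_mul_inv]
        module
      have h1 : InA M b (s⁻¹ • w) := by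
        refine ⟨by rw [polar_smul_right, hbw, smul_zero], ?_⟩
        convert! hk using 1
        refine orth_ext fun x => ?_
        rw [eich_apply hbQ (by rw [polar_smul_right, hbw, smul_zero]), eich_apply huQ huw]
        conv_rhs => rw [hu]
        simp only [form_smul, polar_smul_left, polar_add_left, smul_eq_mul]
        have hwQ' : t = 0 ∨ Q w = 0 := by
          by_cases ht : t = 0
          · exact Or.inl ht
          · right
            have h := congrArg (fun v => Q v) e
            simp only [form_add, form_smul, polar_smul_left, polar_smul_right, huQ, huw,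
              hbQ, smul_eq_mul, mul_zero, zero_add, add_zero] at h
            exact (mul_eq_zero.mp h).resolve_left (mul_ne_zero ht ht)
        rcases hwQ' with ht | hw
        · subst ht; simp only [zero_div, neg_zero, zero_smul, zero_mul, add_zero]; module
        · simp only [hw]; module
      refine hg (good_of_inA hR hM hb hbQ hb0 h1 ?_)
      rintro ⟨z₀, hz₀, c, hc⟩
      refine hpl ⟨b, z₀, hb, hz₀, ?_⟩
      have hw : w = (s * c) • b + s • z₀ := by
        rw [mul_smul, ← smul_add, add_comm, ← hc, smul_smul, mul_inv_cancel₀ hs, one_smul]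
      exact ⟨⟨s⁻¹ + (-(t / s)) * (s * c), (-(t / s)) * s, by
        conv_lhs => rw [hu, hw]
        module⟩, ⟨_, _, hw⟩⟩
    intro s t c h
    by_cases hc : c = 0
    · subst hc
      rw [zero_smul, add_zero] at h
      exact huw' s t h
    · exfalso
      set s' := -(c⁻¹ * s) with hs'
      set t' := -(c⁻¹ * t) with ht'
      have e : s' • u + t' • w = b := by
        have h1 := congrArg (fun v => c⁻¹ • v) h
        simp only [smul_add, smul_smul, inv_mul_cancel₀ hc, one_smul, smul_zero] at h1
        rw [hs', ht', neg_smul, neg_smul, ← sub_eq_zero, ← neg_eq_zero]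
        rw [← h1]
        abel
      by_cases hs0 : s' = 0
      · by_cases ht0 : t' = 0
        · exact hb0 (by rw [← e, hs0, ht0]; simp)
        · have hk' : eich Q w (-u) ∈ M := by
            convert! hk using 1
            refine orth_ext fun x => ?_
            rw [eich_apply hwQ (by rw [polar_neg_right, hwu, neg_zero]), eich_apply huQ huw]
            simp only [QuadraticMap.map_neg, huQ, hwQ, polar_neg_left]
            module
          refine key w (-u) hwQ (by rw [polar_neg_right, hwu, neg_zero])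
            (by rw [polar_neg_right, hbu, neg_zero]) hk' ?_ t' 0 ht0 (by rw [← e, hs0]; simp)
          rintro ⟨p, q, hp, hq, hw', α, β, hu'⟩
          exact hpl ⟨p, q, hp, hq, ⟨-α, -β, by rw [← neg_neg u, hu']; module⟩, hw'⟩
      · exact key u w huQ huw hbw hk hpl s' t' hs0 e
  -- a rational space of dimension three containing the plane
  have three : ∀ b, Rat F₀ P b → Q b = 0 → b ≠ 0 → polar Q b u = 0 → polar Q b w = 0 →
      ∃ z₁ z₂, Rat F₀ P z₁ ∧ Rat F₀ P z₂ ∧ (∃ a a' c : F, u = a • z₁ + a' • z₂ + c • b) ∧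
        ∃ a a' c : F, w = a • z₁ + a' • z₂ + c • b := by
    intro b hb hbQ hb0 hbu hbw
    have hub : polar Q u b = 0 := by rw [polar_comm]; exact hbu
    have hwb : polar Q w b = 0 := by rw [polar_comm]; exact hbw
    obtain ⟨z₁, z₂, hz₁, hz₂, hz₁b, hz₂b, hD⟩ :=
      exists_two hR hb hbQ hb0 hbu hbw (outside b hb hbQ hb0 hbu hbw)
    have img : ∀ z, Rat F₀ P z → polar Q b z = 0 → ∃ z₀, Rat F₀ P z₀ ∧ ∃ c : F,
        polar Q z u • w - polar Q z w • u = z₀ + c • b := by
      intro z hz hbz
      by_contra hne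
      refine hg (good_of_inA hR hM hb hbQ hb0 ?_ hne)
      have h1 := inA_map hk (inA_rat hR hM hb hz hbQ hbz)
      have hfix : (eich Q u w).1 b = b := by
        rw [eich_apply huQ huw, hub, hwb]; simp
      rw [hfix, eich_apply huQ huw, hwQ] at h1
      have h2 := inA_sub hbQ h1 (inA_rat hR hM hb hz hbQ hbz)
      convert! h2 using 1
      rw [polar_comm Q z u, polar_comm Q z w]
      module
    obtain ⟨y₁, hy₁, c₁, e₁⟩ := img z₁ hz₁ hz₁b
    obtain ⟨y₂, hy₂, c₂, e₂⟩ := img z₂ hz₂ hz₂b
    set D := polar Q z₁ u * polar Q z₂ w - polar Q z₂ u * polar Q z₁ w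
    refine ⟨y₁, y₂, hy₁, hy₂,
      ⟨D⁻¹ * polar Q z₂ u, -(D⁻¹ * polar Q z₁ u),
        D⁻¹ * (polar Q z₂ u * c₁ - polar Q z₁ u * c₂), ?_⟩,
      ⟨D⁻¹ * polar Q z₂ w, -(D⁻¹ * polar Q z₁ w),
        D⁻¹ * (polar Q z₂ w * c₁ - polar Q z₁ w * c₂), ?_⟩⟩
    · have : D • u = polar Q z₂ u • (y₁ + c₁ • b) - polar Q z₁ u • (y₂ + c₂ • b) := by
        rw [← e₁, ← e₂]; simp only [D]; module
      conv_lhs => rw [← inv_smul_smul₀ hD u, this]
      module
    · have : D • w = polar Q z₂ w • (y₁ + c₁ • b) - polar Q z₁ w • (y₂ + c₂ • b) := by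
        rw [← e₁, ← e₂]; simp only [D]; module
      conv_lhs => rw [← inv_smul_smul₀ hD w, this]
      module
  obtain ⟨p₁, p₂, hp₁, hp₂, ⟨a, a', c, hu⟩, d, d', e, hw⟩ := three b hb hbQ hb0 hbu hbw
  have hp : ∀ i, Rat F₀ P (![p₁, p₂, b] i) := by intro i; fin_cases i <;> simpa
  have hn := hR.dim
  obtain ⟨b', hb', hb'Q, hb'p, hb'n⟩ := exists_singular_out hR ![p₁, p₂, b] hp (by omega)
  obtain ⟨z, hz, hzp, hzb'⟩ := exists_dual hR ![p₁, p₂, b] hp hb' hb'n
  have hb'0 : b' ≠ 0 := fun h => hb'n (h ▸ zero_mem _)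
  have hb'u : polar Q b' u = 0 := by
    rw [hu, polar_add_right, polar_add_right, polar_smul_right, polar_smul_right, polar_smul_right,
      show polar Q b' p₁ = 0 from hb'p 0, show polar Q b' p₂ = 0 from hb'p 1,
      show polar Q b' b = 0 from hb'p 2]
    simp
  have hb'w : polar Q b' w = 0 := by
    rw [hw, polar_add_right, polar_add_right, polar_smul_right, polar_smul_right, polar_smul_right,
      show polar Q b' p₁ = 0 from hb'p 0, show polar Q b' p₂ = 0 from hb'p 1,
      show polar Q b' b = 0 from hb'p 2]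
    simp
  obtain ⟨q₁, q₂, hq₁, hq₂, ⟨α, α', γ, hu'⟩, δ, δ', ε, hw'⟩ := three b' hb' hb'Q hb'0 hb'u hb'w
  have hzu : polar Q z u = 0 := by
    rw [hu, polar_add_right, polar_add_right, polar_smul_right, polar_smul_right, polar_smul_right,
      show polar Q z p₁ = 0 from hzp 0, show polar Q z p₂ = 0 from hzp 1,
      show polar Q z b = 0 from hzp 2]
    simp
  have hzw : polar Q z w = 0 := by
    rw [hw, polar_add_right, polar_add_right, polar_smul_right, polar_smul_right, polar_smul_right,
      show polar Q z p₁ = 0 from hzp 0, show polar Q z p₂ = 0 from hzp 1,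
      show polar Q z b = 0 from hzp 2]
    simp
  simp only [hu', hw', polar_add_right, polar_smul_right, hzb', smul_eq_mul, mul_one] at hzu hzw
  refine hpl ⟨q₁ - polar Q z q₁ • b', q₂ - polar Q z q₂ • b',
    rat_sub hq₁ (rat_smul (polar_rat hR hz hq₁) hb'), rat_sub hq₂ (rat_smul (polar_rat hR hz hq₂) hb'),
    ⟨α, α', ?_⟩, δ, δ', ?_⟩
  · rw [hu', show γ = -(α * polar Q z q₁ + α' * polar Q z q₂) by linear_combination hzu]
    module
  · rw [hw', show ε = -(δ * polar Q z q₁ + δ' * polar Q z q₂) by linear_combination hzw]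
    module

end Cfsg.Agent.SubfieldQuad
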