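import Cfsg.Agent.MaxSub.SubfieldQuadEntry

/-!
Rational hyperbolic frames, and points on two rational planes (helper24).
-/

set_option autoImplicit false
set_option linter.unusedSectionVars false

namespace Cfsg.Agent.SubfieldQuad

open QuadraticMap Matrix Cfsg.Agent.UnitaryOrthogonal Cfsg.Agent.SubfieldTwo

variable {ι : Type} [Fintype ι] [DecidableEq ι] {F : Type*} [Field F] [Finite F]
variable {Q : QuadraticForm F (ι → F)} {F₀ : Subfield F} {P : GL ι F}

/-- A rational hyperbolic frame of rank four whose first plane is non-degenerately paired with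
`u, w`. -/
structure IsFrame (Q : QuadraticForm F (ι → F)) (F₀ : Subfield F) (P : GL ι F) (u w : ι → F)
    (e f : Fin 4 → ι → F) : Prop where
  ratE : ∀ i, Rat F₀ P (e i)
  ratF : ∀ i, Rat F₀ P (f i)
  qE : ∀ i, Q (e i) = 0
  qF : ∀ i, Q (f i) = 0
  ee : ∀ i j, polar Q (e i) (e j) = 0
  ef : ∀ i j, polar Q (e i) (f j) = if i = j then 1 else 0
  ff : ∀ i j, i ≠ j → polar Q (f i) (f j) = 0
  det : polar Q (e 0) u * polar Q (e 1) w - polar Q (e 1) u * polar Q (e 0) w ≠ 0

variable (hR : IsRatForm Q F₀ P)
include hR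

theorem exists_frame {u w : ι → F} (huQ : Q u = 0) (hwQ : Q w = 0) (huw : polar Q u w = 0)
    (huw' : ∀ s t : F, s • u + t • w = 0 → s = 0 ∧ t = 0)
    (hN : ∀ b, Rat F₀ P b → Q b = 0 → polar Q b u = 0 → polar Q b w = 0 → b = 0) :
    ∃ e f, IsFrame Q F₀ P u w e f := by
  have hn := hR.dim
  have hwu : polar Q w u = 0 := by rw [polar_comm]; exact huw
  obtain ⟨e₀, he₀, he₀0, he₀Q, -⟩ := exists_singular hR ![] (fun i => i.elim0) (by omega)
  obtain ⟨e₁, he₁, he₁Q, h01, hdet⟩ : ∃ e₁, Rat F₀ P e₁ ∧ Q e₁ = 0 ∧ polar Q e₀ e₁ = 0 ∧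
      polar Q e₀ u * polar Q e₁ w - polar Q e₁ u * polar Q e₀ w ≠ 0 := by
    by_contra hcon
    simp only [not_exists, not_and, not_not] at hcon
    set α := polar Q e₀ u
    set β := polar Q e₀ w
    set l := β • u - α • w with hl
    have sing : ∀ c, Rat F₀ P c → Q c = 0 → polar Q e₀ c = 0 → polar Q c l = 0 := fun c hc hcQ h => by
      rw [hl, polar_sub_right, polar_smul_right, polar_smul_right, smul_eq_mul, smul_eq_mul]
      linear_combination -(hcon c hc hcQ h)
    have all : ∀ x, Rat F₀ P x → polar Q e₀ x = 0 → polar Q x l = 0 := by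
      intro x hx hex
      by_cases hxQ : Q x = 0
      · exact sing x hx hxQ hex
      have hxn : x ∉ Submodule.span F {e₀} := fun hm => hxQ (by
        obtain ⟨γ, rfl⟩ := Submodule.mem_span_singleton.mp hm
        rw [form_smul, he₀Q, mul_zero])
      obtain ⟨r, hr, hrQ, hre, hrx⟩ := exists_singular_sep hR ![e₀]
        (by intro i; fin_cases i; simpa) hx (notMem_single hxn) (by norm_num)
      have her : polar Q e₀ r = 0 := by rw [polar_comm]; exact hre 0
      set t := -Q x / polar Q r x
      have ht : t ∈ F₀ := div_mem (neg_mem (hR.val x hx)) (polar_rat hR hr hx)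
      have h1 := sing (x + t • r) (rat_add hx (rat_smul ht hr)) (by
        rw [form_add, form_smul, hrQ, polar_smul_right, polar_comm Q x r, smul_eq_mul]
        simp [t, div_mul_cancel₀ _ hrx])
        (by rw [polar_add_right, polar_smul_right, hex, her]; simp)
      rwa [polar_add_left, polar_smul_left, sing r hr hrQ her, smul_zero, add_zero] at h1
    obtain ⟨d, hd, hde⟩ := exists_dual_one hR he₀ he₀0
    have hed : polar Q e₀ d = 1 := by rw [polar_comm]; exact hde
    have hz : l - polar Q d l • e₀ = 0 := by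
      refine eq_zero_of_polar_rat hR fun x hx => ?_
      have h1 := all (x - polar Q e₀ x • d) (rat_sub hx (rat_smul (polar_rat hR he₀ hx) hd))
        (by rw [polar_sub_right, polar_smul_right, hed, smul_eq_mul, mul_one, sub_self])
      rw [polar_sub_left, polar_smul_left, smul_eq_mul] at h1
      rw [polar_sub_left, polar_smul_left, smul_eq_mul, polar_comm Q l x]
      linear_combination h1
    have hne : α ≠ 0 ∨ β ≠ 0 := by
      by_contra h
      rw [not_or, not_not, not_not] at h
      exact he₀0 (hN e₀ he₀ he₀Q h.1 h.2)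
    -- `e₀` lies in the plane
    have hlu : polar Q l u = 0 := by
      rw [hl, polar_sub_left, polar_smul_left, polar_smul_left, polar_self_eq, huQ, hwu]; simp
    have hlw : polar Q l w = 0 := by
      rw [hl, polar_sub_left, polar_smul_left, polar_smul_left, polar_self_eq, hwQ, huw]; simp
    rw [sub_eq_zero.mp hz, polar_smul_left, smul_eq_mul] at hlu hlw
    by_cases hd0 : polar Q d l = 0
    · rw [hd0, zero_smul, sub_zero, hl, sub_eq_add_neg, ← neg_smul] at hz
      obtain ⟨h1, h2⟩ := huw' _ _ hz
      rw [neg_eq_zero] at h2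
      exact hne.elim (fun h => h h2) (fun h => h h1)
    · exact hne.elim (fun h => h ((mul_eq_zero.mp hlu).resolve_left hd0))
        (fun h => h ((mul_eq_zero.mp hlw).resolve_left hd0))
  obtain ⟨e₂, he₂, he₂Q, he₂p, he₂n⟩ := exists_singular_out hR ![e₀, e₁]
    (by intro i; fin_cases i <;> simpa) (by omega)
  obtain ⟨e₃, he₃, he₃Q, he₃p, he₃n⟩ := exists_singular_out hR ![e₀, e₁, e₂]
    (by intro i; fin_cases i <;> simpa) (by omega)
  set e : Fin 4 → ι → F := ![e₀, e₁, e₂, e₃] with hedef
  have hrE : ∀ i, Rat F₀ P (e i) := by intro i; fin_cases i <;> simpa [hedef]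
  have hqE : ∀ i, Q (e i) = 0 := by intro i; fin_cases i <;> simpa [hedef]
  have hee : ∀ i j, polar Q (e i) (e j) = 0 := by
    have hs : ∀ x, Q x = 0 → polar Q x x = 0 := fun x hx => by rw [polar_self_eq, hx, mul_zero]
    have h02 : polar Q e₂ e₀ = 0 := he₂p 0
    have h12 : polar Q e₂ e₁ = 0 := he₂p 1
    have h03 : polar Q e₃ e₀ = 0 := he₃p 0
    have h13 : polar Q e₃ e₁ = 0 := he₃p 1
    have h23 : polar Q e₃ e₂ = 0 := he₃p 2
    intro i j
    fin_cases i <;> fin_cases j <;> simp [hedef, hs, he₀Q, he₁Q, he₂Q, he₃Q, h01, h02, h12, h03,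
      h13, h23, polar_comm Q e₁ e₀, polar_comm Q e₀ e₂, polar_comm Q e₀ e₃, polar_comm Q e₁ e₂,
      polar_comm Q e₁ e₃, polar_comm Q e₂ e₃]
  have hind : ∀ c : Fin 4 → F, ∑ i, c i • e i = 0 → ∀ i, c i = 0 := by
    intro c hc
    simp [Fin.sum_univ_four, hedef] at hc
    have h3 : c 3 = 0 := by
      by_contra h
      refine he₃n ?_
      have : e₃ = (-(c 0 / c 3)) • e₀ + (-(c 1 / c 3)) • e₁ + (-(c 2 / c 3)) • e₂ := by
        rw [← sub_eq_zero]
        have h1 := congrArg (fun v => (c 3)⁻¹ • v) hc
        simp only [smul_add, smul_smul, inv_mul_cancel₀ h, one_smul, smul_zero] at h1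
        rw [← h1]
        simp only [div_eq_inv_mul]
        module
      rw [this]
      exact add_mem (add_mem (Submodule.smul_mem _ _ (Submodule.subset_span ⟨0, rfl⟩))
        (Submodule.smul_mem _ _ (Submodule.subset_span ⟨1, rfl⟩)))
        (Submodule.smul_mem _ _ (Submodule.subset_span ⟨2, rfl⟩))
    rw [h3, zero_smul, add_zero] at hc
    have h2 : c 2 = 0 := by
      by_contra h
      refine he₂n ?_
      have : e₂ = (-(c 0 / c 2)) • e₀ + (-(c 1 / c 2)) • e₁ := by
        rw [← sub_eq_zero]
        have h1 := congrArg (fun v => (c 2)⁻¹ • v) hc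
        simp only [smul_add, smul_smul, inv_mul_cancel₀ h, one_smul, smul_zero] at h1
        rw [← h1]
        simp only [div_eq_inv_mul]
        module
      rw [this]
      exact add_mem (Submodule.smul_mem _ _ (Submodule.subset_span ⟨0, rfl⟩))
        (Submodule.smul_mem _ _ (Submodule.subset_span ⟨1, rfl⟩))
    rw [h2, zero_smul, add_zero] at hc
    have hu := congrArg (fun v => polar Q v u) hc
    have hw := congrArg (fun v => polar Q v w) hc
    simp only [polar_add_left, polar_smul_left, polar_zero_left, smul_eq_mul] at hu hw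
    have h0 : c 0 * (polar Q e₀ u * polar Q e₁ w - polar Q e₁ u * polar Q e₀ w) = 0 := by
      linear_combination polar Q e₁ w * hu - polar Q e₁ u * hw
    have h1 : c 1 * (polar Q e₀ u * polar Q e₁ w - polar Q e₁ u * polar Q e₀ w) = 0 := by
      linear_combination polar Q e₀ u * hw - polar Q e₀ w * hu
    intro i
    fin_cases i
    · exact (mul_eq_zero.mp h0).resolve_right hdet
    · exact (mul_eq_zero.mp h1).resolve_right hdet
    · exact h2
    · exact h3
  -- duals, one at a time
  have step : ∀ (i : Fin 4) (k : ℕ) (g : Fin k → ι → F) (a : Fin k → Fin 4),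
      (∀ l, Rat F₀ P (g l)) → (∀ l, a l ≠ i) →
      (∀ l j, polar Q (e j) (g l) = if j = a l then 1 else 0) → Function.Injective a →
      ∃ f, Rat F₀ P f ∧ Q f = 0 ∧ (∀ j, polar Q (e j) f = if j = i then 1 else 0) ∧
        ∀ l, polar Q (g l) f = 0 := by
    intro i k g a hg hai hga hinj
    set p : Fin 4 → ι → F := Function.update e i 0 with hpdef
    have hnot : e i ∉ Submodule.span F (Set.range (Fin.append p g)) := by
      intro hm
      obtain ⟨c, hc⟩ := (Submodule.mem_span_range_iff_exists_fun F).mp hm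
      rw [Fin.sum_univ_add] at hc
      simp only [Fin.append_left, Fin.append_right] at hc
      have hcg : ∀ l, c (Fin.natAdd 4 l) = 0 := fun l => by
        have h1 := congrArg (polarBilin Q (e (a l))) hc
        have hp : ∀ j, polar Q (e (a l)) (p j) = 0 := fun j => by
          by_cases hj : j = i <;> simp [hpdef, hj, hee]
        simp only [map_add, map_sum, map_smul, polarBilin_apply_apply, hp, hee, smul_eq_mul,
          mul_zero, Finset.sum_const_zero, zero_add, hga] at h1
        rw [Finset.sum_eq_single l (fun m _ hm => by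
          rw [if_neg (fun h => hm (hinj h).symm), mul_zero]) (by simp)] at h1
        simpa using h1
      simp only [hcg, zero_smul, Finset.sum_const_zero, add_zero] at hc
      have := hind (fun j => (if j = i then 0 else c (Fin.castAdd k j)) - if j = i then 1 else 0) (by
        simp only [sub_smul, Finset.sum_sub_distrib, ite_smul, zero_smul, one_smul,
          Finset.sum_ite_eq', Finset.mem_univ, if_true]
        rw [sub_eq_zero]
        conv_rhs => rw [← hc]
        exact Finset.sum_congr rfl fun j _ => by by_cases hj : j = i <;> simp [hpdef, hj]) i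
      simp at this
    obtain ⟨d, hd, hdp, hdi⟩ := exists_dual hR (Fin.append p g)
      (Fin.addCases (fun j => by
        rw [Fin.append_left]
        by_cases hj : j = i
        · simp [hpdef, hj, rat_zero]
        · simpa [hpdef, hj] using hrE j)
        (fun l => by rw [Fin.append_right]; exact hg l)) (hrE i) hnot
    have hej : ∀ j, polar Q (e j) d = if j = i then 1 else 0 := fun j => by
      by_cases hj : j = i
      · subst hj; rw [if_pos rfl, polar_comm]; exact hdi
      · have := hdp (Fin.castAdd k j)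
        rw [Fin.append_left] at this
        rw [if_neg hj, polar_comm]
        simpa [hpdef, hj] using this
    refine ⟨d + (-Q d) • e i, rat_add hd (rat_smul (neg_mem (hR.val d hd)) (hrE i)), ?_,
      fun j => ?_, fun l => ?_⟩
    · rw [form_add, form_smul, hqE, polar_smul_right, polar_comm Q d (e i), hej, if_pos rfl]; simp
    · rw [polar_add_right, polar_smul_right, hej, hee, smul_zero, add_zero]
    · have := hdp (Fin.natAdd 4 l)
      rw [Fin.append_right, polar_comm] at this
      rw [polar_add_right, polar_smul_right, this, polar_comm Q (g l) (e i), hga,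
        if_neg (hai l).symm, smul_zero, add_zero]
  obtain ⟨f₀, r₀, q₀, p₀, -⟩ := step 0 0 ![] ![] (fun l => l.elim0) (fun l => l.elim0)
    (fun l => l.elim0) (fun l => l.elim0)
  obtain ⟨f₁, r₁, q₁, p₁, g₁⟩ := step 1 1 ![f₀] ![0] (by intro l; fin_cases l; simpa)
    (by decide) (by intro l; fin_cases l; simpa) (by decide)
  obtain ⟨f₂, r₂, q₂, p₂, g₂⟩ := step 2 2 ![f₀, f₁] ![0, 1] (by intro l; fin_cases l <;> simpa)
    (by decide) (by intro l; fin_cases l <;> simpa) (by decide)
  obtain ⟨f₃, r₃, q₃, p₃, g₃⟩ := step 3 3 ![f₀, f₁, f₂] ![0, 1, 2]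
    (by intro l; fin_cases l <;> simpa) (by decide) (by intro l; fin_cases l <;> simpa) (by decide)
  refine ⟨e, ![f₀, f₁, f₂, f₃], hrE, ?_, hqE, ?_, hee, ?_, ?_, ?_⟩
  · intro i; fin_cases i <;> simpa
  · intro i; fin_cases i <;> simpa
  · intro i j; fin_cases j
    · simpa using p₀ i
    · simpa using p₁ i
    · simpa using p₂ i
    · simpa using p₃ i
  · have h01 : polar Q f₀ f₁ = 0 := g₁ 0
    have h02 : polar Q f₀ f₂ = 0 := g₂ 0
    have h12 : polar Q f₁ f₂ = 0 := g₂ 1
    have h03 : polar Q f₀ f₃ = 0 := g₃ 0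
    have h13 : polar Q f₁ f₃ = 0 := g₃ 1
    have h23 : polar Q f₂ f₃ = 0 := g₃ 2
    intro i j hij
    fin_cases i <;> fin_cases j <;> simp [h01, h02, h12, h03, h13, h23, polar_comm Q f₁ f₀,
      polar_comm Q f₂ f₀, polar_comm Q f₃ f₀, polar_comm Q f₂ f₁, polar_comm Q f₃ f₁,
      polar_comm Q f₃ f₂] at hij ⊢
  · simpa [hedef] using hdet

/-- A vector on two different rational planes is a multiple of a rational vector. -/
theorem pr_of_planes {u w w' : ι → F}
    (hind : ∀ a b c : F, a • u + b • w + c • w' = 0 → a = 0 ∧ b = 0 ∧ c = 0)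
    (h1 : RatPlane F₀ P u w) (h2 : RatPlane F₀ P u w') :
    ∃ (μ : F) (z : ι → F), Rat F₀ P z ∧ u = μ • z := by
  obtain ⟨p, q, hp, hq, ⟨a, b, hu⟩, c, d, hw⟩ := h1
  obtain ⟨p', q', hp', hq', ⟨a', b', hu'⟩, c', d', hw'⟩ := h2
  have hpq : ∀ i, Rat F₀ P (![p, q] i) := by intro i; fin_cases i <;> simpa
  have key : ∀ p' q' : ι → F, Rat F₀ P p' → Rat F₀ P q' → ∀ a' b' : F, u = a' • p' + b' • q' →
      p' ∉ Submodule.span F (Set.range ![p, q]) → ∃ (μ : F) (z : ι → F), Rat F₀ P z ∧ u = μ • z := by
    intro p' q' hp' hq' a' b' hu' hn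
    obtain ⟨z, hz, hzp, hz1⟩ := exists_dual hR ![p, q] hpq hp' hn
    have h0 : polar Q z u = 0 := by
      rw [hu, polar_add_right, polar_smul_right, polar_smul_right, show polar Q z p = 0 from hzp 0,
        show polar Q z q = 0 from hzp 1]
      simp
    rw [hu', polar_add_right, polar_smul_right, polar_smul_right, hz1, smul_eq_mul, mul_one,
      smul_eq_mul] at h0
    refine ⟨b', q' - polar Q z q' • p', rat_sub hq' (rat_smul (polar_rat hR hz hq') hp'), ?_⟩
    rw [hu', show a' = -(b' * polar Q z q') by linear_combination h0]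
    module
  by_cases hp'n : p' ∈ Submodule.span F (Set.range ![p, q])
  swap
  · exact key p' q' hp' hq' a' b' hu' hp'n
  by_cases hq'n : q' ∈ Submodule.span F (Set.range ![p, q])
  swap
  · exact key q' p' hq' hp' b' a' (by rw [hu', add_comm]) hq'n
  exfalso
  have hmem : ∀ x y : F, x • p + y • q ∈ Submodule.span F (Set.range ![p, q]) := fun x y =>
    add_mem (Submodule.smul_mem _ _ (Submodule.subset_span ⟨0, rfl⟩))
      (Submodule.smul_mem _ _ (Submodule.subset_span ⟨1, rfl⟩))
  have hw'm : w' ∈ Submodule.span F (Set.range ![p, q]) :=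
    hw' ▸ add_mem (Submodule.smul_mem _ _ hp'n) (Submodule.smul_mem _ _ hq'n)
  have hli : LinearIndependent F ![u, w, w'] := by
    rw [Fintype.linearIndependent_iff]
    intro g hg i
    simp [Fin.sum_univ_three] at hg
    obtain ⟨h1, h2, h3⟩ := hind _ _ _ hg
    fin_cases i <;> assumption
  have h3 := finrank_span_eq_card hli
  have hle : Submodule.span F (Set.range ![u, w, w']) ≤ Submodule.span F (Set.range ![p, q]) := by
    rw [Submodule.span_le]
    rintro _ ⟨i, rfl⟩
    fin_cases i
    · exact hu ▸ hmem a b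
    · exact hw ▸ hmem c d
    · exact hw'm
  have h4 := Submodule.finrank_mono hle
  have h5 := finrank_range_le_card (R := F) ![p, q]
  rw [Set.finrank] at h5
  simp at h3 h4 h5
  omega

end Cfsg.Agent.SubfieldQuad
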