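import Cfsg.Agent.MaxSub.SubfieldQuadMain

/-!
The orthogonal subfield group is maximal in `Ω` (helper24).
-/

set_option autoImplicit false
set_option linter.unusedSectionVars false

namespace Cfsg.Agent.SubfieldQuad

open QuadraticMap Matrix Cfsg.Agent.UnitaryOrthogonal Cfsg.Agent.SubfieldTwo

variable {ι : Type} [Fintype ι] [DecidableEq ι] {F : Type*} [Field F] [Finite F]
variable {Q : QuadraticForm F (ι → F)} {F₀ : Subfield F} {P : GL ι F}

section

variable (hR : IsRatForm Q F₀ P)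
include hR

/-- Two orthogonal rational singular vectors have a common non-neighbour. -/
theorem exists_common_sing {p q : ι → F} (hp : Rat F₀ P p) (hpQ : Q p = 0) (hp0 : p ≠ 0)
    (hq : Rat F₀ P q) (hq0 : q ≠ 0) (hpq : polar Q p q = 0) :
    ∃ e, Rat F₀ P e ∧ Q e = 0 ∧ polar Q e p ≠ 0 ∧ polar Q e q ≠ 0 := by
  obtain ⟨d₁, h₁, h₁p⟩ := exists_dual_one hR hp hp0
  obtain ⟨d₂, h₂, h₂q⟩ := exists_dual_one hR hq hq0
  obtain ⟨d, hd, hdp, hdq⟩ : ∃ d, Rat F₀ P d ∧ polar Q d p ≠ 0 ∧ polar Q d q ≠ 0 := by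
    by_cases h1 : polar Q d₁ q = 0
    · by_cases h2 : polar Q d₂ p = 0
      · refine ⟨d₁ + d₂, rat_add h₁ h₂, ?_, ?_⟩
        · rw [polar_add_left, h₁p, h2, add_zero]; exact one_ne_zero
        · rw [polar_add_left, h₂q, h1, zero_add]; exact one_ne_zero
      · exact ⟨d₂, h₂, h2, by rw [h₂q]; exact one_ne_zero⟩
    · exact ⟨d₁, h₁, by rw [h₁p]; exact one_ne_zero, h1⟩
  set t := -Q d / polar Q d p
  have ht : t ∈ F₀ := div_mem (neg_mem (hR.val d hd)) (polar_rat hR hd hp)
  refine ⟨d + t • p, rat_add hd (rat_smul ht hp), ?_, ?_, ?_⟩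
  · rw [form_add, form_smul, hpQ, polar_smul_right, smul_eq_mul]
    simp [t, div_mul_cancel₀ _ hdp]
  · rw [polar_add_left, polar_smul_left, polar_self_eq, hpQ]; simpa using hdp
  · rwa [polar_add_left, polar_smul_left, hpq, smul_zero, add_zero]

/-- An element outside the subfield group moves a rational singular point off the rational
points. -/
theorem exists_moved {g : orth Q}
    (hg : ∀ a : F, a ≠ 0 → ∃ x, Rat F₀ P x ∧ ¬ Rat F₀ P (a • g.1 x)) :
    ∃ p, Rat F₀ P p ∧ Q p = 0 ∧ ∀ (ν : F) (z : ι → F), Rat F₀ P z → g.1 p ≠ ν • z := by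
  by_contra hcon
  simp only [not_exists, not_and, not_forall, not_not] at hcon
  have hn := hR.dim
  obtain ⟨p₀, hp₀, hp₀0, hp₀Q, -⟩ := exists_singular hR ![] (fun i => i.elim0) (by omega)
  obtain ⟨l, w₀, hw₀, hgl⟩ := hcon p₀ hp₀ hp₀Q
  have hl : l ≠ 0 := fun h => by
    rw [h, zero_smul, g.1.map_eq_zero_iff] at hgl
    exact hp₀0 hgl
  have pair : ∀ (p e : ι → F) (m m' : F) (z z' : ι → F), Rat F₀ P p → Rat F₀ P e →
      polar Q e p ≠ 0 → Rat F₀ P z → Rat F₀ P z' → g.1 p = m • z → g.1 e = m' • z' →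
      m * m' ∈ F₀ ∧ m * m' ≠ 0 := by
    intro p e m m' z z' hp he hne hz hz' h h'
    have h1 := map_polar g e p
    rw [h, h', polar_smul_left, polar_smul_right, smul_eq_mul, smul_eq_mul] at h1
    have hzz : polar Q z' z ≠ 0 := fun h0 => hne (by rw [← h1, h0, mul_zero, mul_zero])
    have e1 : m * m' = polar Q e p / polar Q z' z := by rw [← h1]; field_simp
    rw [e1]
    exact ⟨div_mem (polar_rat hR he hp) (polar_rat hR hz' hz), div_ne_zero hne hzz⟩
  -- the multiplier passes to orthogonal singular vectors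
  have orth : ∀ p q, Rat F₀ P p → Q p = 0 → p ≠ 0 → Rat F₀ P q → Q q = 0 → q ≠ 0 →
      polar Q p q = 0 → Rat F₀ P (l⁻¹ • g.1 p) → Rat F₀ P (l⁻¹ • g.1 q) := by
    intro p q hp hpQ hp0 hq hqQ hq0 hpq h
    obtain ⟨e, he, heQ, hep, heq⟩ := exists_common_sing hR hp hpQ hp0 hq hq0 hpq
    obtain ⟨m', z', hz', h'⟩ := hcon e he heQ
    obtain ⟨m, z, hz, h''⟩ := hcon q hq hqQ
    obtain ⟨e1, e1'⟩ := pair p e l m' _ z' hp he hep h hz'
      (by rw [smul_smul, mul_inv_cancel₀ hl, one_smul]) h'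
    obtain ⟨e2, -⟩ := pair q e m m' z z' hq he heq hz hz' h'' h'
    rw [h'', smul_smul]
    refine rat_smul ?_ hz
    have hm' : m' ≠ 0 := (mul_ne_zero_iff.mp e1').2
    rw [show l⁻¹ * m = (m * m') / (l * m') by field_simp]
    exact div_mem e2 e1
  have all : ∀ p, Rat F₀ P p → Q p = 0 → Rat F₀ P (l⁻¹ • g.1 p) := by
    intro p hp hpQ
    by_cases hp0 : p = 0
    · rw [hp0, map_zero, smul_zero]; exact rat_zero
    obtain ⟨r, hr, hr0, hrQ, hrp⟩ := exists_singular hR ![p, p₀]
      (by intro i; fin_cases i <;> simpa) (by simp; omega)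
    refine orth r p hr hrQ hr0 hp hpQ hp0 (hrp 0)
      (orth p₀ r hp₀ hp₀Q hp₀0 hr hrQ hr0 (by rw [polar_comm]; exact hrp 1) ?_)
    rw [hgl, smul_smul, inv_mul_cancel₀ hl, one_smul]
    exact hw₀
  obtain ⟨x, hx, hxn⟩ := hg l⁻¹ (inv_ne_zero hl)
  refine hxn ?_
  by_cases hxQ : Q x = 0
  · exact all x hx hxQ
  obtain ⟨r, hr, hrQ, -, hrx⟩ := exists_singular_sep hR ![] (fun i => i.elim0) hx
    (by simpa using fun h : x = 0 => hxQ (by rw [h, QuadraticMap.map_zero])) (by norm_num)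
  set t := -Q x / polar Q r x
  have ht : t ∈ F₀ := div_mem (neg_mem (hR.val x hx)) (polar_rat hR hr hx)
  have h1 := all (x + t • r) (rat_add hx (rat_smul ht hr)) (by
    rw [form_add, form_smul, hrQ, polar_smul_right, polar_comm Q x r, smul_eq_mul]
    simp [t, div_mul_cancel₀ _ hrx])
  have h2 := rat_sub h1 (rat_smul ht (all r hr hrQ))
  rwa [map_add, map_smul, smul_add, smul_comm l⁻¹ t, add_sub_cancel_right] at h2

variable {M : Subgroup (orth Q)} (hM : RatIn Q F₀ P M)
include hM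

theorem eichGroup_le_of_moved {r : ℕ} (hr : r.Prime) (hcard : Nat.card F = Nat.card F₀ ^ r)
    {g : orth Q} (hgM : g ∈ M)
    (hg : ∀ a : F, a ≠ 0 → ∃ x, Rat F₀ P x ∧ ¬ Rat F₀ P (a • g.1 x)) : eichGroup Q ≤ M := by
  obtain ⟨p, hp, hpQ, hpn⟩ := exists_moved hR hg
  have hp0 : p ≠ 0 := fun h => hpn 0 0 rat_zero (by rw [h, map_zero, zero_smul])
  have hn := hR.dim
  obtain ⟨q, hq, hqQ, hqp, hqn⟩ := exists_singular_out hR ![p]
    (by intro i; fin_cases i; simpa) (by omega)
  obtain ⟨q', hq', hq'Q, hq'p, hq'n⟩ := exists_singular_out hR ![p, q]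
    (by intro i; fin_cases i <;> simpa) (by omega)
  have hind : ∀ a b c : F, a • p + b • q + c • q' = 0 → a = 0 ∧ b = 0 ∧ c = 0 := by
    intro a b c h
    have hc : c = 0 := by
      by_contra hc
      refine hq'n ?_
      have e : q' = (-(c⁻¹ * a)) • p + (-(c⁻¹ * b)) • q := by
        have := congrArg (fun v => c⁻¹ • v) h
        simp only [smul_add, smul_smul, inv_mul_cancel₀ hc, one_smul, smul_zero] at this
        rw [← sub_eq_zero, ← this]
        module
      rw [e]
      exact add_mem (Submodule.smul_mem _ _ (Submodule.subset_span ⟨0, rfl⟩))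
        (Submodule.smul_mem _ _ (Submodule.subset_span ⟨1, rfl⟩))
    rw [hc, zero_smul, add_zero] at h
    have hb : b = 0 := by
      by_contra hb
      refine hqn ?_
      have e : q = (-(b⁻¹ * a)) • p := by
        have := congrArg (fun v => b⁻¹ • v) h
        simp only [smul_add, smul_smul, inv_mul_cancel₀ hb, one_smul, smul_zero] at this
        rw [← sub_eq_zero, ← this]
        module
      rw [e]
      exact Submodule.smul_mem _ _ (Submodule.subset_span ⟨0, rfl⟩)
    rw [hb, zero_smul, add_zero] at h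
    exact ⟨(smul_eq_zero.mp h).resolve_right hp0, hb, hc⟩
  have try' : ∀ q, Rat F₀ P q → Q q = 0 → polar Q p q = 0 →
      (∀ a b : F, a • p + b • q = 0 → a = 0 ∧ b = 0) → ¬ RatPlane F₀ P (g.1 p) (g.1 q) →
      Good Q F₀ P M := by
    intro q hq hqQ hpq hind hpl
    refine good_of_root hR hM hr hcard (by rw [map_form, hpQ]) (by rw [map_form, hqQ])
      (by rw [map_polar, hpq]) (fun a b h => ?_) ?_ hpl
    · rw [← map_smul, ← map_smul, ← map_add, g.1.map_eq_zero_iff] at h
      exact hind a b h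
    · rw [← conj_eich]
      exact mul_mem (mul_mem hgM (hM p q hp hq hpQ hpq)) (inv_mem hgM)
  have hG : Good Q F₀ P M := by
    by_contra hbad
    have h1 : RatPlane F₀ P (g.1 p) (g.1 q) := by
      by_contra h
      refine hbad (try' q hq hqQ (by rw [polar_comm]; exact hqp 0) (fun a b h' => ?_) h)
      obtain ⟨h1, h2, -⟩ := hind a b 0 (by simpa using h')
      exact ⟨h1, h2⟩
    have h2 : RatPlane F₀ P (g.1 p) (g.1 q') := by
      by_contra h
      refine hbad (try' q' hq' hq'Q (by rw [polar_comm]; exact hq'p 0) (fun a b h' => ?_) h)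
      obtain ⟨h1, -, h2⟩ := hind a 0 b (by simpa using h')
      exact ⟨h1, h2⟩
    obtain ⟨ν, z, hz, hgz⟩ := pr_of_planes hR (fun a b c h => by
      rw [← map_smul, ← map_smul, ← map_smul, ← map_add, ← map_add, g.1.map_eq_zero_iff] at h
      exact hind a b c h) h1 h2
    exact hpn ν z hz hgz
  obtain ⟨a, ha, hs⟩ := hG
  exact eichGroup_le_of_spread hR hM hr hcard ha hs

end

/-- **The subfield group is maximal in `Ω`.** -/
theorem isMaximal_subfield_nine (Qf : QuadraticForm F (ι → F)) (hnd : PolarND Qf)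
    (hdim : 9 ≤ Fintype.card ι) {r : ℕ} (hr : r.Prime) (hcard : Nat.card F = Nat.card F₀ ^ r)
    (hP : Geo.IsQuadFormRationalStructure (⇑Qf) F₀ P) :
    Geo.IsMaximalIn (Geo.omegaGL ⇑Qf) (Geo.subfieldSubgroup F₀ P ⊓ Geo.omegaGL ⇑Qf) := by
  classical
  have hR : IsRatForm Qf F₀ P :=
    ⟨hnd, fun x hx => by obtain ⟨v, hv, rfl⟩ := rat_iff.mp hx; exact hP v hv, hdim⟩
  have h5 : 5 ≤ Module.finrank F (ι → F) := by rw [Module.finrank_pi]; omega
  have hact : ∀ (g₀ : Cfsg.isometryGroup F ⇑Qf) (x : ι → F),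
      (OrthStab.toOrth g₀).1 x = (g₀.1 : Matrix ι ι F) *ᵥ x := fun _ _ => rfl
  refine ⟨lt_of_le_of_ne inf_le_right fun e => ?_, fun M hle hMΩ => ?_⟩
  · obtain ⟨c, hc⟩ : ∃ c : F, c ∉ F₀ := by
      by_contra h
      simp only [not_exists, not_not] at h
      have := Nat.card_le_card_of_injective (fun x : F => (⟨x, h x⟩ : F₀))
        fun a b e => congrArg Subtype.val e
      have h2 := Nat.pow_lt_pow_right (a := Nat.card F₀) Finite.one_lt_card hr.one_lt
      rw [pow_one, ← hcard] at h2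
      omega
    obtain ⟨x, hx, hx0, hxQ, -⟩ := exists_singular hR ![] (fun i => i.elim0) (by omega)
    obtain ⟨y, hy, hyQ, hyx, hyn⟩ := exists_singular_out hR ![x]
      (by intro i; fin_cases i; simpa) (by omega)
    have hxy : polar Qf x (c • y) = 0 := by
      rw [polar_smul_right, polar_comm, show polar Qf y x = 0 from hyx 0, smul_zero]
    obtain ⟨d, hd, hdy, hdx⟩ := exists_dual hR ![y] (by intro i; fin_cases i; simpa) hx
      (notMem_single fun hm => by
        obtain ⟨γ, rfl⟩ := Submodule.mem_span_singleton.mp hm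
        have hγ : γ ≠ 0 := fun h => hx0 (by rw [h, zero_smul])
        refine hyn ?_
        have h1 : γ • y ∈ Submodule.span F (Set.range ![γ • y]) := Submodule.subset_span ⟨0, rfl⟩
        have h2 := Submodule.smul_mem _ γ⁻¹ h1
        rwa [inv_smul_smul₀ hγ] at h2)
    obtain ⟨g₀, hg₀, hgeq⟩ := OrthStab.exists_lift hnd h5
      (eich_mem_eichGroup (Q := Qf) x (c • y))
    rw [← e] at hg₀
    obtain ⟨a, ha, hrat⟩ := rat_of_mem hg₀.1
    have hax := hrat x hx
    have had := hrat d hd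
    rw [← hact, hgeq, eich_apply hxQ hxy] at hax had
    have hdy' : polar Qf d y = 0 := hdy 0
    have hxy' : polar Qf x y = 0 := by rw [polar_comm]; exact hyx 0
    simp [polar_self_eq, hxQ, hyQ, hdx, hdy', hxy', polar_comm Qf y x, polar_comm Qf y d,
      polar_comm Qf x d, form_smul, polar_smul_left, polar_smul_right] at hax had
    have haF : a ∈ F₀ := by
      obtain ⟨z, hz, hzx⟩ := exists_dual_one hR hx hx0
      have := polar_rat hR hz hax
      rwa [polar_smul_right, hzx, smul_eq_mul, mul_one] at this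
    have hcy : Rat F₀ P (c • y) := by
      have := rat_sub (rat_smul (inv_mem haF) had) hd
      simpa [smul_add, smul_smul, ← mul_assoc, inv_mul_cancel₀ ha] using this
    obtain ⟨z, hz, hzy⟩ := exists_dual_one hR hy fun h => hyn (h ▸ zero_mem _)
    have := polar_rat hR hz hcy
    rw [polar_smul_right, hzy, smul_eq_mul, mul_one] at this
    exact hc this
  · by_cases hMH : M = Geo.subfieldSubgroup F₀ P ⊓ Geo.omegaGL ⇑Qf
    · exact Or.inl hMH
    obtain ⟨g, hgM, hgH⟩ := SetLike.exists_of_lt (lt_of_le_of_ne hle (Ne.symm hMH))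
    obtain ⟨g₀, hg₀, rfl⟩ := hMΩ hgM
    let M' : Subgroup (orth Qf) :=
      (M.comap (Cfsg.isometryGroup F ⇑Qf).subtype).map
        (isometryGroupEquiv Qf (f := ⇑Qf) (fun _ => rfl)).toMonoidHom
    have hM' : RatIn Qf F₀ P M' := by
      intro b z hb hz hbQ hbz
      obtain ⟨h₀, hh₀, he⟩ := OrthStab.exists_lift hnd h5 (eich_mem_eichGroup (Q := Qf) b z)
      refine ⟨h₀, hle ⟨mem_of_rat one_ne_zero fun x hx => ?_, hh₀⟩, he⟩
      rw [one_smul]
      show Rat F₀ P ((h₀.1 : Matrix ι ι F) *ᵥ x)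
      rw [← hact, he, eich_apply hbQ hbz]
      exact rat_sub (rat_sub (rat_add hx (rat_smul (polar_rat hR hb hx) hz))
        (rat_smul (polar_rat hR hz hx) hb)) (rat_smul (mul_mem (hR.val z hz) (polar_rat hR hb hx)) hb)
    have hgen : eichGroup Qf ≤ M' := by
      refine eichGroup_le_of_moved hR hM' hr hcard (g := OrthStab.toOrth g₀) ⟨g₀, hgM, rfl⟩
        fun a ha => ?_
      by_contra hcon
      simp only [not_exists, not_and, not_not] at hcon
      exact hgH ⟨mem_of_rat ha fun x hx => hact g₀ x ▸ hcon x hx, hMΩ hgM⟩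
    refine Or.inr (le_antisymm hMΩ ?_)
    rintro _ ⟨g₁, hg₁, rfl⟩
    obtain ⟨g₂, hg₂, hgg⟩ := hgen ((OrthStab.mem_omega_iff hnd h5 g₁).mp hg₁)
    exact ((isometryGroupEquiv Qf (f := ⇑Qf) (fun _ => rfl)).injective hgg) ▸ hg₂

/-- **The subfield group is maximal in `Ω`**, in dimension at least 10. -/
theorem isMaximal_subfield_ten (Qf : QuadraticForm F (ι → F)) (hnd : PolarND Qf)
    (hdim : 10 ≤ Fintype.card ι) {r : ℕ} (hr : r.Prime) (hcard : Nat.card F = Nat.card F₀ ^ r)
    (hP : Geo.IsQuadFormRationalStructure (⇑Qf) F₀ P) :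
    Geo.IsMaximalIn (Geo.omegaGL ⇑Qf) (Geo.subfieldSubgroup F₀ P ⊓ Geo.omegaGL ⇑Qf) :=
  isMaximal_subfield_nine Qf hnd (le_trans (by norm_num) hdim) hr hcard hP

/-- **The subfield group is maximal in `Ω`**, in dimension at least 13. -/
theorem isMaximal_subfield (Qf : QuadraticForm F (ι → F)) (hnd : PolarND Qf)
    (hdim : 13 ≤ Fintype.card ι) {r : ℕ} (hr : r.Prime) (hcard : Nat.card F = Nat.card F₀ ^ r)
    (hP : Geo.IsQuadFormRationalStructure (⇑Qf) F₀ P) :
    Geo.IsMaximalIn (Geo.omegaGL ⇑Qf) (Geo.subfieldSubgroup F₀ P ⊓ Geo.omegaGL ⇑Qf) :=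
  isMaximal_subfield_ten Qf hnd (le_trans (by norm_num) hdim) hr hcard hP

omit [Finite F] in
/-- A multiple of a form has the same isometries. -/
theorem omegaGL_smul (Qf : (ι → F) → F) {ζ : F} (hζ : ζ ≠ 0) :
    Geo.omegaGL (fun v => ζ * Qf v) = Geo.omegaGL Qf := by
  have h : Cfsg.isometryGroup F (fun v => ζ * Qf v) = Cfsg.isometryGroup F Qf := by
    ext g
    simp [Cfsg.isometryGroup, Cfsg.preserving, funext_iff, hζ]
  rw [Geo.omegaGL, Geo.omegaGL, Omega, Omega, Subgroup.map_subtype_commutator,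
    Subgroup.map_subtype_commutator, h]

end Cfsg.Agent.SubfieldQuad
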