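import Cfsg.Agent.MaxSub.SubfieldQuadFrame
import Cfsg.Agent.MaxSub.SL2Orbit

/-!
A root element at an irrational plane always gives an irrational coefficient (helper24).
-/

set_option autoImplicit false
set_option linter.unusedSectionVars false

namespace Cfsg.Agent.SubfieldQuad

open QuadraticMap Matrix Cfsg.Agent.UnitaryOrthogonal Cfsg.Agent.SubfieldTwo
open scoped MatrixGroups
open Cfsg.Agent.PLocalB (upper lower)
open Cfsg.Agent.Dickson (PSL2 uppHom)

variable {ι : Type} [Fintype ι] [DecidableEq ι] {F : Type*} [Field F] [Finite F]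
variable {Q : QuadraticForm F (ι → F)} {F₀ : Subfield F} {P : GL ι F}
variable {M : Subgroup (orth Q)} {u w : ι → F} {e f : Fin 4 → ι → F}

/-- The six index pairs. -/
def pI : Fin 6 → Fin 4 := ![0, 0, 0, 1, 1, 2]

/-- The six index pairs. -/
def pJ : Fin 6 → Fin 4 := ![1, 2, 3, 2, 3, 3]

/-- The determinant of the pairing of a plane of the frame with `u, w`. -/
noncomputable def det2 (Q : QuadraticForm F (ι → F)) (u w : ι → F) (e : Fin 4 → ι → F)
    (i j : Fin 4) : F :=
  polar Q (e i) u * polar Q (e j) w - polar Q (e j) u * polar Q (e i) w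

/-- The coefficient of `u`. -/
noncomputable def β₁ (Q : QuadraticForm F (ι → F)) (u w : ι → F) (e : Fin 4 → ι → F) (v : ι → F) :
    F :=
  (polar Q v (e 0) * polar Q (e 1) w - polar Q v (e 1) * polar Q (e 0) w) / det2 Q u w e 0 1

/-- The coefficient of `w`. -/
noncomputable def β₂ (Q : QuadraticForm F (ι → F)) (u w : ι → F) (e : Fin 4 → ι → F) (v : ι → F) :
    F :=
  (polar Q v (e 1) * polar Q (e 0) u - polar Q v (e 0) * polar Q (e 1) u) / det2 Q u w e 0 1

/-- The span of the frame and the plane. -/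
def spanU (u w : ι → F) (e : Fin 4 → ι → F) (v : ι → F) : Prop :=
  ∃ (c : Fin 4 → F) (a b : F), v = ∑ i, c i • e i + a • u + b • w

/-- Orthogonal to the frame and the plane. -/
def perpU (Q : QuadraticForm F (ι → F)) (u w : ι → F) (e : Fin 4 → ι → F) (y : ι → F) : Prop :=
  (∀ i, polar Q y (e i) = 0) ∧ polar Q y u = 0 ∧ polar Q y w = 0

/-- `g` induces `X` on the two planes of `U / R`. -/
def Induces (M : Subgroup (orth Q)) (u w : ι → F) (e : Fin 4 → ι → F) (g : orth Q) (X : SL(2, F)) :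
    Prop :=
  g ∈ M ∧ (∀ y, perpU Q u w e y → g.1 y = y) ∧ ∀ v, spanU u w e v → spanU u w e (g.1 v) ∧
    polar Q (g.1 v) u = X 0 0 * polar Q v u + X 0 1 * β₂ Q u w e v ∧
    β₂ Q u w e (g.1 v) = X 1 0 * polar Q v u + X 1 1 * β₂ Q u w e v ∧
    polar Q (g.1 v) w = X 0 0 * polar Q v w - X 0 1 * β₁ Q u w e v ∧
    β₁ Q u w e (g.1 v) = -(X 1 0 * polar Q v w) + X 1 1 * β₁ Q u w e v

theorem surj_spanU {g : orth Q} (h : ∀ v, spanU u w e v → spanU u w e (g.1 v)) {v : ι → F}
    (hv : spanU u w e v) : spanU u w e (g⁻¹.1 v) := by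
  let S : Submodule F (ι → F) :=
    { carrier := {v | spanU u w e v}
      zero_mem' := ⟨0, 0, 0, by simp⟩
      add_mem' := by
        rintro _ _ ⟨c, a, b, rfl⟩ ⟨c', a', b', rfl⟩
        exact ⟨c + c', a + a', b + b', by simp [add_smul, Finset.sum_add_distrib]; abel⟩
      smul_mem' := by
        rintro s _ ⟨c, a, b, rfl⟩
        exact ⟨s • c, s * a, s * b, by simp [smul_add, Finset.smul_sum, mul_smul]⟩ }
  let r : S →ₗ[F] S := g.1.toLinearMap.restrict h
  have hinj : Function.Injective r := fun p q hpq =>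
    Subtype.ext (g.1.injective (congrArg Subtype.val hpq))
  obtain ⟨⟨v', hv'⟩, hvv⟩ := LinearMap.injective_iff_surjective.mp hinj ⟨v, hv⟩
  rw [← show g.1 v' = v from congrArg Subtype.val hvv, coe_inv_apply_apply]
  exact hv'

theorem induces_mul {g k : orth Q} {X Y : SL(2, F)} (hg : Induces M u w e g X)
    (hk : Induces M u w e k Y) : Induces M u w e (g * k) (X * Y) := by
  obtain ⟨hg, hgy, hgv⟩ := hg
  obtain ⟨hk, hky, hkv⟩ := hk
  refine ⟨mul_mem hg hk, fun y hy => by rw [coe_mul_apply, hky y hy, hgy y hy], fun v hv => ?_⟩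
  obtain ⟨h0, h1, h2, h3, h4⟩ := hkv v hv
  obtain ⟨k0, k1, k2, k3, k4⟩ := hgv _ h0
  rw [coe_mul_apply]
  simp only [Matrix.SpecialLinearGroup.coe_mul, Matrix.mul_apply, Fin.sum_univ_two]
  refine ⟨k0, ?_, ?_, ?_, ?_⟩
  · rw [k1, h1, h2]; ring
  · rw [k2, h1, h2]; ring
  · rw [k3, h3, h4]; ring
  · rw [k4, h3, h4]; ring

theorem induces_inv {g : orth Q} {X : SL(2, F)} (h : Induces M u w e g X) :
    Induces M u w e g⁻¹ X⁻¹ := by
  obtain ⟨hg, hgy, hgv⟩ := h
  refine ⟨inv_mem hg, fun y hy => ?_, fun v hv => ?_⟩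
  · conv_lhs => rw [← hgy y hy]
    exact coe_inv_apply_apply g y
  · have hs := surj_spanU (fun v hv => (hgv v hv).1) hv
    obtain ⟨-, h1, h2, h3, h4⟩ := hgv _ hs
    rw [coe_apply_inv_apply] at h1 h2 h3 h4
    have hd := PLocalB.det_entries X
    rw [Matrix.SpecialLinearGroup.SL2_inv_expl]
    refine ⟨hs, ?_, ?_, ?_, ?_⟩ <;> simp
    · linear_combination -(X 1 1) * h1 + (X 0 1) * h2 - polar Q (g⁻¹.1 v) u * hd
    · linear_combination (X 1 0) * h1 - (X 0 0) * h2 - β₂ Q u w e (g⁻¹.1 v) * hd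
    · linear_combination -(X 1 1) * h3 - (X 0 1) * h4 - polar Q (g⁻¹.1 v) w * hd
    · linear_combination -(X 1 0) * h3 - (X 0 0) * h4 - β₁ Q u w e (g⁻¹.1 v) * hd

theorem induces_one : Induces M u w e 1 1 :=
  ⟨one_mem M, fun y _ => rfl, fun v hv => ⟨hv, by simp, by simp, by simp, by simp⟩⟩

/-- The induced group. -/
def inducedGroup (M : Subgroup (orth Q)) (u w : ι → F) (e : Fin 4 → ι → F) : Subgroup SL(2, F) where
  carrier := {X | ∃ g, Induces M u w e g X}
  one_mem' := ⟨1, induces_one⟩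
  mul_mem' := fun ⟨g, hg⟩ ⟨k, hk⟩ => ⟨g * k, induces_mul hg hk⟩
  inv_mem' := fun ⟨g, hg⟩ => ⟨g⁻¹, induces_inv hg⟩

variable (hR : IsRatForm Q F₀ P) (hM : RatIn Q F₀ P M) (he : IsFrame Q F₀ P u w e f)
variable (huQ : Q u = 0) (hwQ : Q w = 0) (huw : polar Q u w = 0)
include hR hM he huQ hwQ huw

omit hR hM huQ hwQ huw in
theorem det_ne : det2 Q u w e 0 1 ≠ 0 := he.det

omit hR hM huQ hwQ huw in
theorem sum_polar_e (c : Fin 4 → F) (l : Fin 4) : polar Q (∑ i, c i • e i) (e l) = 0 := by
  show (polarBilin Q).flip (e l) _ = 0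
  simp [map_sum, he.ee]

omit hM in
theorem decomp_apply (c : Fin 4 → F) (a b : F) :
    β₁ Q u w e (∑ i, c i • e i + a • u + b • w) = a ∧
      β₂ Q u w e (∑ i, c i • e i + a • u + b • w) = b := by
  have hD := det_ne he
  simp only [β₁, β₂, polar_add_left, sum_polar_e he, polar_smul_left, polar_comm Q u (e _),
    polar_comm Q w (e _), smul_eq_mul, zero_add]
  constructor <;> rw [div_eq_iff hD] <;> simp only [det2] <;> ring

omit hM in
theorem polar_sum_plane (c : Fin 4 → F) (a b : F) (l : Fin 4) :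
    polar Q (e l) (∑ i, c i • e i + a • u + b • w) = a * polar Q (e l) u + b * polar Q (e l) w := by
  rw [polar_add_right, polar_add_right, polar_comm Q (e l) (∑ i, c i • e i), sum_polar_e he,
    polar_smul_right, polar_smul_right, smul_eq_mul, smul_eq_mul, zero_add]

omit hM in
/-- The root element at the plane induces a lower transvection. -/
theorem induces_lower (hk : eich Q u w ∈ M) : Induces M u w e (eich Q u w) (lower 1) := by
  refine ⟨hk, fun y hy => ?_, ?_⟩
  · rw [eich_apply huQ huw, polar_comm Q u y, hy.2.1, polar_comm Q w y, hy.2.2]; simp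
  rintro v ⟨c, a, b, rfl⟩
  set v := ∑ i, c i • e i + a • u + b • w with hv
  have hwu : polar Q w u = 0 := by rw [polar_comm]; exact huw
  have he' : (eich Q u w).1 v = ∑ i, c i • e i + (a - polar Q v w) • u + (b + polar Q v u) • w := by
    rw [eich_apply huQ huw, hwQ, polar_comm Q u v, polar_comm Q w v, hv]
    module
  obtain ⟨h1, h2⟩ := decomp_apply hR he huQ hwQ huw c a b
  obtain ⟨k1, k2⟩ := decomp_apply hR he huQ hwQ huw c (a - polar Q v w) (b + polar Q v u)
  rw [← hv] at h1 h2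
  rw [he']
  have hvu : polar Q v u = polar Q (∑ i, c i • e i) u := by
    simp [hv, polar_add_left, polar_self_eq, huQ, hwu]
  have hvw : polar Q v w = polar Q (∑ i, c i • e i) w := by
    simp [hv, polar_add_left, polar_self_eq, hwQ, huw]
  rw [hvu, hvw] at k1 k2
  refine ⟨⟨_, _, _, rfl⟩, ?_, ?_, ?_, ?_⟩ <;>
    simp [lower, polar_add_left, polar_self_eq, huQ, hwQ, huw, hwu, h1, h2, k1, k2, hvu, hvw] <;> ring

/-- A rational root element of the frame induces an upper transvection. -/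
theorem induces_upper {i j : Fin 4} (hij : i ≠ j) {c : F} (hc : c ∈ F₀) :
    Induces M u w e (eich Q (e i) (c • e j)) (upper (-(c * det2 Q u w e i j))) := by
  have h0 : polar Q (e i) (c • e j) = 0 := by rw [polar_smul_right, he.ee, smul_zero]
  have hQj : Q (c • e j) = 0 := by rw [form_smul, he.qE, mul_zero]
  refine ⟨hM _ _ (he.ratE i) (rat_smul hc (he.ratE j)) (he.qE i) h0, fun y hy => ?_, ?_⟩
  · rw [eich_apply (he.qE i) h0, polar_comm Q (e i) y, hy.1, polar_smul_left,
      polar_comm Q (e j) y, hy.1]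
    simp
  rintro v ⟨d, a, b, rfl⟩
  set X := a * polar Q (e i) u + b * polar Q (e i) w with hX
  set Y := a * polar Q (e j) u + b * polar Q (e j) w with hY
  have he' : (eich Q (e i) (c • e j)).1 (∑ l, d l • e l + a • u + b • w) =
      ∑ l, (d l + (if l = j then c * X else 0) - (if l = i then c * Y else 0)) • e l + a • u + b • w := by
    rw [eich_apply (he.qE i) h0, hQj, polar_smul_left, polar_sum_plane hR he huQ hwQ huw,
      polar_sum_plane hR he huQ hwQ huw, ← hX, ← hY]
    simp only [add_smul, sub_smul, ite_smul, zero_smul, Finset.sum_add_distrib,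
      Finset.sum_sub_distrib, Finset.sum_ite_eq', Finset.mem_univ, if_true, smul_eq_mul]
    module
  obtain ⟨h1, h2⟩ := decomp_apply hR he huQ hwQ huw d a b
  obtain ⟨k1, k2⟩ := decomp_apply hR he huQ hwQ huw
    (fun l => d l + (if l = j then c * X else 0) - (if l = i then c * Y else 0)) a b
  have hsum : ∀ (D : Fin 4 → F) (x : ι → F), polar Q (∑ l, D l • e l) x = ∑ l, D l * polar Q (e l) x :=
    fun D x => by
      show (polarBilin Q).flip x _ = _
      simp [map_sum]
  rw [he']
  refine ⟨⟨_, _, _, rfl⟩, ?_, ?_, ?_, ?_⟩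
  · rw [h2, polar_add_left, polar_add_left, polar_add_left, polar_add_left, hsum, hsum]
    simp [upper, det2, add_mul, sub_mul, Finset.sum_add_distrib, Finset.sum_sub_distrib, X, Y]
    ring
  · rw [k2, h2]; simp [upper]
  · rw [h1, polar_add_left, polar_add_left, polar_add_left, polar_add_left, hsum, hsum]
    simp [upper, det2, add_mul, sub_mul, Finset.sum_add_distrib, Finset.sum_sub_distrib, X, Y]
    ring
  · rw [k1, h1]; simp [upper]

end Cfsg.Agent.SubfieldQuad
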