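import Cfsg.Agent.MaxSub.SubfieldQuadGeneric

/-!
A root element at an irrational plane gives all of `Ω` (helper24).
-/

set_option autoImplicit false
set_option linter.unusedSectionVars false

namespace Cfsg.Agent.SubfieldQuad

open QuadraticMap Matrix Cfsg.Agent.UnitaryOrthogonal Cfsg.Agent.SubfieldTwo
open scoped MatrixGroups
open Cfsg.Agent.PLocalB (upper lower)
open Cfsg.Agent.Dickson (PSL2 uppHom)

variable {ι : Type} [Fintype ι] [DecidableEq ι] {F : Type*} [Field F] [Finite F]
variable {Q : QuadraticForm F (ι → F)} {F₀ : Subfield F} {P : GL ι F}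
variable {M : Subgroup (orth Q)}

/-- A rational combination of the frame. -/
def comb (e : Fin 4 → ι → F) (c : Fin 4 → F) : ι → F := ∑ i, c i • e i

theorem rat_comb {e : Fin 4 → ι → F} (he : ∀ i, Rat F₀ P (e i)) {c : Fin 4 → F}
    (hc : ∀ i, c i ∈ F₀) : Rat F₀ P (comb e c) :=
  rat_sum _ fun i _ => rat_smul (hc i) (he i)

theorem polar_comb_left (e : Fin 4 → ι → F) (c : Fin 4 → F) (x : ι → F) :
    polar Q (comb e c) x = ∑ i, c i * polar Q (e i) x := by
  show (polarBilin Q).flip x _ = _
  simp [comb, map_sum]

theorem polar_comb_frame {u w : ι → F} {e f : Fin 4 → ι → F} (he : IsFrame Q F₀ P u w e f)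
    (c : Fin 4 → F) (l : Fin 4) : polar Q (comb e c) (f l) = c l := by
  simp [polar_comb_left, he.ef]

theorem polar_comb_e {u w : ι → F} {e f : Fin 4 → ι → F} (he : IsFrame Q F₀ P u w e f)
    (c : Fin 4 → F) (l : Fin 4) : polar Q (comb e c) (e l) = 0 := by
  simp [polar_comb_left, he.ee]

theorem form_comb {u w : ι → F} {e f : Fin 4 → ι → F} (he : IsFrame Q F₀ P u w e f)
    (c : Fin 4 → F) : Q (comb e c) = 0 := by
  simp [comb, Fin.sum_univ_four, form_add, form_smul, he.qE, polar_add_left, polar_smul_left,
    polar_smul_right, he.ee]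

variable (hR : IsRatForm Q F₀ P)
include hR

/-- Few conditions leave a rational singular vector. -/
theorem exists_singular_perp_two {r : ℕ} (hcard : Nat.card F = Nat.card F₀ ^ r)
    (hr : 2 * r + 3 ≤ Fintype.card ι) (u w : ι → F) :
    ∃ b, Rat F₀ P b ∧ Q b = 0 ∧ b ≠ 0 ∧ polar Q b u = 0 ∧ polar Q b w = 0 := by
  have hfin : Module.finrank F₀ F = r := by
    have h := Module.natCard_eq_pow_finrank (K := F₀) (V := F)
    rw [hcard] at h
    exact (Nat.pow_right_injective Finite.one_lt_card h).symm
  let ω := Module.finBasisOfFinrankEq F₀ F hfin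
  let part : (ι → F) → Fin r → ι → F := fun x i => ∑ j, (ω.repr (coord P x j) i : F) • col P j
  have hpart : ∀ x i, Rat F₀ P (part x i) := fun x i =>
    rat_sum _ fun j _ => rat_smul (SetLike.coe_mem _) (rat_col j)
  have hrec : ∀ x, ∑ i, ω i • part x i = x := fun x => by
    simp only [part, Finset.smul_sum, smul_smul]
    rw [Finset.sum_comm]
    conv_rhs => rw [eq_sum_col (P := P) x]
    refine Finset.sum_congr rfl fun j _ => ?_
    rw [← Finset.sum_smul]
    congr 1
    conv_rhs => rw [← ω.sum_repr (coord P x j)]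
    exact Finset.sum_congr rfl fun i _ => by rw [mul_comm]; rfl
  obtain ⟨b, hb, hb0, hbQ, hbp⟩ := exists_singular hR (Fin.append (part u) (part w))
    (Fin.addCases (fun i => by rw [Fin.append_left]; exact hpart u i)
      (fun i => by rw [Fin.append_right]; exact hpart w i)) (by omega)
  refine ⟨b, hb, hbQ, hb0, ?_, ?_⟩
  · rw [← hrec u]
    show polarBilin Q b _ = 0
    rw [map_sum]
    refine Finset.sum_eq_zero fun i _ => ?_
    have := hbp (Fin.castAdd r i)
    rw [Fin.append_left] at this
    rw [map_smul, polarBilin_apply_apply, this, smul_zero]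
  · rw [← hrec w]
    show polarBilin Q b _ = 0
    rw [map_sum]
    refine Finset.sum_eq_zero fun i _ => ?_
    have := hbp (Fin.natAdd r i)
    rw [Fin.append_right] at this
    rw [map_smul, polarBilin_apply_apply, this, smul_zero]

variable (hM : RatIn Q F₀ P M)
include hM

set_option maxHeartbeats 1000000 in
/-- **A root element at an irrational plane gives an irrational coefficient.** -/
theorem good_of_root {r : ℕ} (hr : r.Prime) (hcard : Nat.card F = Nat.card F₀ ^ r) {u w : ι → F}
    (huQ : Q u = 0) (hwQ : Q w = 0) (huw : polar Q u w = 0)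
    (huw' : ∀ s t : F, s • u + t • w = 0 → s = 0 ∧ t = 0) (hk : eich Q u w ∈ M)
    (hpl : ¬ RatPlane F₀ P u w) : Good Q F₀ P M := by
  classical
  haveI := Fintype.ofFinite F
  haveI := Fintype.ofFinite F₀
  by_contra hg
  have noPlane : ∀ u w : ι → F, Q u = 0 → Q w = 0 → polar Q u w = 0 →
      (∀ s t : F, s • u + t • w = 0 → s = 0 ∧ t = 0) → eich Q u w ∈ M → ∀ b, Rat F₀ P b → Q b = 0 →
      b ≠ 0 → polar Q b u = 0 → polar Q b w = 0 → RatPlane F₀ P u w := by
    intro u w h1 h2 h3 h4 h5 b hb hbQ hb0 hbu hbw
    by_contra hp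
    exact hg (good_of_plane hR hM hb hbQ hb0 h1 h2 h3 hbu hbw h5 h4 hp)
  have hN : ∀ b, Rat F₀ P b → Q b = 0 → polar Q b u = 0 → polar Q b w = 0 → b = 0 := by
    intro b hb hbQ hbu hbw
    by_contra hb0
    exact hpl (noPlane u w huQ hwQ huw huw' hk b hb hbQ hb0 hbu hbw)
  have hn := hR.dim
  have hr5 : 5 ≤ r := by
    have h4 : 4 ≤ r := by
      by_contra h
      obtain ⟨b, hb, hbQ, hb0, hbu, hbw⟩ := exists_singular_perp_two hR hcard (r := r) (by omega) u w
      exact hb0 (hN b hb hbQ hbu hbw)
    rcases Nat.lt_or_ge r 5 with h | h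
    · obtain rfl : r = 4 := by omega
      exact absurd hr (by norm_num)
    · exact h
  obtain ⟨e, f, he⟩ := exists_frame hR huQ hwQ huw huw' hN
  have hinW : ∀ c : Fin 4 → F, spanU u w e (comb e c) ∧
      β₁ Q u w e (comb e c) = 0 ∧ β₂ Q u w e (comb e c) = 0 := fun c => by
    have h := decomp_apply hR he huQ hwQ huw c 0 0
    have e0 : ∑ i, c i • e i + (0 : F) • u + (0 : F) • w = comb e c := by simp [comb]
    rw [e0] at h
    exact ⟨⟨c, 0, 0, e0.symm⟩, h⟩
  set s : Fin 4 → Fin 4 → F := fun i => Pi.single i 1 with hsdef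
  have hse : ∀ i, comb e (s i) = e i := fun i => by simp [comb, hsdef, Pi.single_apply, ite_smul]
  have hinj : ∀ c : Fin 4 → F, comb e c = 0 → c = 0 := fun c h => funext fun l => by
    rw [← polar_comb_frame he c l, h, polar_zero_left]; rfl
  have hlin : ∀ (a : F) (c : Fin 4 → F) (b : F) (d : Fin 4 → F),
      a • comb e c + b • comb e d = comb e (a • c + b • d) := fun a c b d => by
    simp [comb, add_smul, Finset.sum_add_distrib, Finset.smul_sum, smul_smul]
  have hs : ∀ i m, s i m ∈ F₀ := fun i m => by
    by_cases h : m = i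
    · subst h; simp [hsdef]
    · simp [hsdef, h]
  have hs0 : ∀ i, s i ≠ 0 := fun i h => by simpa [hsdef] using congrFun h i
  -- an element inducing a translation fixes the frame
  have fixW : ∀ (g : orth Q) (x : F), Induces M u w e g (upper x) → ∀ i, g.1 (e i) = e i := by
    rintro g x ⟨hgM, -, hgv⟩
    have img : ∀ c, ∃ c', g.1 (comb e c) = comb e c' ∧
        polar Q (comb e c') u = polar Q (comb e c) u ∧ polar Q (comb e c') w = polar Q (comb e c) w := by
      intro c
      obtain ⟨hc, hc1, hc2⟩ := hinW c
      obtain ⟨⟨d, a, b, hd⟩, h1, h2, h3, h4⟩ := hgv _ hc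
      simp [upper, hc1, hc2] at h1 h2 h3 h4
      obtain ⟨ka, kb⟩ := decomp_apply hR he huQ hwQ huw d a b
      rw [← hd, h4] at ka
      rw [← hd, h2] at kb
      subst ka kb
      rw [zero_smul, zero_smul, add_zero, add_zero] at hd
      exact ⟨d, hd, (congrArg (fun v => polar Q v u) hd).symm.trans h1,
        (congrArg (fun v => polar Q v w) hd).symm.trans h3⟩
    have plane : ∀ c d : Fin 4 → F, (∀ i, c i ∈ F₀) → (∀ i, d i ∈ F₀) →
        (∀ a b : F, a • c + b • d = 0 → a = 0 ∧ b = 0) →
        RatPlane F₀ P (g.1 (comb e c)) (g.1 (comb e d)) := by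
      intro c d hc hd hcd
      obtain ⟨c', hc', -, -⟩ := img c
      obtain ⟨d', hd', -, -⟩ := img d
      have h0 : polar Q (comb e c) (comb e d) = 0 := by
        rw [polar_comb_left]
        refine Finset.sum_eq_zero fun i _ => ?_
        rw [polar_comm, polar_comb_e he, mul_zero]
      refine noPlane _ _ (by rw [map_form, form_comb he]) (by rw [map_form, form_comb he])
        (by rw [map_polar, h0]) (fun a b h => ?_) ?_ (e 0) (he.ratE 0) (he.qE 0) ?_ ?_ ?_
      · rw [← map_smul, ← map_smul, ← map_add, g.1.map_eq_zero_iff, hlin] at h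
        exact hcd a b (hinj _ h)
      · rw [← conj_eich]
        exact mul_mem (mul_mem hgM
          (hM _ _ (rat_comb he.ratE hc) (rat_comb he.ratE hd) (form_comb he c) h0)) (inv_mem hgM)
      · intro h
        have h1 := he.det
        rw [h] at h1
        simp at h1
      · rw [hc', polar_comm, polar_comb_e he]
      · rw [hd', polar_comm, polar_comb_e he]
    have pr : ∀ c : Fin 4 → F, (∀ i, c i ∈ F₀) → c ≠ 0 →
        ∃ (μ : F) (z : ι → F), Rat F₀ P z ∧ g.1 (comb e c) = μ • z := by
      intro c hc hc0
      obtain ⟨l, hl⟩ := Function.ne_iff.mp hc0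
      obtain ⟨i, hi, j, hj, hij⟩ : ∃ i, i ≠ l ∧ ∃ j, j ≠ l ∧ i ≠ j :=
        (by decide : ∀ l : Fin 4, ∃ i, i ≠ l ∧ ∃ j, j ≠ l ∧ i ≠ j) l
      have hzero : ∀ a b d : F, a • c + b • s i + d • s j = 0 → a = 0 ∧ b = 0 ∧ d = 0 := by
        intro a b d h
        have ha := congrFun h l
        simp [hsdef, Pi.single_eq_of_ne (Ne.symm hi), Pi.single_eq_of_ne (Ne.symm hj)] at ha
        have ha0 : a = 0 := ha.resolve_right hl
        subst ha0
        have h1 := congrFun h i
        have h2 := congrFun h j
        simp [hsdef, Pi.single_eq_of_ne hij, Pi.single_eq_of_ne hij.symm] at h1 h2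
        exact ⟨rfl, h1, h2⟩
      refine pr_of_planes hR (fun a b d h => ?_)
        (plane c (s i) hc (hs i) fun a b h => by
          obtain ⟨h1, h2, -⟩ := hzero a b 0 (by simpa using h)
          exact ⟨h1, h2⟩)
        (plane c (s j) hc (hs j) fun a b h => by
          obtain ⟨h1, -, h2⟩ := hzero a 0 b (by simpa using h)
          exact ⟨h1, h2⟩)
      rw [← map_smul, ← map_smul, ← map_smul, ← map_add, ← map_add, g.1.map_eq_zero_iff, hlin,
        ← one_smul F (comb e (a • c + b • s i)), hlin, one_smul] at h
      exact hzero a b d (hinj _ h)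
    have hfw : ∀ c, polar Q (g.1 (comb e c)) u = polar Q (comb e c) u ∧
        polar Q (g.1 (comb e c)) w = polar Q (comb e c) w := fun c => by
      obtain ⟨c', h, h1, h2⟩ := img c
      rw [h]; exact ⟨h1, h2⟩
    choose μ z hz hgz using fun i => pr (s i) (hs i) (hs0 i)
    have hge : ∀ i, g.1 (e i) = μ i • z i := fun i => hse i ▸ hgz i
    have hμ0 : ∀ i, μ i ≠ 0 := fun i h => by
      have h1 := hgz i
      rw [h, zero_smul, g.1.map_eq_zero_iff] at h1
      exact hs0 i (hinj _ h1)
    have key : ∀ i j, i ≠ j → ∀ (ν : F) (y : ι → F), Rat F₀ P y →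
        g.1 (e i + e j) = ν • y → ∃ t ∈ F₀, μ i = ν * t := by
      intro i j hij ν y hy h
      have hni : z i ∉ Submodule.span F {z j} := fun hm => by
        obtain ⟨γ, hγ⟩ := Submodule.mem_span_singleton.mp hm
        have h1 : g.1 (μ j • e i - (μ i * γ) • e j) = 0 := by
          rw [map_sub, map_smul, map_smul, hge, hge, ← hγ]; module
        rw [g.1.map_eq_zero_iff] at h1
        have h2 := congrArg (fun v => polar Q v (f i)) h1
        simp [polar_sub_left, polar_smul_left, he.ef, hij.symm] at h2
        exact hμ0 j h2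
      obtain ⟨d, hd, hdj, hdi⟩ := exists_dual hR ![z j] (fun l => by fin_cases l; exact hz j) (hz i)
        (notMem_single hni)
      refine ⟨polar Q d y, polar_rat hR hd hy, ?_⟩
      have h1 := congrArg (polarBilin Q d) h
      rw [map_add g.1, hge, hge, map_add, map_smul, map_smul, map_smul, polarBilin_apply_apply,
        polarBilin_apply_apply, polarBilin_apply_apply, hdi, show polar Q d (z j) = 0 from hdj 0] at h1
      simpa using h1
    have hratio : ∀ i, μ i / μ 0 ∈ F₀ := by
      intro i
      by_cases hi : i = 0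
      · rw [hi, div_self (hμ0 0)]; exact one_mem _
      obtain ⟨ν, y, hy, h⟩ := pr (s i + s 0) (fun m => add_mem (hs i m) (hs 0 m)) fun h => by
        simpa [hsdef, hi] using congrFun h i
      have e1 : comb e (s i + s 0) = e i + e 0 := by
        rw [← hse i, ← hse 0]; simpa using (hlin 1 (s i) 1 (s 0)).symm
      rw [e1] at h
      obtain ⟨t, ht, e2⟩ := key i 0 hi ν y hy h
      obtain ⟨t', ht', e3⟩ := key 0 i (Ne.symm hi) ν y hy (by rw [add_comm]; exact h)
      have hν : ν ≠ 0 := fun h0 => hμ0 i (by rw [e2, h0, zero_mul])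
      rw [e2, e3, mul_div_mul_left _ _ hν]
      exact div_mem ht ht'
    -- the pairings of the rational combinations with `u` and `w`
    let ψ : (Fin 4 → F₀) → F × F := fun c =>
      (polar Q (comb e fun i => (c i : F)) u, polar Q (comb e fun i => (c i : F)) w)
    have hψadd : ∀ c d, ψ (c + d) = ψ c + ψ d := fun c d => by
      simp [ψ, polar_comb_left, add_mul, Finset.sum_add_distrib]
    have hψsmul : ∀ (a : F₀) c, ψ (a • c) = (a : F) • ψ c := fun a c => by
      simp [ψ, polar_comb_left, mul_assoc, Finset.mul_sum]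
    have hψ0 : ∀ c, ψ c = 0 → c = 0 := fun c h => by
      rw [Prod.ext_iff] at h
      have h0 := hinj _ (hN _ (rat_comb he.ratE fun i => (c i).2) (form_comb he _) h.1 h.2)
      exact funext fun i => Subtype.ext (congrFun h0 i)
    have hψinj : Function.Injective ψ := fun c d h => by
      refine sub_eq_zero.mp (hψ0 _ ?_)
      have h1 := hψadd (c - d) d
      rw [sub_add_cancel, h] at h1
      exact right_eq_add.mp h1
    let T : Subring F :=
      { carrier := {a | ∀ c, ∃ d, a • ψ c = ψ d}
        one_mem' := fun c => ⟨c, one_smul F _⟩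
        mul_mem' := fun {a b} ha hb c => by
          obtain ⟨d, hd⟩ := hb c
          obtain ⟨d', hd'⟩ := ha d
          exact ⟨d', by rw [mul_smul, hd, hd']⟩
        zero_mem' := fun c => ⟨0, by simp [ψ, comb, Prod.ext_iff]⟩
        add_mem' := fun {a b} ha hb c => by
          obtain ⟨d, hd⟩ := ha c
          obtain ⟨d', hd'⟩ := hb c
          exact ⟨d + d', by rw [add_smul, hd, hd', hψadd]⟩
        neg_mem' := fun {a} ha c => by
          obtain ⟨d, hd⟩ := ha c
          exact ⟨(-1 : F₀) • d, by rw [hψsmul, neg_smul, hd]; simp⟩ }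
    let K : Subfield F :=
      { T with
        inv_mem' := fun a ha => by
          rcases eq_or_ne a 0 with rfl | h0
          · simpa using T.zero_mem
          · have h : a ^ (Fintype.card F - 2) = a⁻¹ := by
              have hq := Fintype.one_lt_card (α := F)
              apply eq_inv_of_mul_eq_one_left
              rw [← pow_succ, show Fintype.card F - 2 + 1 = Fintype.card F - 1 by omega,
                FiniteField.pow_card_sub_one_eq_one a h0]
            rw [← h]
            exact T.pow_mem ha _ }
    have himg : ∀ c : Fin 4 → F₀, ∃ d : Fin 4 → F₀,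
        g.1 (comb e fun i => (c i : F)) = μ 0 • comb e fun i => (d i : F) := by
      intro c
      set zz : ι → F := ∑ i, ((c i : F) * (μ i / μ 0)) • z i with hzz
      have hzzR : Rat F₀ P zz := rat_sum _ fun i _ => rat_smul (mul_mem (c i).2 (hratio i)) (hz i)
      have e1 : g.1 (comb e fun i => (c i : F)) = μ 0 • zz := by
        simp only [comb, map_sum, map_smul, hge, hzz, Finset.smul_sum, smul_smul]
        exact Finset.sum_congr rfl fun i _ => by
          congr 1
          field_simp [hμ0 0]
      obtain ⟨c', hc', -, -⟩ := img fun i => (c i : F)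
      refine ⟨fun i => ⟨polar Q zz (f i), polar_rat hR hzzR (he.ratF i)⟩, ?_⟩
      have e2 : zz = comb e ((μ 0)⁻¹ • c') := by
        have e3 : μ 0 • zz = comb e c' := e1.symm.trans hc'
        rw [← inv_smul_smul₀ (hμ0 0) zz, e3]
        simp [comb, Finset.smul_sum, smul_smul]
      rw [e1]
      congr 1
      conv_lhs => rw [e2]
      congr 1
      funext i
      show ((μ 0)⁻¹ • c') i = polar Q zz (f i)
      rw [e2, polar_comb_frame he]
    have hlamT : (μ 0)⁻¹ ∈ K := fun c => by
      obtain ⟨d, hd⟩ := himg c
      refine ⟨d, ?_⟩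
      obtain ⟨h1, h2⟩ := hfw fun i => (c i : F)
      rw [hd, polar_smul_left] at h1 h2
      simp only [ψ, Prod.smul_mk, ← h1, ← h2, smul_eq_mul, ← mul_assoc, inv_mul_cancel₀ (hμ0 0),
        one_mul]
    rcases subfield_cases hr hcard (K := K) (fun a ha c => ⟨(⟨a, ha⟩ : F₀) • c, (hψsmul ⟨a, ha⟩ c).symm⟩)
      with hT | hT
    swap
    · exfalso
      let Y : Submodule F (F × F) :=
        { carrier := Set.range ψ
          zero_mem' := ⟨0, by simp [ψ, comb, Prod.ext_iff]⟩
          add_mem' := by
            rintro _ _ ⟨c, rfl⟩ ⟨d, rfl⟩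
            exact ⟨c + d, hψadd c d⟩
          smul_mem' := by
            rintro a _ ⟨c, rfl⟩
            obtain ⟨d, hd⟩ := hT a c
            exact ⟨d, hd.symm⟩ }
      have hY : Nat.card Y = Nat.card F₀ ^ 4 := by
        rw [show Nat.card Y = Nat.card (Set.range ψ) from rfl,
          Nat.card_range_of_injective hψinj, Nat.card_fun, Nat.card_fin]
      rw [Module.natCard_eq_pow_finrank (K := F), hcard, ← pow_mul] at hY
      have h4 := Nat.pow_right_injective (Finite.one_lt_card (α := F₀)) hY
      rcases Nat.eq_zero_or_pos (Module.finrank F Y) with h | h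
      · rw [h, mul_zero] at h4; omega
      · have := Nat.mul_le_mul hr5 h; omega
    have hlam : μ 0 ∈ F₀ := by simpa using inv_mem (hT _ hlamT)
    intro i
    have hμi : μ i ∈ F₀ := by simpa [div_mul_cancel₀ _ (hμ0 0)] using mul_mem (hratio i) hlam
    obtain ⟨c', hc', -, -⟩ := img (s i)
    have hc'R : ∀ l, c' l ∈ F₀ := fun l => by
      rw [← polar_comb_frame he c' l, ← hc', hse, hge]
      exact polar_rat hR (rat_smul hμi (hz i)) (he.ratF l)
    have e1 : comb e (c' - s i) = g.1 (e i) - e i := by
      rw [← hse i, hc', sub_eq_add_neg (comb e c'), ← neg_one_smul F (comb e (s i)),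
        ← one_smul F (comb e c'), hlin, one_smul, neg_one_smul, ← sub_eq_add_neg]
    obtain ⟨h1, h2⟩ := hfw (s i)
    rw [hse] at h1 h2
    have := hN (comb e (c' - s i)) (rat_comb he.ratE fun l => sub_mem (hc'R l) (hs i l))
      (form_comb he _)
      (by rw [e1, polar_sub_left, h1, sub_self]) (by rw [e1, polar_sub_left, h2, sub_self])
    rw [e1] at this
    exact sub_eq_zero.mp this
  -- the product of the six rational root elements
  let ψ : (Fin 6 → F₀) → F := fun c => ∑ p, (c p : F) * det2 Q u w e (pI p) (pJ p)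
  have hp : ∀ p, pI p ≠ pJ p := by decide
  have hval : ∀ c : Fin 6 → F₀, ∃ h, Induces M u w e h (upper (-ψ c)) ∧ ∀ v, h.1 v = v + ∑ p,
      (c p : F) • (polar Q (e (pI p)) v • e (pJ p) - polar Q (e (pJ p)) v • e (pI p)) := by
    intro c
    set S : Fin 6 → (ι → F) → ι → F := fun p v =>
      (c p : F) • (polar Q (e (pI p)) v • e (pJ p) - polar Q (e (pJ p)) v • e (pI p)) with hS
    have hrec : ∀ L : List (Fin 6), ∃ h,
        Induces M u w e h (upper (-(L.map fun p => (c p : F) * det2 Q u w e (pI p) (pJ p)).sum)) ∧
        ∀ v, h.1 v = v + (L.map (S · v)).sum := by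
      intro L
      induction L with
      | nil => exact ⟨1, by simpa [PLocalB.upper_zero] using induces_one, fun v => by simp⟩
      | cons p L ih =>
        obtain ⟨h, hh, hhv⟩ := ih
        refine ⟨eich Q (e (pI p)) ((c p : F) • e (pJ p)) * h, ?_, fun v => ?_⟩
        · have := induces_mul (induces_upper hR hM he huQ hwQ huw (hp p) (c p).2) hh
          rw [PLocalB.upper_mul] at this
          convert! this using 2
          simp
          ring
        · have hperp : ∀ l, polar Q (e l) (h.1 v) = polar Q (e l) v := fun l => by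
            have hs : polarBilin Q (e l) (L.map (S · v)).sum = 0 := by
              rw [map_list_sum]
              refine List.sum_eq_zero fun x hx => ?_
              simp only [List.mem_map] at hx
              obtain ⟨_, ⟨m, -, rfl⟩, rfl⟩ := hx
              simp [hS, he.ee]
            rw [hhv, polar_add_right, show polar Q (e l) (L.map (S · v)).sum = 0 from hs, add_zero]
          rw [coe_mul_apply, eich_apply (he.qE _) (by rw [polar_smul_right, he.ee, smul_zero]),
            form_smul, he.qE, polar_smul_left, hperp, hperp, hhv, List.map_cons, List.sum_cons]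
          simp only [hS, smul_eq_mul]
          module
    obtain ⟨h, h1, h2⟩ := hrec (List.finRange 6)
    refine ⟨h, ?_, fun v => ?_⟩
    · convert! h1 using 3
    · rw [h2, Fin.sum_univ_def]
  have hψinj : Function.Injective ψ := by
    intro c d hcd
    obtain ⟨h, hh, hhv⟩ := hval (c - d)
    have hz : ψ (c - d) = 0 := by
      have : ψ (c - d) = ψ c - ψ d := by simp [ψ, sub_mul, Finset.sum_sub_distrib]
      rw [this, hcd, sub_self]
    rw [hz, neg_zero] at hh
    have hk' := induces_lower hR he huQ hwQ huw hk
    have hh' := induces_mul (induces_mul hk' hh) (induces_inv hk')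
    rw [PLocalB.upper_zero, mul_one, mul_inv_cancel] at hh'
    have f1 := fixW h 0 hh
    have f2 := fixW _ 0 (by rw [PLocalB.upper_zero]; exact hh')
    have e3 : ∀ l, h.1 (polar Q u (e l) • w - polar Q w (e l) • u) =
        polar Q u (e l) • w - polar Q w (e l) • u := by
      intro l
      have h1 := f2 l
      rw [coe_mul_apply, coe_mul_apply] at h1
      have h2 : h.1 ((eich Q u w)⁻¹.1 (e l)) = (eich Q u w)⁻¹.1 (e l) := by
        apply (eich Q u w).1.injective
        rw [h1, coe_apply_inv_apply]
      rw [eich_inv huQ huw, eich_apply huQ (by rw [polar_neg_right, huw, neg_zero])] at h2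
      simp only [QuadraticMap.map_neg, hwQ, polar_neg_left, zero_mul, zero_smul, sub_zero, map_add,
        map_sub, map_smul, map_neg, f1] at h2
      rw [map_sub, map_smul, map_smul]
      linear_combination (norm := module) -h2
    have hD := he.det
    have hu : h.1 u = u ∧ h.1 w = w := by
      have a0 := e3 0
      have a1 := e3 1
      simp only [map_sub, map_smul, polar_comm Q u (e _), polar_comm Q w (e _)] at a0 a1
      constructor <;> refine smul_right_injective _ hD ?_ <;> simp only
      · linear_combination (norm := module) polar Q (e 1) u • a0 - polar Q (e 0) u • a1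
      · linear_combination (norm := module) polar Q (e 1) w • a0 - polar Q (e 0) w • a1
    have hcoef : ∀ (x : ι → F), h.1 x = x → ∀ l, ∑ p, ((c - d) p : F) *
        (polar Q (e (pI p)) x * (if pJ p = l then 1 else 0) -
          polar Q (e (pJ p)) x * (if pI p = l then 1 else 0)) = 0 := by
      intro x hx l
      have h1 := hhv x
      rw [hx, left_eq_add] at h1
      have h2 := congrArg ((polarBilin Q).flip (f l)) h1
      simp only [map_sum, map_smul, map_sub, LinearMap.flip_apply, polarBilin_apply_apply, he.ef,
        map_zero, smul_eq_mul] at h2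
      exact h2
    have kill : ∀ a : Fin 4 → F, (∀ i, a i ∈ F₀) → polar Q (comb e a) u = 0 →
        polar Q (comb e a) w = 0 → a = 0 := fun a ha h1 h2 =>
      hinj _ (hN _ (rat_comb he.ratE ha) (form_comb he a) h1 h2)
    set C := c - d
    have h00 := hcoef u hu.1 0
    have h01 := hcoef w hu.2 0
    simp [Fin.sum_univ_six, pI, pJ] at h00 h01
    have r0 := kill ![0, C 0, C 1, C 2] (fun i => by fin_cases i <;> simp)
      (by simp [polar_comb_left, Fin.sum_univ_four]; linear_combination -h00)
      (by simp [polar_comb_left, Fin.sum_univ_four]; linear_combination -h01)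
    have c0 : (C 0 : F) = 0 := congrFun r0 1
    have c1 : (C 1 : F) = 0 := congrFun r0 2
    have c2 : (C 2 : F) = 0 := congrFun r0 3
    have h10 := hcoef u hu.1 1
    have h11 := hcoef w hu.2 1
    simp [Fin.sum_univ_six, pI, pJ, c0] at h10 h11
    have r1 := kill ![0, 0, C 3, C 4] (fun i => by fin_cases i <;> simp)
      (by simp [polar_comb_left, Fin.sum_univ_four]; linear_combination -h10)
      (by simp [polar_comb_left, Fin.sum_univ_four]; linear_combination -h11)
    have c3 : (C 3 : F) = 0 := congrFun r1 2
    have c4 : (C 4 : F) = 0 := congrFun r1 3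
    have h20 := hcoef u hu.1 2
    have h21 := hcoef w hu.2 2
    simp [Fin.sum_univ_six, pI, pJ, c1, c3] at h20 h21
    have r2 := kill ![0, 0, 0, C 5] (fun i => by fin_cases i <;> simp)
      (by simpa [polar_comb_left, Fin.sum_univ_four] using h20)
      (by simpa [polar_comb_left, Fin.sum_univ_four] using h21)
    have c5 : (C 5 : F) = 0 := congrFun r2 3
    refine sub_eq_zero.mp (funext fun p => Subtype.ext ?_)
    fin_cases p <;> assumption
  -- every translation comes from the rational root elements
  have htr : ∀ (g : orth Q) (x : F), Induces M u w e g (upper x) → ∃ c, x = -ψ c := by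
    intro g x hgx
    have fe := fixW g x hgx
    obtain ⟨hgM, hgy, hgv⟩ := hgx
    have fperp : ∀ y, (∀ l, polar Q y (e l) = 0) → g.1 y = y := by
      intro y hy
      set a := (polar Q y u * polar Q (e 1) w - polar Q y w * polar Q (e 1) u) / det2 Q u w e 0 1
        with hadef
      set b := (polar Q y w * polar Q (e 0) u - polar Q y u * polar Q (e 0) w) / det2 Q u w e 0 1
        with hbdef
      have hD := det_ne he
      have h1 := hgy (y - (a • e 0 + b • e 1)) ⟨fun l => by
        simp [polar_sub_left, polar_add_left, polar_smul_left, hy, he.ee], by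
        simp only [polar_sub_left, polar_add_left, polar_smul_left, smul_eq_mul, hadef, hbdef]
        field_simp
        simp only [det2]; ring, by
        simp only [polar_sub_left, polar_add_left, polar_smul_left, smul_eq_mul, hadef, hbdef]
        field_simp
        simp only [det2]; ring⟩
      rw [map_sub, map_add, map_smul, map_smul, fe, fe] at h1
      exact sub_left_injective h1
    have delta : ∀ v, g.1 v - v = comb e fun l => polar Q (g.1 v - v) (f l) := by
      intro v
      refine sub_eq_zero.mp (hR.nd _ fun x => ?_)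
      set y := x - ∑ l, polar Q x (e l) • f l with hy
      have hye : ∀ l, polar Q y (e l) = 0 := fun l => by
        rw [hy, polar_sub_left]
        show _ - (polarBilin Q).flip (e l) _ = 0
        simp [map_sum, polar_comm Q (f _) (e l), he.ef]
      have h1 : polar Q (g.1 v - v) y = 0 := by
        rw [polar_sub_left]
        conv_lhs => enter [1]; rw [← fperp y hye]
        rw [map_polar, sub_self]
      have h2 : ∀ c, polar Q (comb e c) y = 0 := fun c => by
        simp [polar_comb_left, polar_comm Q (e _) y, hye]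
      have ex : x = y + ∑ l, polar Q x (e l) • f l := by rw [hy, sub_add_cancel]
      rw [ex, polar_add_right, polar_sub_left, h1, h2, sub_zero, zero_add]
      show polarBilin Q _ _ = 0
      simp [map_sum, polar_sub_left, polar_comb_frame he]
    have hfe : ∀ v l, polar Q (g.1 v) (e l) = polar Q v (e l) := fun v l => by
      conv_lhs => rw [← fe l]
      exact map_polar g v (e l)
    set cc : Fin 4 → Fin 4 → F := fun i l => polar Q (g.1 (f i) - f i) (f l) with hcc
    have hgf : ∀ i, g.1 (f i) = f i + comb e (cc i) := fun i => by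
      rw [hcc, ← delta (f i)]; abel
    have hcR : ∀ i l, cc i l ∈ F₀ := by
      intro i l
      obtain ⟨j, hj, m, hm, hjm, n, hni, hnj, hnm⟩ : ∃ j, j ≠ i ∧ ∃ m, m ≠ i ∧ j ≠ m ∧
          ∃ n, n ≠ i ∧ n ≠ j ∧ n ≠ m :=
        (by decide : ∀ i : Fin 4, ∃ j, j ≠ i ∧ ∃ m, m ≠ i ∧ j ≠ m ∧
          ∃ n, n ≠ i ∧ n ≠ j ∧ n ≠ m) i
      have pl : ∀ j, j ≠ i → n ≠ j → RatPlane F₀ P (g.1 (f i)) (g.1 (e j)) := by
        intro j hj hnj
        have h0 : polar Q (f i) (e j) = 0 := by rw [polar_comm, he.ef, if_neg hj]
        refine noPlane _ _ (by rw [map_form, he.qF]) (by rw [map_form, he.qE])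
          (by rw [map_polar, h0]) (fun a b h => ?_) ?_ (e n) (he.ratE n) (he.qE n) ?_ ?_ ?_
        · rw [← map_smul, ← map_smul, ← map_add, g.1.map_eq_zero_iff] at h
          have h1 := congrArg (fun v => polar Q v (e i)) h
          have h2 := congrArg (fun v => polar Q v (f j)) h
          simp [polar_add_left, polar_smul_left, polar_comm Q (f i) (e i), he.ef, he.ee] at h1
          simp [h1, polar_smul_left, he.ef] at h2
          exact ⟨h1, h2⟩
        · rw [← conj_eich]
          exact mul_mem (mul_mem hgM (hM _ _ (he.ratF i) (he.ratE j) (he.qF i) h0)) (inv_mem hgM)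
        · intro h
          have := he.ef n n
          rw [h] at this
          simp at this
        · rw [← fe n, map_polar, he.ef, if_neg hni]
        · rw [← fe n, map_polar, he.ee]
      obtain ⟨ν, z, hz, hgz⟩ := pr_of_planes hR (fun a b c h => by
          rw [← map_smul, ← map_smul, ← map_smul, ← map_add, ← map_add, g.1.map_eq_zero_iff] at h
          have h1 := congrArg (fun v => polar Q v (e i)) h
          have h2 := congrArg (fun v => polar Q v (f j)) h
          have h3 := congrArg (fun v => polar Q v (f m)) h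
          simp [polar_add_left, polar_smul_left, polar_comm Q (f i) (e i), he.ef, he.ee] at h1
          simp [h1, polar_add_left, polar_smul_left, he.ef, hjm, hjm.symm] at h2 h3
          exact ⟨h1, h2, h3⟩) (pl j hj hnj) (pl m hm hnm)
      have h1 : polar Q (g.1 (f i)) (e i) = 1 := by rw [hfe, polar_comm, he.ef, if_pos rfl]
      rw [hgz, polar_smul_left, smul_eq_mul] at h1
      have hν : ν ∈ F₀ := by
        rw [eq_inv_of_mul_eq_one_left h1]
        exact inv_mem (polar_rat hR hz (he.ratE i))
      simp only [hcc]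
      rw [hgz]
      exact polar_rat hR (rat_sub (rat_smul hν hz) (he.ratF i)) (he.ratF l)
    have hff : ∀ i l, polar Q (f i) (f l) = 0 := fun i l => by
      by_cases h : i = l
      · rw [h, polar_self_eq, he.qF, mul_zero]
      · exact he.ff i l h
    have hskew : ∀ i l, cc i l + cc l i = 0 := fun i l => by
      have h1 := map_polar g (f i) (f l)
      rw [hgf, hgf, polar_add_left, polar_add_right, polar_add_right, hff,
        polar_comb_frame he, polar_comm Q (f i) (comb e _), polar_comb_frame he] at h1
      have h2 : polar Q (comb e (cc i)) (comb e (cc l)) = 0 := by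
        rw [polar_comb_left]
        exact Finset.sum_eq_zero fun i _ => by rw [polar_comm, polar_comb_e he, mul_zero]
      rw [h2] at h1
      linear_combination h1
    have hdiag : ∀ i, cc i i = 0 := fun i => by
      have h1 := map_form g (f i)
      rw [hgf, form_add, he.qF, form_comb he, polar_comm, polar_comb_frame he] at h1
      linear_combination h1
    refine ⟨fun p => ⟨cc (pI p) (pJ p), hcR _ _⟩, ?_⟩
    have hdel : ∀ l, polar Q (g.1 w - w) (f l) = -∑ m, cc l m * polar Q (e m) w := fun l => by
      have h1 := map_polar g w (f l)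
      rw [hgf, polar_add_right, polar_comm Q (g.1 w) (comb e _), polar_comb_left] at h1
      simp only [polar_comm Q (e _) (g.1 w), hfe, polar_comm Q w (e _)] at h1
      rw [polar_sub_left]
      linear_combination h1
    obtain ⟨-, h1, -⟩ := hgv w ⟨0, 0, 1, by simp⟩
    have hb : β₂ Q u w e w = 1 := by
      have h2 := (decomp_apply hR he huQ hwQ huw 0 0 1).2
      simpa using h2
    rw [hb, ← sub_eq_iff_eq_add'] at h1
    simp [upper] at h1
    rw [← h1, ← polar_sub_left, delta w, polar_comb_left]
    simp only [hdel]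
    simp [ψ, Fin.sum_univ_four, Fin.sum_univ_six, pI, pJ, det2, hdiag]
    linear_combination (norm := ring_nf) -(polar Q (e 1) u * polar Q (e 0) w) * hskew 1 0 -
      (polar Q (e 2) u * polar Q (e 0) w) * hskew 2 0 - (polar Q (e 3) u * polar Q (e 0) w) * hskew 3 0 -
      (polar Q (e 2) u * polar Q (e 1) w) * hskew 2 1 - (polar Q (e 3) u * polar Q (e 1) w) * hskew 3 1 -
      (polar Q (e 3) u * polar Q (e 2) w) * hskew 3 2
  -- the translations
  set H : Subgroup (PSL2 F) := (inducedGroup M u w e).map (QuotientGroup.mk' _) with hHdef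
  let C : AddSubgroup F :=
    { carrier := {b | uppHom F (Multiplicative.ofAdd b) ∈ H}
      zero_mem' := by simp [one_mem]
      add_mem' := fun {a b} ha hb => by
        show uppHom F (Multiplicative.ofAdd (a + b)) ∈ H
        rw [ofAdd_add, map_mul]; exact mul_mem ha hb
      neg_mem' := fun {a} ha => by
        show uppHom F (Multiplicative.ofAdd (-a)) ∈ H
        rw [ofAdd_neg, map_inv]; exact inv_mem ha }
  have hCeq : (C : Set F) = Set.range fun c => -ψ c := by
    ext b
    constructor
    · rintro ⟨X, hX, hXb⟩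
      have hup : upper b ∈ inducedGroup M u w e := by
        rcases Dickson.mk_eq_mk_iff.mp (show (QuotientGroup.mk X : PSL2 F) = QuotientGroup.mk (upper b)
          from hXb) with e1 | e1
        · exact e1 ▸ hX
        · obtain ⟨p, hp⟩ := CharP.exists F
          have hpp : p.Prime := CharP.char_is_prime F p
          haveI := Fact.mk hpp
          rcases hpp.eq_two_or_odd' with h2 | hodd
          · subst h2
            have : X = upper b := by
              rw [e1]; apply Subtype.ext
              rw [Matrix.SpecialLinearGroup.coe_neg]; ext i j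
              rw [Matrix.neg_apply, CharTwo.neg_eq]
            exact this ▸ hX
          · have h1 : X ^ (p + 1) = upper b := by
              rw [e1, hodd.add_one.neg_pow, PLocalB.upper_pow, Nat.cast_add, CharP.cast_eq_zero,
                zero_add, Nat.cast_one, one_mul]
            exact h1 ▸ pow_mem hX _
      obtain ⟨g, hg⟩ := hup
      obtain ⟨c, hc⟩ := htr g b hg
      exact ⟨c, hc.symm⟩
    · rintro ⟨c, rfl⟩
      obtain ⟨h, hh, -⟩ := hval c
      exact ⟨_, ⟨h, hh⟩, rfl⟩
  have hCcard : Nat.card C = Nat.card F₀ ^ 6 := by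
    rw [show Nat.card C = Nat.card (C : Set F) from rfl, hCeq,
      Nat.card_range_of_injective (fun a b h => hψinj (neg_injective h)), Nat.card_fun, Nat.card_fin]
  have hq : 2 ≤ Nat.card F₀ := Finite.one_lt_card
  have h64 : 64 ≤ Nat.card C := by
    rw [hCcard]
    calc 64 = 2 ^ 6 := by norm_num
      _ ≤ _ := Nat.pow_le_pow_left hq 6
  obtain ⟨ha1, hclosed⟩ := SL2Orbit.translations_closed H C (fun b => Iff.rfl) h64 (one_ne_zero (α := F))
    ⟨_, ⟨_, induces_lower hR he huQ hwQ huw hk⟩, rfl⟩
  have ha1' : -(1 : F)⁻¹ ≠ 0 := by simp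
  obtain ⟨hK, -⟩ := Dickson.eq_smul_subfield C
    (neg_ne_zero.mpr (inv_ne_zero (pow_ne_zero 2 (one_ne_zero (α := F))))) hclosed ha1 ha1'
  have hF₀K : F₀ ≤ Dickson.multiplier C := by
    intro a ha
    rw [Dickson.mem_multiplier]
    intro b hb
    rw [← SetLike.mem_coe, hCeq] at hb ⊢
    obtain ⟨c, rfl⟩ := hb
    refine ⟨(⟨a, ha⟩ : F₀) • c, ?_⟩
    simp [ψ, Finset.mul_sum, mul_assoc]
  rcases subfield_cases hr hcard hF₀K with h | h
  · have hle : Nat.card C ≤ Nat.card F₀ :=
      Nat.card_le_card_of_injective
        (fun b : C => (⟨(b : F) / -(1 : F)⁻¹, h _ ((hK b).mp b.2)⟩ : F₀))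
        fun x y e => Subtype.ext ((div_left_inj' ha1').mp (congrArg Subtype.val e))
    rw [hCcard] at hle
    have := Nat.pow_lt_pow_right (a := Nat.card F₀) (by omega) (show 1 < 6 by norm_num)
    rw [pow_one] at this
    omega
  · have hall : Nat.card F ≤ Nat.card C :=
      Nat.card_le_card_of_injective (fun b : F => (⟨b, (hK b).mpr (h _)⟩ : C))
        fun x y e => congrArg Subtype.val e
    rw [hCcard, hcard] at hall
    have h6 : 6 ≤ r := by
      have hle : Nat.card C ≤ Nat.card F :=
        Nat.card_le_card_of_injective (fun b : C => (b : F)) fun x y e => Subtype.ext e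
      rw [hCcard, hcard] at hle
      exact (Nat.pow_le_pow_iff_right (by omega)).mp hle
    have h7 : 6 < r := lt_of_le_of_ne h6 fun e => absurd (e ▸ hr) (by norm_num)
    have := Nat.pow_lt_pow_right (a := Nat.card F₀) (by omega) h7
    omega

end Cfsg.Agent.SubfieldQuad
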