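import Cfsg.Agent.MaxSub.UnitaryInSp

/-!
The normaliser of a quadratic field extension rescaling the quadratic form is maximal in `Ω`, any
characteristic (helper24).
-/

set_option autoImplicit false
set_option linter.unusedSectionVars false

namespace Cfsg.Agent.UnitaryInOmega

open QuadraticMap Cfsg.Agent.UnitaryOrthogonal Cfsg.Agent.OrthStab

variable {F : Type*} [Field F] [Finite F] {V : Type*} [AddCommGroup V] [Module F V]
variable [FiniteDimensional F V] {Q : QuadraticForm F V} {j : V →ₗ[F] V} {t d : F}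

/-- A generator of a quadratic extension inside the similarities of `Q`. -/
structure IsFieldGen (Q : QuadraticForm F V) (j : V →ₗ[F] V) (t d : F) : Prop where
  nd : PolarND Q
  sq : ∀ x, j (j x) = t • j x - d • x
  nroot : ∀ r : F, r * r - t * r + d ≠ 0
  adj : ∀ x y, polar Q (j x) y = t * polar Q x y - polar Q x (j y)
  scale : ∀ x, Q (j x) = d * Q x
  sing : ∀ x, Q x = 0 → polar Q x (j x) = 0

variable (hs : IsFieldGen Q j t d)
include hs

theorem polar_jj (x y : V) : polar Q (j x) (j y) = d * polar Q x y := by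
  simp only [polar, ← map_add, hs.scale]; ring

theorem adj' (x y : V) : polar Q x (j y) = t * polar Q x y - polar Q (j x) y := by
  rw [hs.adj x y]; ring

theorem indep_K {v w : V} (hv0 : v ≠ 0) (hw : w ∉ Submodule.span F (Set.range ![v, j v]))
    {a b c e : F} (h : a • v + b • j v + (c • w + e • j w) = 0) :
    a = 0 ∧ b = 0 ∧ c = 0 ∧ e = 0 := by
  have norm : ∀ x y : F, ¬ (x = 0 ∧ y = 0) → x * x + t * x * y + d * (y * y) ≠ 0 := by
    intro x y hxy h3
    by_cases hy : y = 0
    · rw [hy] at h3
      simp only [mul_zero, add_zero, mul_self_eq_zero] at h3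
      exact hxy ⟨h3, hy⟩
    · exact hs.nroot (-x / y) (by field_simp; linear_combination h3)
  by_cases hce : c = 0 ∧ e = 0
  · rw [hce.1, hce.2, zero_smul, zero_smul, add_zero, add_zero] at h
    by_contra hab
    have h1 := congrArg (fun z => (a + b * t) • z - b • j z) h
    simp only [map_add, map_smul, hs.sq, smul_zero, map_zero, sub_zero] at h1
    have h2 : (a * a + t * a * b + d * (b * b)) • v = 0 := by rw [← h1]; module
    exact hv0 ((smul_eq_zero.mp h2).resolve_left
      (norm a b fun h3 => hab ⟨h3.1, h3.2, hce⟩))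
  exfalso
  have h1 := congrArg (fun z => (c + e * t) • z - e • j z) h
  simp only [map_add, map_smul, hs.sq, smul_zero, map_zero, sub_zero] at h1
  have h2 : (c * c + t * c * e + d * (e * e)) • w =
      (-((c + e * t) * a + e * b * d)) • v + (-((c + e * t) * b - e * a - e * b * t)) • j v := by
    rw [← sub_eq_zero, ← h1]; module
  refine hw ((Submodule.smul_mem_iff _ (norm c e hce)).mp ?_)
  rw [h2]
  exact add_mem (Submodule.smul_mem _ _ (Submodule.subset_span ⟨0, rfl⟩))
    (Submodule.smul_mem _ _ (Submodule.subset_span ⟨1, rfl⟩))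

theorem jv_mem {v x : V} (hx : x ∈ Submodule.span F (Set.range ![v, j v])) :
    j x ∈ Submodule.span F (Set.range ![v, j v]) := by
  obtain ⟨c, rfl⟩ := (Submodule.mem_span_range_iff_exists_fun F).mp hx
  rw [Fin.sum_univ_two]
  simp only [Matrix.cons_val_zero, Matrix.cons_val_one, Matrix.cons_val_fin_one, map_add, map_smul,
    hs.sq, smul_sub, smul_smul]
  exact add_mem (Submodule.smul_mem _ _ (Submodule.subset_span ⟨1, rfl⟩))
    (sub_mem (Submodule.smul_mem _ _ (Submodule.subset_span ⟨1, rfl⟩))
      (Submodule.smul_mem _ _ (Submodule.subset_span ⟨0, rfl⟩)))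

theorem eich_comm {v : V} (hv : Q v = 0) (l : F) (x : V) :
    (eich Q v (l • j v)).1 (j x) = j ((eich Q v (l • j v)).1 x) := by
  have h : polar Q v (l • j v) = 0 := by rw [polar_smul_right, hs.sing v hv, smul_zero]
  have h1 : polar Q v (j x) = t * polar Q v x - polar Q (j v) x := adj' hs v x
  simp only [eich_apply hv h, form_smul, hs.scale, hv, map_add, map_sub, map_smul, polar_smul_left,
    hs.sq, h1, polar_jj hs, smul_eq_mul]
  module

theorem finrank_span_le {k : ℕ} (v : Fin k → V) :
    Module.finrank F (Submodule.span F (Set.range v)) ≤ k :=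
  (finrank_range_le_card v).trans (Fintype.card_fin k).le

theorem mem_of_perpOf (hQ : PolarND Q) {S : Submodule F V} {y : V}
    (h : ∀ x ∈ perpOf Q S, polar Q x y = 0) : y ∈ S := by
  by_contra hy
  obtain ⟨x, hxy, hxS⟩ := exists_dual_vec hQ hy
  exact one_ne_zero (hxy.symm.trans (h x (mem_perpOf.mpr hxS)))

/-- A singular vector orthogonal to a small subspace, with value one at a vector outside it. -/
theorem exists_value_singular {S : Submodule F V} {y : V} (hy : y ∉ S)
    (hd : 2 * Module.finrank F S + 3 ≤ Module.finrank F V) :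
    ∃ w, Q w = 0 ∧ (∀ x ∈ S, polar Q w x = 0) ∧ polar Q w y = 1 := by
  by_contra hcon
  have hcon' : ∀ w ∈ perpOf Q S, Q w = 0 → polar Q w y = 0 := by
    intro w hw hwQ
    by_contra h
    refine hcon ⟨(polar Q w y)⁻¹ • w, by rw [form_smul, hwQ, mul_zero], fun x hx => ?_, ?_⟩
    · rw [polar_smul_left, mem_perpOf.mp hw x hx, smul_zero]
    · rw [polar_smul_left, smul_eq_mul, inv_mul_cancel₀ h]
  obtain ⟨e, heS, he, hep⟩ := UnitaryInSp.exists_singular_perp hs.nd (T := S) (S := S) (by omega)
  obtain ⟨f, hfe, hfS⟩ := exists_dual_vec hs.nd heS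
  have hf : f ∈ perpOf Q S := mem_perpOf.mpr hfS
  have he' : e ∈ perpOf Q S := mem_perpOf.mpr hep
  have step : ∀ x ∈ perpOf Q S, polar Q x e ≠ 0 → polar Q x y = 0 := by
    intro x hx hne
    have h := hcon' _ (add_mem hx (Submodule.smul_mem _ (-(Q x) / polar Q x e) he')) (by
      rw [form_add, form_smul, he, polar_smul_right, smul_eq_mul, mul_zero, add_zero,
        div_mul_cancel₀ _ hne, add_neg_cancel])
    simpa [polar_add_left, polar_smul_left, hcon' e he' he] using h
  refine hy (mem_of_perpOf hs hs.nd fun x hx => ?_)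
  by_cases hne : polar Q x e = 0
  · have h1 := step f hf (by rw [hfe]; exact one_ne_zero)
    have h2 := step (x + f) (add_mem hx hf)
      (by rw [polar_add_left, hne, hfe, zero_add]; exact one_ne_zero)
    simpa [polar_add_left, h1] using h2
  · exact step x hx hne

variable (hn : 10 ≤ Module.finrank F V)
include hn

theorem value {k : ℕ} (p : Fin k → V) {y : V} (hy : y ∉ Submodule.span F (Set.range p))
    (hk : k ≤ 3) :
    ∃ w, Q w = 0 ∧ (∀ i, polar Q w (p i) = 0) ∧ polar Q w y = 1 := by
  obtain ⟨w, hw, hwS, hwy⟩ := exists_value_singular hs hy (by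
    have := finrank_span_le hs p
    omega)
  exact ⟨w, hw, fun i => hwS _ (Submodule.subset_span ⟨i, rfl⟩), hwy⟩

theorem perp {k l : ℕ} (p : Fin k → V) (r : Fin l → V) (hk : k + l ≤ 7) :
    ∃ w, w ∉ Submodule.span F (Set.range r) ∧ Q w = 0 ∧ ∀ i, polar Q w (p i) = 0 := by
  obtain ⟨w, hwr, hw, hwp⟩ := UnitaryInSp.exists_singular_perp hs.nd
    (T := Submodule.span F (Set.range p)) (S := Submodule.span F (Set.range r)) (by
    have := finrank_span_le hs p
    have := finrank_span_le hs r
    omega)
  exact ⟨w, hwr, hw, fun i => hwp _ (Submodule.subset_span ⟨i, rfl⟩)⟩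

theorem exists_sing_split (x : V) :
    ∃ e y, ∃ s : F, Q e = 0 ∧ Q y = 0 ∧ x = y - s • e := by
  by_cases hx : x = 0
  · exact ⟨0, 0, 0, by simp, by simp, by simp [hx]⟩
  obtain ⟨e, he, -, hex⟩ := value hs hn (![] : Fin 0 → V) (y := x) (by simpa using hx) (by omega)
  refine ⟨e, x + (-Q x) • e, -Q x, he, ?_, by simp⟩
  rw [form_add, form_smul, he, polar_smul_right, polar_comm, hex, smul_eq_mul]
  ring

/-- An element outside the normaliser moves some singular line off the field lines. -/
theorem exists_bad {g : orth Q}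
    (hg : ¬ ((∀ x, g.1 (j x) = j (g.1 x)) ∨ ∀ x, g.1 (j x) = t • g.1 x - j (g.1 x))) :
    ∃ v, Q v = 0 ∧ v ≠ 0 ∧
      j (g.1 v) ∉ Submodule.span F (Set.range ![g.1 v, g.1 (j v)]) := by
  by_contra hcon
  simp only [not_exists, not_and, not_not] at hcon
  let T : V →ₗ[F] V := g.1.symm.toLinearMap ∘ₗ j ∘ₗ g.1.toLinearMap
  have hT : ∀ x, T x = g.1.symm (j (g.1 x)) := fun x => rfl
  have hk : ∀ v, Q v = 0 → v ≠ 0 → ∃ a b : F, T v = a • v + b • j v := by
    intro v hv hv0
    obtain ⟨c, hc⟩ := (Submodule.mem_span_range_iff_exists_fun F).mp (hcon v hv hv0)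
    refine ⟨c 0, c 1, ?_⟩
    rw [hT, ← hc, Fin.sum_univ_two]
    simp
  choose a b hab using hk
  have pair : ∀ (v w : V) (hv : Q v = 0) (hv0 : v ≠ 0) (hw : Q w = 0) (hw0 : w ≠ 0),
      polar Q v w = 0 → w ∉ Submodule.span F (Set.range ![v, j v]) →
      a v hv hv0 = a w hw hw0 ∧ b v hv hv0 = b w hw hw0 := by
    intro v w hv hv0 hw hw0 h2 hwn
    have hvw0 : v + w ≠ 0 := fun h => by
      have := indep_K hs hv0 hwn (a := 1) (b := 0) (c := 1) (e := 0) (by rw [← h]; module)
      exact one_ne_zero this.1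
    have hvw : Q (v + w) = 0 := by rw [form_add, hv, hw, h2]; simp
    have e := hab _ hvw hvw0
    rw [map_add, hab v hv hv0, hab w hw hw0, map_add] at e
    set α := a (v + w) hvw hvw0
    set β := b (v + w) hvw hvw0
    have := indep_K hs hv0 hwn (a := a v hv hv0 - α) (b := b v hv hv0 - β)
      (c := a w hw hw0 - α) (e := b w hw hw0 - β) (by rw [← sub_eq_zero.mpr e]; module)
    simp only [sub_eq_zero] at this
    exact ⟨this.1.trans this.2.2.1.symm, this.2.1.trans this.2.2.2.symm⟩
  obtain ⟨v₀, hv₀n, hv₀, -⟩ := perp hs hn (![] : Fin 0 → V) (![] : Fin 0 → V) (by omega)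
  have hv₀0 : v₀ ≠ 0 := fun h => hv₀n (h ▸ zero_mem _)
  set α := a v₀ hv₀ hv₀0
  set β := b v₀ hv₀ hv₀0
  have all : ∀ v, Q v = 0 → T v = α • v + β • j v := by
    intro v hv
    by_cases hv0 : v = 0
    · simp [hv0]
    obtain ⟨w, hwS, hw, hwT⟩ := perp hs hn ![v, v₀] ![v, j v, v₀, j v₀] (by omega)
    have hw0 : w ≠ 0 := fun h => hwS (h ▸ zero_mem _)
    have e1 := pair v w hv hv0 hw hw0 (by rw [polar_comm]; exact hwT 0) fun h => hwS
      (Submodule.span_mono (by rintro _ ⟨i, rfl⟩; fin_cases i; exacts [⟨0, rfl⟩, ⟨1, rfl⟩]) h)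
    have e2 := pair v₀ w hv₀ hv₀0 hw hw0 (by rw [polar_comm]; exact hwT 1) fun h => hwS
      (Submodule.span_mono (by rintro _ ⟨i, rfl⟩; fin_cases i; exacts [⟨2, rfl⟩, ⟨3, rfl⟩]) h)
    rw [hab v hv hv0, e1.1, e1.2, ← e2.1, ← e2.2]
  have hTall : ∀ x, T x = α • x + β • j x := by
    intro x
    obtain ⟨e, y, s, he, hy, rfl⟩ := exists_sing_split hs hn x
    rw [map_sub, map_smul, all e he, all y hy, map_sub, map_smul]
    module
  have hTT : T (T v₀) = t • T v₀ - d • v₀ := by simp [hT, hs.sq]
  rw [hTall v₀, hTall, map_add, map_smul, map_smul, hs.sq, ← sub_eq_zero] at hTT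
  obtain ⟨r, hr, hrn, -⟩ := perp hs hn (![] : Fin 0 → V) ![v₀, j v₀] (by omega)
  obtain ⟨h1, h2, -, -⟩ := indep_K hs hv₀0 hr
    (a := α * α - β * β * d - t * α + d) (b := 2 * α * β + β * β * t - t * β) (c := 0) (e := 0)
    (by rw [← hTT]; module)
  have hβ : β ≠ 0 := fun h => hs.nroot α (by rw [h] at h1; linear_combination h1)
  have h3 : 2 * α + β * t - t = 0 := by
    have : β * (2 * α + β * t - t) = 0 := by linear_combination h2
    exact (mul_eq_zero.mp this).resolve_left hβ
  have key : ∀ x, j (g.1 x) = g.1 (α • x + β • j x) := fun x => by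
    rw [← hTall, hT, LinearEquiv.apply_symm_apply]
  have hβsq : β = 1 ∨ β = -1 := by
    have h4 : (β * β - 1) * (t * t - 4 * d) = 0 := by linear_combination 4 * h1 - (2 * α - t - β * t) * h3
    rcases mul_eq_zero.mp h4 with h5 | h5
    · exact mul_self_eq_one_iff.mp (sub_eq_zero.mp h5)
    exfalso
    by_cases h2F : (2 : F) = 0
    · have h4F : (4 : F) = 0 := by linear_combination (2 : F) * h2F
      have ht : t = 0 := by
        have : t * t = 0 := by linear_combination h5 + d * h4F
        exact mul_self_eq_zero.mp this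
      obtain ⟨r, hr⟩ := FiniteField.isSquare_of_char_two (F := F) (by
        have := CharP.ringChar_of_prime_eq_zero (R := F) Nat.prime_two (by exact_mod_cast h2F)
        exact this) d
      exact hs.nroot r (by rw [ht, hr]; linear_combination (r * r) * h2F)
    · exact hs.nroot (t / 2) (by field_simp; linear_combination -h5)
  refine hg ?_
  rcases hβsq with hb | hb
  · have hα : α = 0 := by
      rw [hb] at h3 h1
      by_contra hα
      have h2F : (2 : F) = 0 := by
        have : 2 * α = 0 := by linear_combination h3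
        exact (mul_eq_zero.mp this).resolve_right hα
      have : α = t := by
        have h6 : α * (α - t) = 0 := by linear_combination h1
        exact sub_eq_zero.mp ((mul_eq_zero.mp h6).resolve_left hα)
      refine hg (Or.inr fun x => ?_)
      rw [key, hb, this, map_add, map_smul, one_smul]
      have hneg : ∀ z : V, -z = z := fun z => by
        rw [← neg_one_smul F z, show (-1 : F) = 1 by linear_combination -h2F, one_smul]
      rw [sub_eq_add_neg, hneg]
      rw [← add_assoc, ← two_smul F (t • g.1 x), h2F, zero_smul, zero_add]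
    exact Or.inl fun x => by rw [key, hα, hb, zero_smul, zero_add, one_smul]
  · have hα : α = t := by
      rw [hb] at h3 h1
      by_contra hα
      have h2F : (2 : F) = 0 := by
        have : 2 * (α - t) = 0 := by linear_combination h3
        exact (mul_eq_zero.mp this).resolve_right (sub_ne_zero.mpr hα)
      have h6 : α * (α - t) = 0 := by linear_combination h1
      have h7 : α = 0 := (mul_eq_zero.mp h6).resolve_right (sub_ne_zero.mpr hα)
      refine hg (Or.inl fun x => ?_)
      rw [key, hb, h7, zero_smul, zero_add, neg_one_smul, map_neg]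
      rw [← neg_one_smul F (g.1 (j x)), show (-1 : F) = 1 by linear_combination -h2F, one_smul]
    exact Or.inr fun x => by
      rw [key, hα, hb, map_add, map_smul, neg_one_smul, map_neg]; abel

variable {M : Subgroup (orth Q)}
variable (hM : ∀ v (l : F), Q v = 0 → eich Q v (l • j v) ∈ M)
include hM

/-- Singular vectors with orthogonal partner lines can be moved into each other. -/
theorem exists_move {p q : V} (hp : Q p = 0) (hp0 : p ≠ 0) (hq : Q q = 0) (hq0 : q ≠ 0) :
    ∃ k ∈ M, k.1 p = q ∧ ∀ x, k.1 (j x) = j (k.1 x) := by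
  have step : ∀ a e : V, Q a = 0 → Q e = 0 → polar Q a e = 0 → polar Q a (j e) ≠ 0 →
      ∃ k ∈ M, k.1 a = e ∧ ∀ x, k.1 (j x) = j (k.1 x) := by
    intro a e ha he hae hne
    have hc : Q (e - a) = 0 := by
      rw [sub_eq_add_neg, form_add, ← neg_one_smul F a, form_smul, ha, he, polar_smul_right,
        polar_comm, hae]
      simp
    have hcj : polar Q (e - a) (j (e - a)) = 0 := hs.sing _ hc
    set l := -(polar Q a (j e))⁻¹
    refine ⟨_, hM (e - a) l hc, ?_, eich_comm hs hc l⟩
    rw [eich_apply hc (by rw [polar_smul_right, hcj, smul_zero]), polar_smul_left,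
      form_smul, hs.scale, hc]
    have h1 : polar Q (e - a) a = 0 := by
      rw [polar_sub_left, polar_comm Q e a, hae, polar_self_eq, ha, mul_zero, sub_zero]
    have h3 : polar Q (j (e - a)) a = polar Q a (j e) := by
      rw [map_sub, polar_sub_left, polar_comm Q (j a) a, hs.sing a ha, sub_zero, polar_comm]
    rw [h1, h3, smul_eq_mul, zero_smul, add_zero, mul_zero, zero_smul, sub_zero]
    simp only [l, neg_mul, inv_mul_cancel₀ hne, neg_smul, one_smul, sub_neg_eq_add]
    abel
  have two : ∀ p q : V, Q p = 0 → p ≠ 0 → Q q = 0 → q ∉ Submodule.span F (Set.range ![p, j p]) →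
      ∃ k ∈ M, k.1 p = q ∧ ∀ x, k.1 (j x) = j (k.1 x) := by
    intro p q hp hp0 hq hqn
    have hy : j p ∉ Submodule.span F (Set.range ![p, q, j q - j p]) := fun hm => by
      obtain ⟨c, hc⟩ := (Submodule.mem_span_range_iff_exists_fun F).mp hm
      simp only [Fin.sum_univ_three, Matrix.cons_val_zero, Matrix.cons_val_one, Matrix.cons_val_two,
        Matrix.tail_cons, Matrix.head_cons] at hc
      obtain ⟨-, h2, -, h4⟩ := indep_K hs hp0 hqn (a := c 0) (b := -(c 2) - 1) (c := c 1)
        (e := c 2) (by rw [← sub_eq_zero.mpr hc]; module)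
      rw [h4] at h2
      simp at h2
    obtain ⟨w, hw, hwp, hwy⟩ := value hs hn _ hy (by omega)
    have hwq : polar Q w (j q) = 1 := by
      have h : polar Q w (j q - j p) = 0 := hwp 2
      rw [polar_sub_right, hwy, sub_eq_zero] at h
      exact h
    obtain ⟨k, hk, hkp, hkj⟩ := step p w hp hw (by rw [polar_comm]; exact hwp 0) (by
      rw [adj' hs, polar_comm Q p w, show polar Q w p = 0 from hwp 0, polar_comm Q (j p) w, hwy]
      simp)
    obtain ⟨l, hl, hlw, hlj⟩ := step w q hw hq (hwp 1) (by rw [hwq]; exact one_ne_zero)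
    exact ⟨l * k, mul_mem hl hk, by rw [coe_mul_apply, hkp, hlw],
      fun x => by rw [coe_mul_apply, coe_mul_apply, hkj, hlj]⟩
  obtain ⟨r, hr, hrQ, -⟩ := perp hs hn (![] : Fin 0 → V) ![p, j p, q, j q] (by omega)
  have hr0 : r ≠ 0 := fun h => hr (h ▸ zero_mem _)
  obtain ⟨k, hk, hkp, hkj⟩ := two p r hp hp0 hrQ fun h => hr
    (Submodule.span_mono (by rintro _ ⟨i, rfl⟩; fin_cases i; exacts [⟨0, rfl⟩, ⟨1, rfl⟩]) h)
  obtain ⟨l, hl, hlq, hlj⟩ := two q r hq hq0 hrQ fun h => hr
    (Submodule.span_mono (by rintro _ ⟨i, rfl⟩; fin_cases i; exacts [⟨2, rfl⟩, ⟨3, rfl⟩]) h)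
  refine ⟨l⁻¹ * k, mul_mem (inv_mem hl) hk,
    by rw [coe_mul_apply, hkp, ← hlq, coe_inv_apply_apply], fun x => l.1.injective ?_⟩
  rw [coe_mul_apply, coe_mul_apply, coe_apply_inv_apply, hlj, coe_apply_inv_apply, hkj]

/-- A root element off the field lines. -/
theorem exists_root {g : orth Q} (hgM : g ∈ M)
    (hg : ¬ ((∀ x, g.1 (j x) = j (g.1 x)) ∨ ∀ x, g.1 (j x) = t • g.1 x - j (g.1 x))) :
    ∃ a δ : V, Q a = 0 ∧ a ≠ 0 ∧ Q δ = 0 ∧ polar Q δ a = 0 ∧ polar Q δ (j a) = 0 ∧
      δ ∉ Submodule.span F (Set.range ![a, j a]) ∧ eich Q a δ ∈ M := by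
  obtain ⟨v, hv, hv0, hnot⟩ := exists_bad hs hn hg
  set u := g.1 v with hu
  set u' := g.1 (j v) with hu'
  have huQ : Q u = 0 := by rw [hu, map_form, hv]
  have hu'Q : Q u' = 0 := by rw [hu', map_form, hs.scale, hv, mul_zero]
  have huu' : polar Q u u' = 0 := by rw [hu, hu', map_polar, hs.sing v hv]
  have hk : eich Q u u' ∈ M := by
    rw [hu, hu', ← conj_eich]
    exact mul_mem (mul_mem hgM (by simpa using hM v 1 hv)) (inv_mem hgM)
  obtain ⟨w, hw, hwp, hwy⟩ := value hs hn ![u, u'] hnot (by omega)
  obtain ⟨a, haQ, hau, hau', hay, haKL⟩ : ∃ a, Q a = 0 ∧ polar Q a u = 0 ∧ polar Q a u' = 0 ∧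
      polar Q a (j u) = 1 ∧ a ∉ Submodule.span F (Set.range ![u, u', j u, j u']) := by
    by_cases hwn : w ∈ Submodule.span F (Set.range ![u, u', j u, j u'])
    · obtain ⟨r, hrn, hr, hrp⟩ : ∃ r, r ∉ Submodule.span F (Set.range ![u, u', j u, j u']) ∧
          Q r = 0 ∧ ∀ i, polar Q r (![u, u', j u, w] i) = 0 := by
        set L := Submodule.span F (Set.range ![u, u', j u, j u']) with hL
        set T := Submodule.span F (Set.range ![u, u', j u, w]) with hT
        have hmem : j u ∈ L := Submodule.subset_span ⟨2, rfl⟩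
        let φ : L →ₗ[F] F × F :=
          ((polarBilin Q w).prod (polarBilin Q (j u))).comp L.subtype
        have hφ : LinearMap.range φ = ⊤ := by
          refine eq_top_iff.mpr fun ab _ => ?_
          refine ⟨⟨ab.1 • j u + ab.2 • w, add_mem (L.smul_mem _ hmem) (L.smul_mem _ hwn)⟩, ?_⟩
          refine Prod.ext ?_ ?_
          · simp [φ, hw, hwy]
          · simp [φ, hs.scale, huQ, polar_comm Q (j u) w, hwy]
        have hker : Module.finrank F ↥(L ⊓ perpOf Q T) ≤ 2 := by
          have e1 := LinearMap.finrank_range_add_finrank_ker φ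
          rw [hφ, finrank_top, Module.finrank_prod, Module.finrank_self] at e1
          have e2 : Module.finrank F L ≤ 4 := finrank_span_le hs _
          have e3 : (L ⊓ perpOf Q T) ≤ Submodule.map L.subtype (LinearMap.ker φ) := by
            intro x hx
            have hxT := mem_perpOf.mp hx.2
            refine ⟨⟨x, hx.1⟩, Prod.ext ?_ ?_, rfl⟩
            · simpa [φ, polar_comm Q w x] using hxT w (Submodule.subset_span ⟨3, rfl⟩)
            · simpa [φ, polar_comm Q (j u) x] using hxT (j u) (Submodule.subset_span ⟨2, rfl⟩)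
          have e4 := Submodule.finrank_mono e3
          have e5 := Submodule.finrank_map_le L.subtype (LinearMap.ker φ)
          omega
        obtain ⟨r, hrS, hr, hrT⟩ := UnitaryInSp.exists_singular_perp hs.nd (T := T)
          (S := L ⊓ perpOf Q T) (by
            have : Module.finrank F T ≤ 4 := finrank_span_le hs _
            omega)
        exact ⟨r, fun h => hrS ⟨h, mem_perpOf.mpr hrT⟩, hr,
          fun i => hrT _ (Submodule.subset_span ⟨i, rfl⟩)⟩
      refine ⟨w + r, ?_, ?_, ?_, ?_, fun h => hrn ?_⟩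
      · rw [form_add, hw, hr, polar_comm, show polar Q r w = 0 from hrp 3]; simp
      · rw [polar_add_left, show polar Q w u = 0 from hwp 0, show polar Q r u = 0 from hrp 0,
          add_zero]
      · rw [polar_add_left, show polar Q w u' = 0 from hwp 1, show polar Q r u' = 0 from hrp 1,
          add_zero]
      · rw [polar_add_left, hwy, show polar Q r (j u) = 0 from hrp 2, add_zero]
      · simpa using sub_mem h hwn
    · exact ⟨w, hw, hwp 0, hwp 1, hwy, hwn⟩
  have ha0 : a ≠ 0 := fun h => haKL (h ▸ zero_mem _)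
  have huja : polar Q u (j a) = -1 := by
    rw [adj' hs, polar_comm Q u a, hau, polar_comm Q (j u) a, hay]; simp
  set δ := polar Q u (j a) • u' - polar Q u' (j a) • u with hδ
  have hfix : (eich Q u u').1 a = a := by
    rw [eich_apply huQ huu', polar_comm Q u a, hau, polar_comm Q u' a, hau']; simp
  have himg : (eich Q u u').1 (j a) = j a + δ := by
    rw [eich_apply huQ huu', hu'Q, hδ]; simp; abel
  have hδa : polar Q δ a = 0 := by
    rw [hδ, polar_sub_left, polar_smul_left, polar_smul_left, polar_comm Q u' a, hau',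
      polar_comm Q u a, hau]
    simp
  have hδQ : Q δ = 0 := by
    rw [hδ, sub_eq_add_neg, ← neg_smul, form_add, form_smul, form_smul, huQ, hu'Q,
      polar_smul_left, polar_smul_right, polar_comm Q u' u, huu']
    simp
  have hδja : polar Q δ (j a) = 0 := by
    have h := map_form (Q := Q) (eich Q u u') (j a)
    rw [himg, form_add, hδQ, hs.scale, haQ, polar_comm] at h
    simpa using h
  have hδn : δ ∉ Submodule.span F (Set.range ![a, j a]) := fun hm => by
    have hδ0 : δ ≠ 0 := fun h => by
      have h' := congrArg g.1.symm h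
      simp only [hδ, hu, hu', map_sub, map_smul, LinearEquiv.symm_apply_apply, map_zero] at h'
      rw [← hu, ← hu', huja] at h'
      obtain ⟨r', hr', -, -⟩ := perp hs hn (![] : Fin 0 → V) ![v, j v] (by omega)
      have := (indep_K hs hv0 hr' (a := -(polar Q u' (j a))) (b := -1) (c := 0) (e := 0)
        (by rw [← h']; module)).2.1
      exact one_ne_zero (neg_eq_zero.mp this)
    obtain ⟨c, hc⟩ := (Submodule.mem_span_range_iff_exists_fun F).mp hm
    simp only [Fin.sum_univ_two, Matrix.cons_val_zero, Matrix.cons_val_one,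
      Matrix.cons_val_fin_one] at hc
    have hne : c 0 * c 0 + t * c 0 * c 1 + d * (c 1 * c 1) ≠ 0 := fun h3 => by
      by_cases hy : c 1 = 0
      · rw [hy] at h3
        simp only [mul_zero, add_zero, mul_self_eq_zero] at h3
        exact hδ0 (by rw [← hc, h3, hy]; simp)
      · exact hs.nroot (-c 0 / c 1) (by field_simp; linear_combination h3)
    refine haKL ((Submodule.smul_mem_iff _ hne).mp ?_)
    rw [show (c 0 * c 0 + t * c 0 * c 1 + d * (c 1 * c 1)) • a =
      (c 0 + c 1 * t) • δ - c 1 • j δ by rw [← hc, map_add, map_smul, map_smul, hs.sq]; module, hδ,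
      map_sub, map_smul, map_smul]
    have m : ∀ i, ![u, u', j u, j u'] i ∈ Submodule.span F (Set.range ![u, u', j u, j u']) :=
      fun i => Submodule.subset_span ⟨i, rfl⟩
    exact sub_mem (Submodule.smul_mem _ _ (sub_mem (Submodule.smul_mem _ _ (m 1))
      (Submodule.smul_mem _ _ (m 0)))) (Submodule.smul_mem _ _ (sub_mem
      (Submodule.smul_mem _ _ (m 3)) (Submodule.smul_mem _ _ (m 2))))
  refine ⟨a, δ, haQ, ha0, hδQ, hδa, hδja, hδn, ?_⟩
  have hjaa : polar Q a (j a) = 0 := hs.sing a haQ
  have haM : eich Q a (j a) ∈ M := by simpa using hM a 1 haQ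
  have haM' : eich Q a (-(j a)) ∈ M := by simpa using hM a (-1) haQ
  have h := mul_mem (mul_mem (mul_mem hk haM) (inv_mem hk)) haM'
  rw [conj_eich, hfix, himg, eich_mul haQ
    (by rw [polar_add_right, hjaa, polar_comm, hδa, add_zero])
    (by rw [polar_neg_right, hjaa, neg_zero])] at h
  simpa using h

/-- The root elements at `a` reach the whole orthogonal of its field line. -/
theorem kperp_mem {a δ : V} (ha : Q a = 0) (ha0 : a ≠ 0) (hδQ : Q δ = 0)
    (hδa : polar Q δ a = 0) (hδja : polar Q δ (j a) = 0)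
    (hδn : δ ∉ Submodule.span F (Set.range ![a, j a])) (hδM : eich Q a δ ∈ M) :
    ∀ z, polar Q z a = 0 → polar Q z (j a) = 0 → eich Q a z ∈ M := by
  let A : Submodule F V := Submodule.span F {z | polar Q a z = 0 ∧ ∀ r : F, eich Q a (r • z) ∈ M}
  have hA : ∀ z ∈ A, polar Q a z = 0 ∧ ∀ r : F, eich Q a (r • z) ∈ M := by
    intro z hz
    refine Submodule.span_induction ?_ ?_ ?_ ?_ hz
    · exact fun x hx => hx
    · exact ⟨polar_zero_right Q a, fun r => by rw [smul_zero, eich_zero]; exact one_mem M⟩
    · rintro x y - - ⟨hx, hxM⟩ ⟨hy, hyM⟩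
      refine ⟨by rw [polar_add_right, hx, hy, add_zero], fun r => ?_⟩
      rw [smul_add, ← eich_mul ha (by rw [polar_smul_right, hx, smul_zero])
        (by rw [polar_smul_right, hy, smul_zero])]
      exact mul_mem (hxM r) (hyM r)
    · rintro c x - ⟨hx, hxM⟩
      exact ⟨by rw [polar_smul_right, hx, smul_zero], fun r => by rw [smul_smul]; exact hxM _⟩
  have one : ∀ δ : V, Q δ = 0 → polar Q δ a = 0 → polar Q δ (j a) = 0 →
      δ ∉ Submodule.span F (Set.range ![a, j a]) → eich Q a δ ∈ M →
      ∀ z, polar Q z a = 0 → polar Q z (j a) = 0 → polar Q z δ = 0 → z ∈ A := by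
    intro δ hδQ hδa hδja hδn hδM
    have hind : ∀ c0 c1 c2 c3 : F, c0 • a + c1 • j a + (c2 • δ + c3 • j δ) = 0 →
        c2 = 0 ∧ c3 = 0 := fun c0 c1 c2 c3 h => (indep_K hs ha0 hδn h).2.2
    have hjδn : j δ ∉ Submodule.span F (Set.range ![a, j a, δ]) := fun hm => by
      obtain ⟨c, hc⟩ := (Submodule.mem_span_range_iff_exists_fun F).mp hm
      simp only [Fin.sum_univ_three, Matrix.cons_val_zero, Matrix.cons_val_one,
        Matrix.cons_val_two, Matrix.tail_cons, Matrix.head_cons] at hc
      have := (hind (c 0) (c 1) (c 2) (-1) (by rw [← sub_eq_zero.mpr hc]; module)).2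
      exact one_ne_zero (neg_eq_zero.mp this)
    have hmem : ∀ w, Q w = 0 → polar Q w a = 0 → polar Q w (j a) = 0 → polar Q w δ = 0 →
        polar Q w (j δ) = 1 → w ∈ A := by
      intro w hw hwa hwja hwδ hwjδ
      refine Submodule.subset_span ⟨by rw [polar_comm]; exact hwa, fun r => ?_⟩
      have hwjw : polar Q w (r • j w) = 0 := by rw [polar_smul_right, hs.sing w hw, smul_zero]
      have hk := hM w r hw
      have h1 : (eich Q w (r • j w)).1 a = a := by
        rw [eich_apply hw hwjw, hwa, polar_smul_left, hs.adj, hwa, hwja]; simp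
      have h2 : (eich Q w (r • j w)).1 δ = δ + r • w := by
        rw [eich_apply hw hwjw, hwδ, polar_smul_left, hs.adj, hwδ, hwjδ, form_smul, hs.scale, hw]
        simp
      have h := mul_mem (mul_mem (mul_mem hk hδM) (inv_mem hk)) (inv_mem hδM)
      rwa [conj_eich, h1, h2, eich_inv ha (by rw [polar_comm]; exact hδa),
        eich_mul ha (by rw [polar_add_right, polar_comm Q a δ, hδa, polar_smul_right,
          polar_comm Q a w, hwa, smul_zero, add_zero])
          (by rw [polar_neg_right, polar_comm, hδa, neg_zero]), add_neg_cancel_comm] at h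
    intro z hza hzja hzδ
    by_contra hzA
    obtain ⟨x, hxz, hxA⟩ := exists_dual_vec hs.nd hzA
    have hxn : x ∉ Submodule.span F (Set.range ![a, j a, δ]) := fun hm => by
      obtain ⟨c, hc⟩ := (Submodule.mem_span_range_iff_exists_fun F).mp hm
      simp only [Fin.sum_univ_three, Matrix.cons_val_zero, Matrix.cons_val_one,
        Matrix.cons_val_two, Matrix.tail_cons, Matrix.head_cons] at hc
      rw [← hc, polar_add_left, polar_add_left, polar_smul_left, polar_smul_left, polar_smul_left,
        polar_comm Q a z, hza, polar_comm Q (j a) z, hzja, polar_comm Q δ z, hzδ] at hxz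
      simp at hxz
    obtain ⟨w, hw, hwp, hwy, hne⟩ : ∃ w, Q w = 0 ∧ (∀ i, polar Q w (![a, j a, δ] i) = 0) ∧
        polar Q w (j δ) = 1 ∧ polar Q w x ≠ 0 := by
      obtain ⟨w, hw, hwp, hwy⟩ := value hs hn _ hjδn (by omega)
      by_cases hwx : polar Q w x = 0
      swap
      · exact ⟨w, hw, hwp, hwy, hwx⟩
      by_contra hall
      simp only [not_exists, not_and, not_not] at hall
      set T := Submodule.span F (Set.range ![a, j a, δ, j δ]) with hT
      have haja : polar Q a (j a) = 0 := hs.sing a ha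
      have hajδ : polar Q a (j δ) = 0 := by
        rw [adj' hs, polar_comm Q a δ, hδa, polar_comm Q (j a) δ, hδja]; simp
      have hjajδ : polar Q (j a) (j δ) = 0 := by rw [polar_jj hs, polar_comm, hδa, mul_zero]
      have hδjδ : polar Q δ (j δ) = 0 := hs.sing δ hδQ
      have hjδQ : Q (j δ) = 0 := by rw [hs.scale, hδQ, mul_zero]
      -- shifting `w` inside the orthogonal of the field plane
      have shift : ∀ v ∈ perpOf Q T,
          polar Q v x = (Q v + polar Q w v) * polar Q (j δ) x := by
        intro v hv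
        have hvT := mem_perpOf.mp hv
        have v0 : polar Q v a = 0 := hvT a (Submodule.subset_span ⟨0, rfl⟩)
        have v1 : polar Q v (j a) = 0 := hvT _ (Submodule.subset_span ⟨1, rfl⟩)
        have v2 : polar Q v δ = 0 := hvT δ (Submodule.subset_span ⟨2, rfl⟩)
        have v3 : polar Q v (j δ) = 0 := hvT _ (Submodule.subset_span ⟨3, rfl⟩)
        set c := Q v + polar Q w v
        have h := hall (w + v + (-c) • j δ) (by
            rw [form_add, form_add, form_smul, hw, hjδQ, polar_add_left, polar_smul_right,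
              polar_smul_right, hwy, v3]
            simp [c]) (fun i => by
            fin_cases i
            · simp [polar_add_left, polar_smul_left, show polar Q w a = 0 from hwp 0, v0,
                polar_comm Q (j δ) a, hajδ]
            · simp [polar_add_left, polar_smul_left, show polar Q w (j a) = 0 from hwp 1, v1,
                polar_comm Q (j δ) (j a), hjajδ]
            · simp [polar_add_left, polar_smul_left, show polar Q w δ = 0 from hwp 2, v2,
                polar_comm Q (j δ) δ, hδjδ])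
            (by simp [polar_add_left, polar_smul_left, hwy, v3, hjδQ])
        rw [polar_add_left, polar_add_left, polar_smul_left, hwx] at h
        simp only [smul_eq_mul] at h
        linear_combination h
      by_cases hc : polar Q (j δ) x = 0
      · have hxT : x ∈ T := mem_of_perpOf hs hs.nd fun v hv => by rw [shift v hv, hc, mul_zero]
        obtain ⟨k, hk⟩ := (Submodule.mem_span_range_iff_exists_fun F).mp hxT
        simp only [Fin.sum_univ_four, Matrix.cons_val_zero, Matrix.cons_val_one,
          Matrix.cons_val_two, Matrix.cons_val_three, Matrix.tail_cons, Matrix.head_cons] at hk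
        have e := congrArg (polar Q w) hk
        simp [polar_add_right, polar_smul_right, hwy, hwx, show polar Q w a = 0 from hwp 0,
          show polar Q w (j a) = 0 from hwp 1, show polar Q w δ = 0 from hwp 2] at e
        refine hxn ((Submodule.mem_span_range_iff_exists_fun F).mpr ⟨![k 0, k 1, k 2], ?_⟩)
        rw [← hk, e]
        simp [Fin.sum_univ_three]
      · have hperp : ∀ v ∈ perpOf Q T, ∀ v' ∈ perpOf Q T, polar Q v v' = 0 := by
          intro v hv v' hv'
          have e := shift (v + v') (add_mem hv hv')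
          rw [polar_add_left, shift v hv, shift v' hv', form_add, polar_add_right] at e
          exact (mul_eq_zero.mp (show polar Q v v' * polar Q (j δ) x = 0 by
            linear_combination -e)).resolve_right hc
        have hle : perpOf Q T ≤ perpOf Q (perpOf Q T) := fun v hv => mem_perpOf.mpr (hperp v hv)
        have h1 := Submodule.finrank_mono hle
        have h2 := finrank_perpOf hs.nd T
        have h3 := finrank_perpOf hs.nd (perpOf Q T)
        have h4 : Module.finrank F T ≤ 4 := finrank_span_le hs _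
        omega
    exact hne (by rw [polar_comm]; exact hxA w (hmem w hw (hwp 0) (hwp 1) (hwp 2) hwy))
  intro z hza hzja
  suffices z ∈ A by simpa using (hA z this).2 1
  -- a second centre
  have hind : ∀ c0 c1 c2 c3 : F, c0 • a + c1 • j a + (c2 • δ + c3 • j δ) = 0 →
      c2 = 0 ∧ c3 = 0 := fun c0 c1 c2 c3 h => (indep_K hs ha0 hδn h).2.2
  have hjδn : j δ ∉ Submodule.span F (Set.range ![a, j a, δ]) := fun hm => by
    obtain ⟨c, hc⟩ := (Submodule.mem_span_range_iff_exists_fun F).mp hm
    simp only [Fin.sum_univ_three, Matrix.cons_val_zero, Matrix.cons_val_one,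
      Matrix.cons_val_two, Matrix.tail_cons, Matrix.head_cons] at hc
    have := (hind (c 0) (c 1) (c 2) (-1) (by rw [← sub_eq_zero.mpr hc]; module)).2
    exact one_ne_zero (neg_eq_zero.mp this)
  obtain ⟨δ₂, hδ₂, hδ₂p, hδ₂y⟩ := value hs hn _ hjδn (by omega)
  have hδ₂A : δ₂ ∈ A := one δ hδQ hδa hδja hδn hδM δ₂ (hδ₂p 0) (hδ₂p 1) (hδ₂p 2)
  have hajδ : polar Q a (j δ) = 0 := by
    rw [adj' hs, polar_comm Q a δ, hδa, polar_comm Q (j a) δ, hδja]; simp
  have hjajδ : polar Q (j a) (j δ) = 0 := by
    rw [polar_jj hs, polar_comm, hδa, mul_zero]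
  have hδ₂n : δ₂ ∉ Submodule.span F (Set.range ![a, j a]) := fun hm => by
    obtain ⟨c, hc⟩ := (Submodule.mem_span_range_iff_exists_fun F).mp hm
    rw [← hc, Fin.sum_univ_two] at hδ₂y
    simp [polar_add_left, polar_smul_left, hajδ, hjajδ] at hδ₂y
  have hδ₂M : eich Q a δ₂ ∈ M := by simpa using (hA δ₂ hδ₂A).2 1
  have hδn' : δ ∉ Submodule.span F (Set.range ![a, j a, δ₂]) := fun hm => by
    obtain ⟨c, hc⟩ := (Submodule.mem_span_range_iff_exists_fun F).mp hm
    simp only [Fin.sum_univ_three, Matrix.cons_val_zero, Matrix.cons_val_one,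
      Matrix.cons_val_two, Matrix.tail_cons, Matrix.head_cons] at hc
    have hδjδ : polar Q δ (j δ) = 0 := hs.sing δ hδQ
    rw [← hc] at hδjδ
    have h : polar Q (c 0 • a + c 1 • j a + c 2 • δ₂) (j δ) = 0 := by rw [hc]; exact hs.sing δ hδQ
    simp [polar_add_left, polar_smul_left, hajδ, hjajδ, hδ₂y] at h
    refine hδn ((Submodule.mem_span_range_iff_exists_fun F).mpr ⟨![c 0, c 1], ?_⟩)
    rw [← hc, h]; simp [Fin.sum_univ_two]
  obtain ⟨x, -, hxp, hxy⟩ := value hs hn ![a, j a, δ₂] hδn' (by omega)
  have hx : x ∈ A := one δ₂ hδ₂ (hδ₂p 0) (hδ₂p 1) hδ₂n hδ₂M x (hxp 0) (hxp 1) (hxp 2)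
  have h := one δ hδQ hδa hδja hδn hδM (z - polar Q z δ • x)
    (by rw [polar_sub_left, polar_smul_left, hza, show polar Q x a = 0 from hxp 0]; simp)
    (by rw [polar_sub_left, polar_smul_left, hzja, show polar Q x (j a) = 0 from hxp 1]; simp)
    (by rw [polar_sub_left, polar_smul_left, hxy]; simp)
  have h2 := add_mem h (A.smul_mem (polar Q z δ) hx)
  rwa [sub_add_cancel] at h2

theorem eichGroup_le {g : orth Q} (hgM : g ∈ M)
    (hg : ¬ ((∀ x, g.1 (j x) = j (g.1 x)) ∨ ∀ x, g.1 (j x) = t • g.1 x - j (g.1 x))) :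
    eichGroup Q ≤ M := by
  obtain ⟨a, δ, ha, ha0, hδQ, hδa, hδja, hδn, hδM⟩ := exists_root hs hn hM hgM hg
  have hK := kperp_mem hs hn hM ha ha0 hδQ hδa hδja hδn hδM
  -- good lines, at every point
  have good : ∀ p, Q p = 0 → p ≠ 0 →
      ∀ z, polar Q z p = 0 → polar Q z (j p) = 0 → eich Q p z ∈ M := by
    intro p hp hp0 z hzp hzjp
    obtain ⟨k, hk, hkp, hkj⟩ := exists_move hs hn hM ha ha0 hp hp0
    have h1 : polar Q (k.1.symm z) a = 0 := by
      rw [← map_polar k, k.1.apply_symm_apply, hkp, hzp]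
    have h2 : polar Q (k.1.symm z) (j a) = 0 := by
      rw [← map_polar k, k.1.apply_symm_apply, hkj, hkp, hzjp]
    have h := mul_mem (mul_mem hk (hK _ h1 h2)) (inv_mem hk)
    rwa [conj_eich, hkp, k.1.apply_symm_apply] at h
  have full : ∀ p, Q p = 0 → p ≠ 0 → Full M p := by
    intro p hp hp0
    have hjp : j p ∉ Submodule.span F (Set.range ![p]) := fun hm => by
      obtain ⟨c, hc⟩ := (Submodule.mem_span_range_iff_exists_fun F).mp hm
      rw [Fin.sum_univ_one, Matrix.cons_val_zero] at hc
      obtain ⟨w, hw, -, -⟩ := perp hs hn (![] : Fin 0 → V) ![p, j p] (by omega)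
      have := (indep_K hs hp0 hw (a := c 0) (b := -1) (c := 0) (e := 0)
        (by rw [← sub_eq_zero.mpr hc]; module)).2.1
      exact one_ne_zero (neg_eq_zero.mp this)
    obtain ⟨e, he, hep, hey⟩ := value hs hn _ hjp (by omega)
    obtain ⟨c, hcn, hc, hcp⟩ := perp hs hn ![p, e, j e] ![p, j p, e] (by omega)
    have hc0 : c ≠ 0 := fun h => hcn (h ▸ zero_mem _)
    have hce : polar Q c e = 0 := hcp 1
    have hcpe : eich Q c e ∈ M := good c hc hc0 e (by rw [polar_comm]; exact hce) (by
      rw [adj' hs, polar_comm Q e c, hce, polar_comm Q (j e) c, show polar Q c (j e) = 0 from hcp 2]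
      simp)
    obtain ⟨q, hqc, hq⟩ := exists_dual_vec hs.nd hcn
    have hqp : polar Q q p = 0 := hq p (Submodule.subset_span ⟨0, rfl⟩)
    have hqjp : polar Q q (j p) = 0 := hq (j p) (Submodule.subset_span ⟨1, rfl⟩)
    have hqe : polar Q q e = 0 := hq e (Submodule.subset_span ⟨2, rfl⟩)
    have hep0 : polar Q e p = 0 := hep 0
    intro z hz
    set r := polar Q z (j p)
    have h1 : (eich Q c e).1 p = p := by
      rw [eich_apply hc hce, show polar Q c p = 0 from hcp 0, hep0]; simp
    have h2 : (eich Q c e).1 (r • q) = r • q + r • e := by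
      rw [eich_apply hc hce, polar_smul_right, polar_smul_right, polar_comm Q c q, hqc,
        polar_comm Q e q, hqe, he]
      simp
    have hpz : polar Q z p = 0 := by rw [polar_comm]; exact hz
    have h3 := good p hp hp0 (r • q) (by rw [polar_smul_left, hqp, smul_zero])
      (by rw [polar_smul_left, hqjp, smul_zero])
    have h4 := mul_mem (mul_mem hcpe h3) (inv_mem hcpe)
    rw [conj_eich, h1, h2] at h4
    have h5 := good p hp hp0 (z - (r • q + r • e))
      (by rw [polar_sub_left, polar_add_left, polar_smul_left, polar_smul_left, hpz, hqp, hep0]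
          simp)
      (by rw [polar_sub_left, polar_add_left, polar_smul_left, polar_smul_left, hqjp, hey]
          simp [r])
    have h6 := mul_mem h5 h4
    rwa [eich_mul hp (by rw [polar_sub_right, hz, polar_add_right, polar_smul_right,
        polar_smul_right, polar_comm Q p q, hqp, polar_comm Q p e, hep0]; simp)
      (by rw [polar_add_right, polar_smul_right, polar_smul_right, polar_comm Q p q, hqp,
        polar_comm Q p e, hep0]; simp), sub_add_cancel] at h6
  obtain ⟨f, hf, haf, -⟩ := exists_partner (S := ⊥) hs.nd (by simpa using ha0) ha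
    fun x hx => by rw [(Submodule.mem_bot F).mp hx, polar_zero_right]
  have hf0 : f ≠ 0 := fun h => by rw [h, polar_zero_right] at haf; exact zero_ne_one haf
  exact eichGroup_le_of_hypPair hs.nd (by omega) ha hf (by rw [haf]; exact one_ne_zero)
    (full a ha ha0) (full f hf hf0)

end Cfsg.Agent.UnitaryInOmega
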