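import Cfsg.Agent.MaxSub.Alt
import Cfsg.Agent.MaxSub.OrthVectorGL

/-!
The normaliser of a quadratic field extension with skew generator is maximal in the symplectic
group, odd characteristic (helper24).
-/

set_option autoImplicit false
set_option linter.unusedSectionVars false

namespace Cfsg.Agent.UnitaryInSp

open Matrix QuadraticMap Cfsg.Agent.MaxSub Cfsg.Agent.UnitaryOrthogonal Cfsg.Agent.OrthStab

/-! ### Singular vectors with prescribed values -/

section Vec

variable {F : Type*} [Field F] [Finite F] {V : Type*} [AddCommGroup V] [Module F V]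
variable [FiniteDimensional F V] {Q : QuadraticForm F V}

theorem exists_singular_perp (hQ : PolarND Q) {T S : Submodule F V}
    (hd : Module.finrank F T + Module.finrank F S + 3 ≤ Module.finrank F V) :
    ∃ v, v ∉ S ∧ Q v = 0 ∧ ∀ x ∈ T, polar Q v x = 0 := by
  obtain ⟨C, hC⟩ := Submodule.exists_isCompl S
  have hdim : 3 ≤ Module.finrank F ↥(perpOf Q T ⊓ C) := by
    have e1 := finrank_perpOf hQ T
    have e2 := Submodule.finrank_sup_add_finrank_inf_eq (perpOf Q T) C
    have e3 := Submodule.finrank_le (perpOf Q T ⊔ C)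
    have e4 := Submodule.finrank_add_eq_of_isCompl hC
    omega
  obtain ⟨v, ⟨hvT, hvC⟩, hv0, hvQ⟩ := exists_singular_mem (Q := Q) _ hdim
  exact ⟨v, fun h => hv0 (Submodule.disjoint_def.mp hC.disjoint v h hvC), hvQ, mem_perpOf.mp hvT⟩

theorem exists_singular_value (hQ : PolarND Q) {S : Submodule F V} {y : V} (hy : y ∉ S)
    (hd : 2 * (Module.finrank F S + 1) + 3 ≤ Module.finrank F V) :
    ∃ w, Q w = 0 ∧ (∀ x ∈ S, polar Q w x = 0) ∧ polar Q w y = 1 := by
  have hT : Module.finrank F ↥(S ⊔ Submodule.span F {y}) = Module.finrank F S + 1 :=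
    finrank_sup_singleton hy
  obtain ⟨r, hrT, hrQ, hr⟩ := exists_singular_perp hQ (T := S ⊔ Submodule.span F {y})
    (S := S ⊔ Submodule.span F {y}) (by omega)
  obtain ⟨d, hd, hdS⟩ := exists_dual_vec hQ hy
  obtain ⟨c, hc, hcT⟩ := exists_dual_vec hQ hrT
  set d' := d + (1 - polar Q d r) • c with hd'
  have hyT : y ∈ S ⊔ Submodule.span F {y} :=
    Submodule.mem_sup_right (Submodule.mem_span_singleton_self y)
  have hdr : polar Q d' r = 1 := by
    rw [hd', polar_add_left, polar_smul_left, hc, smul_eq_mul]; ring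
  refine ⟨d' + (-Q d') • r, ?_, fun x hx => ?_, ?_⟩
  · rw [form_add, form_smul, hrQ, polar_smul_right, hdr, smul_eq_mul]; ring
  · rw [hd', polar_add_left, polar_add_left, polar_smul_left, polar_smul_left, hdS x hx,
      hcT x (Submodule.mem_sup_left hx), hr x (Submodule.mem_sup_left hx)]
    simp
  · rw [hd', polar_add_left, polar_add_left, polar_smul_left, polar_smul_left, hd, hcT y hyT,
      hr y hyT]
    simp

end Vec

variable {ι : Type} [Fintype ι] [DecidableEq ι] {F : Type*} [Field F]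
variable {f : (ι → F) → (ι → F) → F} {J : Matrix ι ι F} {μ : F}

/-- A skew square root of a non-square. -/
structure IsSkewGen (f : (ι → F) → (ι → F) → F) (J : Matrix ι ι F) (μ : F) : Prop where
  symp : Geo.IsSymplecticForm f
  sq : J * J = μ • 1
  nsq : ∀ r : F, r * r ≠ μ
  skew : ∀ u v, f (J *ᵥ u) v = -f u (J *ᵥ v)
  two : (2 : F) ≠ 0

/-- The product `st (Jv) β * st v (-μβ)`, which commutes with `J`. -/
noncomputable def ut (f : (ι → F) → (ι → F) → F) (J : Matrix ι ι F) (μ : F) (v : ι → F) (β : F) :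
    GL ι F :=
  st f (J *ᵥ v) β * st f v (-(μ * β))

/-- `x ↦ x + f(x,p) q + f(x,q) p`. -/
noncomputable def el (f : (ι → F) → (ι → F) → F) (p q : ι → F) : GL ι F :=
  st f (p + q) 1 * st f p (-1) * st f q (-1)

variable (hs : IsSkewGen f J μ)
include hs

theorem mu_ne : μ ≠ 0 := fun h => hs.nsq 0 (by rw [h, mul_zero])

theorem J_J (x : ι → F) : J *ᵥ (J *ᵥ x) = μ • x := by
  rw [mulVec_mulVec, hs.sq, smul_mulVec, one_mulVec]

theorem symm_J (x y : ι → F) : f y (J *ᵥ x) = f x (J *ᵥ y) := by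
  rw [hs.symp.skew y, hs.skew, neg_neg]

theorem f_JJ (x y : ι → F) : f (J *ᵥ x) (J *ᵥ y) = -(μ * f x y) := by
  rw [hs.skew, J_J hs, hs.symp.bilinear.smul_right]

theorem smul_eq_zero_K {x : ι → F} {a b : F} (h : a • x + b • (J *ᵥ x) = 0) (hab : a ≠ 0 ∨ b ≠ 0) :
    x = 0 := by
  have h1 := congrArg (fun z => a • z - b • (J *ᵥ z)) h
  simp only [mulVec_add, mulVec_smul, J_J hs, smul_zero, mulVec_zero, sub_zero] at h1
  have h2 : (a * a - μ * (b * b)) • x = 0 := by rw [← h1]; module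
  refine (smul_eq_zero.mp h2).resolve_left fun h3 => ?_
  by_cases hb : b = 0
  · rw [hb] at h3
    simp only [mul_zero, sub_zero, mul_self_eq_zero] at h3
    exact hab.elim (fun h => h h3) (fun h => h hb)
  · exact hs.nsq (a / b) (by field_simp; linear_combination h3)

theorem indep_K {v w : ι → F} (hv0 : v ≠ 0)
    (hw : w ∉ Submodule.span F (Set.range ![v, J *ᵥ v])) {a b c d : F}
    (h : a • v + b • (J *ᵥ v) + (c • w + d • (J *ᵥ w)) = 0) : a = 0 ∧ b = 0 ∧ c = 0 ∧ d = 0 := by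
  by_cases hcd : c = 0 ∧ d = 0
  · rw [hcd.1, hcd.2, zero_smul, zero_smul, add_zero, add_zero] at h
    by_contra hab
    refine hv0 (smul_eq_zero_K hs h ?_)
    by_cases ha : a = 0
    · exact Or.inr fun hb => hab ⟨ha, hb, hcd⟩
    · exact Or.inl ha
  exfalso
  have h1 := congrArg (fun z => c • z - d • (J *ᵥ z)) h
  simp only [mulVec_add, mulVec_smul, J_J hs, smul_zero, mulVec_zero, sub_zero] at h1
  have h2 : (c * c - μ * (d * d)) • w = (-(c * a - d * b * μ)) • v + (-(c * b - d * a)) • (J *ᵥ v) := by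
    rw [← sub_eq_zero, ← h1]; module
  have hne : c * c - μ * (d * d) ≠ 0 := fun h3 => by
    by_cases hd : d = 0
    · rw [hd] at h3
      simp only [mul_zero, sub_zero, mul_self_eq_zero] at h3
      exact hcd ⟨h3, hd⟩
    · exact hs.nsq (c / d) (by field_simp; linear_combination h3)
  refine hw ((Submodule.smul_mem_iff _ hne).mp ?_)
  rw [h2]
  exact add_mem (Submodule.smul_mem _ _ (Submodule.subset_span ⟨0, rfl⟩))
    (Submodule.smul_mem _ _ (Submodule.subset_span ⟨1, rfl⟩))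

theorem el_mulVec {p q : ι → F} (hpq : f p q = 0) (x : ι → F) :
    (el f p q : Matrix ι ι F) *ᵥ x = x + f x p • q + f x q • p := by
  have hb := hs.symp.bilinear
  have hqp : f q p = 0 := by rw [hs.symp.skew q p, hpq, neg_zero]
  rw [el, Units.val_mul, Units.val_mul, ← mulVec_mulVec, ← mulVec_mulVec, st_mulVec hs.symp,
    st_mulVec hs.symp, st_mulVec hs.symp]
  simp only [hb.add_left, hb.smul_left, hb.add_right, hs.symp.alternating, hpq, hqp]
  module

theorem el_conj {k : GL ι F} (hk : k ∈ isom f) (p q : ι → F) :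
    k * el f p q * k⁻¹ = el f ((k : Matrix ι ι F) *ᵥ p) ((k : Matrix ι ι F) *ᵥ q) := by
  rw [el, el, ← mulVec_add, ← st_conj hs.symp hk, ← st_conj hs.symp hk, ← st_conj hs.symp hk]
  group

theorem el_inv {p q : ι → F} (hpq : f p q = 0) : (el f p q)⁻¹ = el f p (-q) := by
  have hb := hs.symp.bilinear
  have hqp : f q p = 0 := by rw [hs.symp.skew q p, hpq, neg_zero]
  refine inv_eq_of_mul_eq_one_left (gl_ext fun x => ?_)
  rw [Units.val_mul, ← mulVec_mulVec, el_mulVec hs hpq,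
    el_mulVec hs (by rw [form_neg_right hb, hpq, neg_zero]), Units.val_one, one_mulVec]
  simp only [form_neg_right hb, hb.add_left, hb.smul_left, hs.symp.alternating, hpq, hqp]
  module

theorem ut_mulVec {v : ι → F} (hv : f v (J *ᵥ v) = 0) (β : F) (x : ι → F) :
    (ut f J μ v β : Matrix ι ι F) *ᵥ x =
      x + (-(μ * β) * f x v) • v + (β * f x (J *ᵥ v)) • (J *ᵥ v) := by
  rw [ut, Units.val_mul, ← mulVec_mulVec, st_mulVec hs.symp, st_mulVec hs.symp,
    hs.symp.bilinear.add_left, hs.symp.bilinear.smul_left, hv, mul_zero, add_zero]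

theorem ut_comm {v : ι → F} (hv : f v (J *ᵥ v) = 0) (β : F) (x : ι → F) :
    (ut f J μ v β : Matrix ι ι F) *ᵥ (J *ᵥ x) = J *ᵥ ((ut f J μ v β : Matrix ι ι F) *ᵥ x) := by
  rw [ut_mulVec hs hv, ut_mulVec hs hv, mulVec_add, mulVec_add, mulVec_smul, mulVec_smul, J_J hs,
    f_JJ hs, hs.skew x v]
  module

theorem ut_mem_isom (v : ι → F) (β : F) : ut f J μ v β ∈ isom f :=
  mul_mem (st_mem_isom hs.symp _ _) (st_mem_isom hs.symp _ _)

variable [Finite F] (hn : 14 ≤ Fintype.card ι)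
include hn

/-- The quadratic form `x ↦ f x (J x)`. -/
theorem exists_qf : ∃ Q : QuadraticForm F (ι → F), PolarND Q ∧ (∀ x, Q x = f x (J *ᵥ x)) ∧
    ∀ x y, polar Q x y = 2 * f x (J *ᵥ y) := by
  have hb := hs.symp.bilinear
  let L : LinearMap.BilinForm F (ι → F) := LinearMap.mk₂ F (fun x y => f x (J *ᵥ y))
    (fun x y z => hb.add_left x y _) (fun c x y => hb.smul_left c x _)
    (fun x y z => by rw [mulVec_add, hb.add_right])
    (fun c x y => by rw [mulVec_smul, hb.smul_right, smul_eq_mul])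
  have hp : ∀ x y, polar L.toQuadraticMap x y = 2 * f x (J *ᵥ y) := fun x y => by
    rw [LinearMap.BilinMap.polar_toQuadraticMap]
    show f x (J *ᵥ y) + f y (J *ᵥ x) = _
    rw [symm_J hs x y]; ring
  refine ⟨L.toQuadraticMap, fun u hu => ?_, fun x => rfl, hp⟩
  by_contra hu0
  obtain ⟨z, hz⟩ := (hs.symp.nondegenerate u hu0).2
  have h := hu (μ⁻¹ • (J *ᵥ z))
  rw [hp, mulVec_smul, J_J hs, smul_smul, inv_mul_cancel₀ (mu_ne hs), one_smul] at h
  exact hz ((mul_eq_zero.mp h).resolve_left hs.two)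

/-- The image of a subspace under `J` has at most the same dimension. -/
theorem finrank_J_le (S : Submodule F (ι → F)) :
    Module.finrank F ↥(S.map J.mulVecLin) ≤ Module.finrank F S :=
  Submodule.finrank_map_le _ _

theorem exists_iso_value {S : Submodule F (ι → F)} {y : ι → F} (hy : y ∉ S)
    (hd : Module.finrank F S ≤ 4) :
    ∃ w, f w (J *ᵥ w) = 0 ∧ (∀ x ∈ S, f w x = 0) ∧ f w y = 1 := by
  obtain ⟨Q, hQ, hQx, hp⟩ := exists_qf hs hn
  have hy' : (2 * μ)⁻¹ • (J *ᵥ y) ∉ S.map J.mulVecLin := by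
    rintro ⟨s, hsS, hsy⟩
    rw [mulVecLin_apply] at hsy
    have := congrArg (J *ᵥ ·) hsy
    simp only [mulVec_smul, J_J hs] at this
    rw [← smul_assoc, smul_eq_mul] at this
    have hc : (2 * μ)⁻¹ * μ ≠ 0 :=
      mul_ne_zero (inv_ne_zero (mul_ne_zero hs.two (mu_ne hs))) (mu_ne hs)
    exact hy ((Submodule.smul_mem_iff S hc).mp (this ▸ S.smul_mem μ hsS))
  obtain ⟨w, hw, hwS, hwy⟩ := exists_singular_value hQ hy' (by
    have := finrank_J_le hs hn S
    simp
    omega)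
  refine ⟨w, by rw [← hQx, hw], fun x hx => ?_, ?_⟩
  · have h := hwS _ ⟨x, hx, rfl⟩
    rw [hp, mulVecLin_apply, J_J hs, hs.symp.bilinear.smul_right] at h
    simpa [hs.two, mu_ne hs] using h
  · rw [hp, mulVec_smul, J_J hs, smul_smul, hs.symp.bilinear.smul_right] at hwy
    have := mu_ne hs
    have := hs.two
    field_simp at hwy
    exact hwy

theorem exists_iso_perp {T S : Submodule F (ι → F)}
    (hd : Module.finrank F T + Module.finrank F S ≤ 11) :
    ∃ v, v ∉ S ∧ f v (J *ᵥ v) = 0 ∧ ∀ x ∈ T, f v x = 0 := by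
  obtain ⟨Q, hQ, hQx, hp⟩ := exists_qf hs hn
  obtain ⟨v, hvS, hv, hvT⟩ := exists_singular_perp hQ (T := T.map J.mulVecLin) (S := S) (by
    have := finrank_J_le hs hn T
    simp
    omega)
  refine ⟨v, hvS, by rw [← hQx, hv], fun x hx => ?_⟩
  have h := hvT _ ⟨x, hx, rfl⟩
  rw [hp, mulVecLin_apply, J_J hs, hs.symp.bilinear.smul_right] at h
  simpa [hs.two, mu_ne hs] using h

omit hn in
theorem finrank_span_le {k : ℕ} (v : Fin k → ι → F) :
    Module.finrank F (Submodule.span F (Set.range v)) ≤ k :=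
  (finrank_range_le_card v).trans (Fintype.card_fin k).le

/-- Every vector is a difference of isotropic vectors. -/
theorem exists_iso_split (x : ι → F) : ∃ e y, f e (J *ᵥ e) = 0 ∧ f y (J *ᵥ y) = 0 ∧
    ∃ t : F, x = y - t • e ∧ (x ≠ 0 → f y e ≠ 0) := by
  have hb := hs.symp.bilinear
  by_cases hx0 : x = 0
  · subst hx0
    refine ⟨0, 0, ?_, ?_, 0, by simp, fun h => (h rfl).elim⟩ <;>
      rw [mulVec_zero, form_zero_left hb]
  have hxn : x ∉ Submodule.span F (Set.range ![J *ᵥ x - x]) := fun hm => by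
    obtain ⟨c, hc⟩ := (Submodule.mem_span_range_iff_exists_fun F).mp hm
    rw [Fin.sum_univ_one, cons_val_zero] at hc
    refine hx0 (smul_eq_zero_K hs (a := -(c 0) - 1) (b := c 0) ?_ ?_)
    · rw [← sub_eq_zero.mpr hc]; module
    · by_cases h : c 0 = 0
      · left; rw [h]; simp
      · exact Or.inr h
  obtain ⟨e, he, heS, hex⟩ := exists_iso_value hs hn hxn
    ((finrank_span_le hs _).trans (by norm_num))
  have h1 := heS _ (Submodule.subset_span ⟨0, rfl⟩)
  rw [cons_val_zero, form_sub_right hb, hex, sub_eq_zero] at h1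
  have hxJe : f x (J *ᵥ e) = 1 := by rw [symm_J hs e x, h1]
  set t := -(f x (J *ᵥ x)) / 2
  refine ⟨e, x + t • e, he, ?_, t, by simp, fun _ h => ?_⟩
  · rw [mulVec_add, mulVec_smul, hb.add_left, hb.add_right, hb.add_right, hb.smul_left,
      hb.smul_left, hb.smul_right, hb.smul_right, he, hxJe, h1]
    have := hs.two
    simp only [t]
    field_simp
    ring
  · rw [hb.add_left, hb.smul_left, hs.symp.alternating, mul_zero, add_zero, hs.symp.skew x e,
      hex] at h
    exact one_ne_zero (neg_eq_zero.mp h)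

/-- An element not normalising the field moves some isotropic line off the `J`-lines. -/
theorem exists_bad {g : GL ι F}
    (hg : ¬ ((∀ x, (g : Matrix ι ι F) *ᵥ (J *ᵥ x) = J *ᵥ ((g : Matrix ι ι F) *ᵥ x)) ∨
      ∀ x, (g : Matrix ι ι F) *ᵥ (J *ᵥ x) = -(J *ᵥ ((g : Matrix ι ι F) *ᵥ x)))) :
    ∃ v, f v (J *ᵥ v) = 0 ∧ v ≠ 0 ∧
      ((J *ᵥ ((g : Matrix ι ι F) *ᵥ v)) ∉ Submodule.span F (Set.range
          ![(g : Matrix ι ι F) *ᵥ v, (g : Matrix ι ι F) *ᵥ (J *ᵥ v)])) := by
  by_contra hcon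
  simp only [not_exists, not_and, not_not] at hcon
  have hb := hs.symp.bilinear
  let T : (ι → F) →ₗ[F] (ι → F) :=
    (((g⁻¹ : GL ι F) : Matrix ι ι F) * J * (g : Matrix ι ι F)).mulVecLin
  have hT : ∀ x, T x = ((g⁻¹ : GL ι F) : Matrix ι ι F) *ᵥ (J *ᵥ ((g : Matrix ι ι F) *ᵥ x)) :=
    fun x => by
      show (((g⁻¹ : GL ι F) : Matrix ι ι F) * J * (g : Matrix ι ι F)).mulVecLin x = _
      rw [mulVecLin_apply, ← mulVec_mulVec, ← mulVec_mulVec]
  have hk : ∀ v, f v (J *ᵥ v) = 0 → v ≠ 0 → ∃ a b : F, T v = a • v + b • (J *ᵥ v) := by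
    intro v hv hv0
    obtain ⟨c, hc⟩ := (Submodule.mem_span_range_iff_exists_fun F).mp (hcon v hv hv0)
    refine ⟨c 0, c 1, ?_⟩
    rw [hT, ← hc, Fin.sum_univ_two]
    simp only [cons_val_zero, cons_val_one, cons_val_fin_one, mulVec_add, mulVec_smul,
      inv_mulVec_mulVec]
  choose a b hab using hk
  have pair : ∀ (v w : ι → F) (hv : f v (J *ᵥ v) = 0) (hv0 : v ≠ 0) (hw : f w (J *ᵥ w) = 0)
      (hw0 : w ≠ 0), f v (J *ᵥ w) = 0 → w ∉ Submodule.span F (Set.range ![v, J *ᵥ v]) →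
      a v hv hv0 = a w hw hw0 ∧ b v hv hv0 = b w hw hw0 := by
    intro v w hv hv0 hw hw0 h2 hwn
    have hvw0 : v + w ≠ 0 := fun h => by
      have := indep_K hs hv0 hwn (a := 1) (b := 0) (c := 1) (d := 0) (by rw [← h]; module)
      exact one_ne_zero this.1
    have hvw : f (v + w) (J *ᵥ (v + w)) = 0 := by
      rw [mulVec_add, hb.add_left, hb.add_right, hb.add_right, hv, hw, h2, symm_J hs v w, h2]
      simp
    have e := hab _ hvw hvw0
    rw [map_add, hab v hv hv0, hab w hw hw0, mulVec_add] at e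
    set α := a (v + w) hvw hvw0
    set β := b (v + w) hvw hvw0
    have := indep_K hs hv0 hwn (a := a v hv hv0 - α) (b := b v hv hv0 - β)
      (c := a w hw hw0 - α) (d := b w hw hw0 - β) (by rw [← sub_eq_zero.mpr e]; module)
    simp only [sub_eq_zero] at this
    exact ⟨this.1.trans this.2.2.1.symm, this.2.1.trans this.2.2.2.symm⟩
  obtain ⟨v₀, hv₀n, hv₀, -⟩ := exists_iso_perp hs hn (T := ⊥) (S := ⊥) (by simp)
  have hv₀0 : v₀ ≠ 0 := by simpa using hv₀n
  set α := a v₀ hv₀ hv₀0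
  set β := b v₀ hv₀ hv₀0
  have all : ∀ v, f v (J *ᵥ v) = 0 → T v = α • v + β • (J *ᵥ v) := by
    intro v hv
    by_cases hv0 : v = 0
    · simp [hv0]
    obtain ⟨w, hwS, hw, hwT⟩ := exists_iso_perp hs hn
      (T := Submodule.span F (Set.range ![J *ᵥ v, J *ᵥ v₀]))
      (S := Submodule.span F (Set.range ![v, J *ᵥ v, v₀, J *ᵥ v₀]))
      ((add_le_add (finrank_span_le hs _) (finrank_span_le hs _)).trans (by norm_num))
    have hw0 : w ≠ 0 := fun h => hwS (h ▸ zero_mem _)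
    have h1 : f v (J *ᵥ w) = 0 := by
      rw [symm_J hs w v]; exact hwT _ (Submodule.subset_span ⟨0, rfl⟩)
    have h2 : f v₀ (J *ᵥ w) = 0 := by
      rw [symm_J hs w v₀]; exact hwT _ (Submodule.subset_span ⟨1, rfl⟩)
    have e1 := pair v w hv hv0 hw hw0 h1 fun h => hwS
      (Submodule.span_mono (by rintro _ ⟨i, rfl⟩; fin_cases i; exacts [⟨0, rfl⟩, ⟨1, rfl⟩]) h)
    have e2 := pair v₀ w hv₀ hv₀0 hw hw0 h2 fun h => hwS
      (Submodule.span_mono (by rintro _ ⟨i, rfl⟩; fin_cases i; exacts [⟨2, rfl⟩, ⟨3, rfl⟩]) h)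
    rw [hab v hv hv0, e1.1, e1.2, ← e2.1, ← e2.2]
  have hTall : ∀ x, T x = α • x + β • (J *ᵥ x) := by
    intro x
    obtain ⟨e, y, he, hy, t, rfl, -⟩ := exists_iso_split hs hn x
    rw [map_sub, map_smul, all e he, all y hy, mulVec_sub, mulVec_smul]
    module
  have hv₀0' : J *ᵥ v₀ ≠ 0 := fun h => hv₀0
    (smul_eq_zero_K hs (a := 0) (b := 1) (by rw [h]; simp) (Or.inr one_ne_zero))
  have hsq : (α * α + β * β * μ - μ) • v₀ + (2 * α * β) • (J *ᵥ v₀) = 0 := by
    have h : T (T v₀) = μ • v₀ := by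
      rw [hT, hT, mulVec_inv_mulVec, J_J hs, mulVec_smul, inv_mulVec_mulVec]
    rw [hTall v₀, hTall, mulVec_add, mulVec_smul, mulVec_smul, J_J hs, ← sub_eq_zero] at h
    rw [← h]; module
  obtain ⟨h1, h2⟩ : α * α + β * β * μ - μ = 0 ∧ 2 * α * β = 0 := by
    by_contra h
    exact hv₀0 (smul_eq_zero_K hs hsq (by
      by_cases h' : α * α + β * β * μ - μ = 0
      · exact Or.inr fun h'' => h ⟨h', h''⟩
      · exact Or.inl h'))
  have hα : α = 0 := by
    by_contra hα
    have hβ : β = 0 := by simpa [hs.two, hα] using h2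
    rw [hβ] at h1
    exact hs.nsq α (by linear_combination h1)
  have hβ : β = 1 ∨ β = -1 := by
    rw [hα] at h1
    have h3 : β * β * μ = 1 * 1 * μ := by linear_combination h1
    exact mul_self_eq_mul_self_iff.mp (mul_right_cancel₀ (mu_ne hs) h3)
  refine hg ?_
  have key : ∀ x, J *ᵥ ((g : Matrix ι ι F) *ᵥ x) = β • ((g : Matrix ι ι F) *ᵥ (J *ᵥ x)) := by
    intro x
    have h := congrArg ((g : Matrix ι ι F) *ᵥ ·) (hTall x)
    simp only [hT, mulVec_inv_mulVec, hα, zero_smul, zero_add, mulVec_smul] at h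
    exact h
  rcases hβ with hβ | hβ
  · exact Or.inl fun x => by rw [key, hβ, one_smul]
  · exact Or.inr fun x => by rw [key, hβ, neg_one_smul, neg_neg]

variable {M : Subgroup (GL ι F)}
variable (hM : ∀ v β, f v (J *ᵥ v) = 0 → ut f J μ v β ∈ M)
include hM

/-- Two orthogonal isotropic vectors give a pair of commuting root elements. -/
theorem pair_mem {a b : ι → F} (ha : f a (J *ᵥ a) = 0) (hb' : f b (J *ᵥ b) = 0)
    (hab : f a b = 0) (haJb : f a (J *ᵥ b) = 0) :
    el f (J *ᵥ a) (J *ᵥ b) * el f a (-μ • b) ∈ M := by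
  have hb := hs.symp.bilinear
  have hadd : f (a + b) (J *ᵥ (a + b)) = 0 := by
    rw [mulVec_add, hb.add_left, hb.add_right, hb.add_right, ha, hb', haJb, symm_J hs a b, haJb]
    simp
  have h := mul_mem (mul_mem (hM _ 1 hadd) (hM _ (-1) ha)) (hM _ (-1) hb')
  convert! h using 1
  refine gl_ext fun x => ?_
  have hba : f b a = 0 := by rw [hs.symp.skew, hab, neg_zero]
  have hJaJb : f (J *ᵥ a) (J *ᵥ b) = 0 := by rw [f_JJ hs, hab, mul_zero, neg_zero]
  have hJaa : f (J *ᵥ a) a = 0 := by rw [hs.symp.skew, ha, neg_zero]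
  have hJba : f (J *ᵥ b) a = 0 := by rw [hs.symp.skew, haJb, neg_zero]
  have hJbb : f (J *ᵥ b) b = 0 := by rw [hs.symp.skew, hb', neg_zero]
  have hJab : f (J *ᵥ a) b = 0 := by rw [hs.symp.skew, symm_J hs a b, haJb, neg_zero]
  rw [Units.val_mul, ← mulVec_mulVec, el_mulVec hs hJaJb,
    el_mulVec hs (by rw [hb.smul_right, hab, mul_zero]), Units.val_mul, Units.val_mul, ← mulVec_mulVec, ← mulVec_mulVec,
    ut_mulVec hs hb', ut_mulVec hs ha, ut_mulVec hs hadd]
  simp only [mulVec_add, hb.add_left, hb.add_right, hb.smul_left, hb.smul_right, hab, hba, haJb,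
    hJaa, hJba, hJbb, hJab, ha, hb', hs.symp.alternating, f_JJ hs, hJaJb, symm_J hs a b,
    mul_zero, add_zero, neg_zero]
  module

/-- An element of `M` moving only `Jb` among `a`, `Ja`, `b`, `Jb` gives a root element. -/
theorem shift_mem {a b d : ι → F} (ha : f a (J *ᵥ a) = 0) (hb' : f b (J *ᵥ b) = 0)
    (hab : f a b = 0) (haJb : f a (J *ᵥ b) = 0) {k : GL ι F} (hkM : k ∈ M) (hki : k ∈ isom f)
    (h1 : (k : Matrix ι ι F) *ᵥ a = a) (h2 : (k : Matrix ι ι F) *ᵥ (J *ᵥ a) = J *ᵥ a)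
    (h3 : (k : Matrix ι ι F) *ᵥ b = b) (h4 : (k : Matrix ι ι F) *ᵥ (J *ᵥ b) = J *ᵥ b + d) :
    ∃ Y ∈ M, Y ∈ isom f ∧ ∀ x, (Y : Matrix ι ι F) *ᵥ x = x + f x (J *ᵥ a) • d +
      f x d • (J *ᵥ a) + (f x (J *ᵥ a) * f d (J *ᵥ b)) • (J *ᵥ a) := by
  have hb := hs.symp.bilinear
  set p := J *ᵥ a
  set q := J *ᵥ b
  have hpq : f p q = 0 := by rw [f_JJ hs, hab, mul_zero, neg_zero]
  have hpqd : f p (q + d) = 0 := by rw [← h2, ← h4, mem_isom.mp hki, hpq]
  have hpd : f p d = 0 := by rwa [hb.add_right, hpq, zero_add] at hpqd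
  have hP := pair_mem hs hn hM ha hb' hab haJb
  refine ⟨el f p (q + d) * (el f p q)⁻¹, ?_,
    mul_mem (mul_mem (mul_mem (st_mem_isom hs.symp _ _) (st_mem_isom hs.symp _ _))
      (st_mem_isom hs.symp _ _)) (inv_mem (mul_mem (mul_mem (st_mem_isom hs.symp _ _)
      (st_mem_isom hs.symp _ _)) (st_mem_isom hs.symp _ _))), fun x => ?_⟩
  · have e : k * (el f p q * el f a (-μ • b)) * k⁻¹ * (el f p q * el f a (-μ • b))⁻¹ =
        el f p (q + d) * (el f p q)⁻¹ := by
      have e1 : k * (el f p q * el f a (-μ • b)) * k⁻¹ =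
          el f p (q + d) * el f a (-μ • b) := by
        rw [show k * (el f p q * el f a (-μ • b)) * k⁻¹ =
          (k * el f p q * k⁻¹) * (k * el f a (-μ • b) * k⁻¹) by group, el_conj hs hki,
          el_conj hs hki, h1, h2, h4, mulVec_smul, h3]
      rw [e1]; group
    rw [← e]
    exact mul_mem (mul_mem (mul_mem hkM hP) (inv_mem hkM)) (inv_mem hP)
  · have hqp : f q p = 0 := by rw [hs.symp.skew, hpq, neg_zero]
    have hdp : f d p = 0 := by rw [hs.symp.skew, hpd, neg_zero]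
    rw [el_inv hs hpq, Units.val_mul, ← mulVec_mulVec, el_mulVec hs hpqd,
      el_mulVec hs (by rw [form_neg_right hb, hpq, neg_zero])]
    simp only [hb.add_left, hb.add_right, hb.smul_left, hb.smul_right, ← neg_one_smul F q,
      hpq, hqp, hdp, hpd, hs.symp.alternating, hs.symp.skew q d]
    module

/-- A full transvection group. -/
theorem exists_centre {g : GL ι F} (hgM : g ∈ M) (hgi : g ∈ isom f)
    (hg : ¬ ((∀ x, (g : Matrix ι ι F) *ᵥ (J *ᵥ x) = J *ᵥ ((g : Matrix ι ι F) *ᵥ x)) ∨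
      ∀ x, (g : Matrix ι ι F) *ᵥ (J *ᵥ x) = -(J *ᵥ ((g : Matrix ι ι F) *ᵥ x)))) :
    ∃ p, p ≠ 0 ∧ f p (J *ᵥ p) = 0 ∧ p ∈ centres f M := by
  have hb := hs.symp.bilinear
  obtain ⟨v, hv, hv0, hnot⟩ := exists_bad hs hn hg
  set u := (g : Matrix ι ι F) *ᵥ v with hu
  set u' := (g : Matrix ι ι F) *ᵥ (J *ᵥ v) with hu'
  set h' := g * ut f J μ v 1 * g⁻¹ with hh'
  have hh'M : h' ∈ M := mul_mem (mul_mem hgM (hM v 1 hv)) (inv_mem hgM)
  have hh'i : h' ∈ isom f := mul_mem (mul_mem hgi (ut_mem_isom hs v 1)) (inv_mem hgi)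
  have huu' : f u u' = 0 := by rw [hu, hu', mem_isom.mp hgi, hv]
  have hh'x : ∀ x, (h' : Matrix ι ι F) *ᵥ x = x + (-μ * f x u) • u + f x u' • u' := fun x => by
    rw [hh', ut, show g * (st f (J *ᵥ v) 1 * st f v (-(μ * 1))) * g⁻¹ =
      (g * st f (J *ᵥ v) 1 * g⁻¹) * (g * st f v (-(μ * 1)) * g⁻¹) by group,
      st_conj hs.symp hgi, st_conj hs.symp hgi, ← hu, ← hu', Units.val_mul, ← mulVec_mulVec,
      st_mulVec hs.symp, st_mulVec hs.symp, hb.add_left, hb.smul_left, huu']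
    module
  clear_value h'
  obtain ⟨b, hb', hbS, hby⟩ := exists_iso_value hs hn hnot
    ((finrank_span_le hs _).trans (by norm_num))
  have hbu : f b u = 0 := hbS u (Submodule.subset_span ⟨0, rfl⟩)
  have hbu' : f b u' = 0 := hbS u' (Submodule.subset_span ⟨1, rfl⟩)
  have hJbu : f (J *ᵥ b) u = -1 := by rw [hs.skew, hby]
  set δ := μ • u + f (J *ᵥ b) u' • u' with hδ
  have hδ0 : δ ≠ 0 := fun h => by
    have h' := congrArg (((g⁻¹ : GL ι F) : Matrix ι ι F) *ᵥ ·) h
    simp only [hδ, hu, hu', mulVec_add, mulVec_smul, inv_mulVec_mulVec, mulVec_zero] at h'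
    exact hv0 (smul_eq_zero_K hs h' (Or.inl (mu_ne hs)))
  obtain ⟨a, haS, ha, haT⟩ := exists_iso_perp hs hn
    (T := Submodule.span F (Set.range ![u, u', J *ᵥ u, J *ᵥ u', b, J *ᵥ b]))
    (S := Submodule.span F (Set.range ![δ, J *ᵥ δ]))
    ((add_le_add (finrank_span_le hs _) (finrank_span_le hs _)).trans (by norm_num))
  have hau : f a u = 0 := haT _ (Submodule.subset_span ⟨0, rfl⟩)
  have hau' : f a u' = 0 := haT _ (Submodule.subset_span ⟨1, rfl⟩)
  have hJau : f (J *ᵥ a) u = 0 := by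
    rw [hs.skew, show f a (J *ᵥ u) = 0 from haT _ (Submodule.subset_span ⟨2, rfl⟩), neg_zero]
  have hJau' : f (J *ᵥ a) u' = 0 := by
    rw [hs.skew, show f a (J *ᵥ u') = 0 from haT _ (Submodule.subset_span ⟨3, rfl⟩), neg_zero]
  obtain ⟨Y, hYM, hYi, hYx⟩ := shift_mem hs hn hM ha hb'
    (haT _ (Submodule.subset_span ⟨4, rfl⟩)) (haT _ (Submodule.subset_span ⟨5, rfl⟩)) hh'M hh'i
    (d := δ) (by rw [hh'x, hau, hau']; module) (by rw [hh'x, hJau, hJau']; module)
    (by rw [hh'x, hbu, hbu']; module) (by rw [hh'x, hJbu, hδ]; module)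
  set p := J *ᵥ a with hp
  have ha0 : a ≠ 0 := fun h => haS (h ▸ zero_mem _)
  have hp0 : p ≠ 0 := fun h => ha0
    (smul_eq_zero_K hs (a := 0) (b := 1) (by rw [← hp, h]; simp) (Or.inr one_ne_zero))
  have had : f a δ = 0 := by
    rw [hδ, hb.add_right, hb.smul_right, hb.smul_right, hau, hau', mul_zero, mul_zero, add_zero]
  have hpd : f p δ = 0 := by
    rw [hδ, hb.add_right, hb.smul_right, hb.smul_right, hJau, hJau', mul_zero, mul_zero, add_zero]
  have hJδn : J *ᵥ δ ∉ Submodule.span F (Set.range ![a, p, δ]) := by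
    intro hm
    obtain ⟨c, hc⟩ := (Submodule.mem_span_range_iff_exists_fun F).mp hm
    simp only [Fin.sum_univ_three, cons_val_zero, cons_val_one, cons_val_two, tail_cons,
      head_cons] at hc
    have h := indep_K hs (v := δ) (w := a) hδ0 haS (a := c 2) (b := -1) (c := c 0) (d := c 1)
      (by rw [← sub_eq_zero.mpr hc]; module)
    exact one_ne_zero (neg_eq_zero.mp h.2.1)
  obtain ⟨c, hc, hcS, hcy⟩ := exists_iso_value hs hn hJδn
    ((finrank_span_le hs _).trans (by norm_num))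
  have hca : f c a = 0 := hcS _ (Submodule.subset_span ⟨0, rfl⟩)
  have hcp : f c p = 0 := hcS _ (Submodule.subset_span ⟨1, rfl⟩)
  have hcd : f c δ = 0 := hcS _ (Submodule.subset_span ⟨2, rfl⟩)
  refine ⟨p, hp0, by rw [f_JJ hs, ha, mul_zero, neg_zero], fun r => ?_⟩
  set c' := (-r / 2) • c
  have hc'0 : ∀ z, f c z = 0 → f c' z = 0 := fun z h => by rw [hb.smul_left, h, mul_zero]
  have hc'a : f a c' = 0 := by rw [hs.symp.skew, hc'0 a hca, neg_zero]
  have hJc'p : f (J *ᵥ c') p = 0 := by rw [f_JJ hs, hc'0 a hca, mul_zero, neg_zero]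
  obtain ⟨Z, hZM, -, hZx⟩ := shift_mem hs hn hM ha (b := c')
    (by rw [mulVec_smul, hb.smul_left, hb.smul_right, hc, mul_zero, mul_zero]) hc'a
    (by rw [symm_J hs c' a, ← hp, hc'0 p hcp]) hYM hYi (d := (r / 2) • p)
    (by rw [hYx, ha, had]; simp) (by rw [hYx, hs.symp.alternating, hpd]; simp)
    (by rw [hYx, hc'0 p hcp, hc'0 δ hcd]; simp)
    (by
      have h5 : f (J *ᵥ c') δ = r / 2 := by
        rw [hs.skew, hb.smul_left, hcy]; ring
      rw [hYx, hJc'p, h5]; simp)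
  convert! hZM using 1
  refine gl_ext fun x => ?_
  rw [hZx, st_mulVec hs.symp, ← hp, hb.smul_right, hb.smul_left,
    show f p (J *ᵥ c') = 0 by rw [hs.symp.skew, hJc'p, neg_zero]]
  have := hs.two
  match_scalars <;> field_simp <;> ring

theorem centres_step {p e : ι → F} (hp : p ∈ centres f M) (he : f e (J *ᵥ e) = 0)
    (h1 : f p e ≠ 0) (h2 : f p (J *ᵥ e) = 0) : e ∈ centres f M := by
  have hb := hs.symp.bilinear
  have hpe : p + e ∈ centres f M := by
    have := conj_mem_centres hs.symp (hM e (-(μ * f p e)⁻¹) he) (ut_mem_isom hs _ _) hp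
    rw [ut_mulVec hs he, h2, mul_zero, zero_smul, add_zero] at this
    have hμ := mu_ne hs
    rwa [show -(μ * -(μ * f p e)⁻¹) * f p e = 1 by field_simp, one_smul] at this
  have := add_smul_mem_centres hs.symp hpe hp (a := -1)
    (by rw [hb.add_left, hs.symp.alternating, zero_add, hs.symp.skew]; exact neg_ne_zero.mpr h1)
  simpa using this

theorem centres_iso {p : ι → F} (hp : p ∈ centres f M) (hp0 : p ≠ 0) (hpi : f p (J *ᵥ p) = 0)
    {e : ι → F} (he : f e (J *ᵥ e) = 0) : e ∈ centres f M := by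
  have hb := hs.symp.bilinear
  by_cases he0 : e = 0
  · rw [he0]; simpa using smul_mem_centres hs.symp hp 0
  have two : ∀ p r : ι → F, p ∈ centres f M → p ≠ 0 → f r (J *ᵥ r) = 0 →
      r ∉ Submodule.span F (Set.range ![p, J *ᵥ p]) → r ∈ centres f M := by
    intro p r hp hp0 hr hrn
    have hpn : p ∉ Submodule.span F (Set.range ![J *ᵥ p, J *ᵥ r, p - r]) := fun hm => by
      obtain ⟨c, hc⟩ := (Submodule.mem_span_range_iff_exists_fun F).mp hm
      simp only [Fin.sum_univ_three, cons_val_zero, cons_val_one, cons_val_two, tail_cons,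
        head_cons] at hc
      obtain ⟨h1, -, h3, -⟩ := indep_K hs hp0 hrn (a := c 2 - 1) (b := c 0) (c := -(c 2))
        (d := c 1) (by rw [← sub_eq_zero.mpr hc]; module)
      rw [neg_eq_zero.mp h3, zero_sub, neg_eq_zero] at h1
      exact one_ne_zero h1
    obtain ⟨w, hw, hwS, hwp⟩ := exists_iso_value hs hn hpn
      ((finrank_span_le hs _).trans (by norm_num))
    have hwr : f w r = 1 := by
      have h := hwS _ (Submodule.subset_span ⟨2, rfl⟩)
      rw [cons_val_two, tail_cons, head_cons, form_sub_right hb, hwp, sub_eq_zero] at h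
      exact h.symm
    have hwc : w ∈ centres f M := centres_step hs hn hM hp hw
      (by rw [hs.symp.skew, hwp]; exact neg_ne_zero.mpr one_ne_zero)
      (by rw [symm_J hs w p]; exact hwS _ (Submodule.subset_span ⟨0, rfl⟩))
    exact centres_step hs hn hM hwc hr (by rw [hwr]; exact one_ne_zero)
      (hwS _ (Submodule.subset_span ⟨1, rfl⟩))
  obtain ⟨r, hrS, hr, -⟩ := exists_iso_perp hs hn (T := ⊥)
    (S := Submodule.span F (Set.range ![p, J *ᵥ p, e, J *ᵥ e]))
    (by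
      have := finrank_span_le hs ![p, J *ᵥ p, e, J *ᵥ e]
      simp only [finrank_bot]
      omega)
  have hr0 : r ≠ 0 := fun h => hrS (h ▸ zero_mem _)
  have hrc := two p r hp hp0 hr fun h => hrS
    (Submodule.span_mono (by rintro _ ⟨i, rfl⟩; fin_cases i; exacts [⟨0, rfl⟩, ⟨1, rfl⟩]) h)
  refine two r e hrc hr0 he fun h => hrS ?_
  obtain ⟨c, hc⟩ := (Submodule.mem_span_range_iff_exists_fun F).mp h
  simp only [Fin.sum_univ_two, cons_val_zero, cons_val_one, cons_val_fin_one] at hc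
  have hne : c 0 * c 0 - μ * (c 1 * c 1) ≠ 0 := fun h3 => by
    by_cases hd : c 1 = 0
    · rw [hd] at h3
      simp only [mul_zero, sub_zero, mul_self_eq_zero] at h3
      exact he0 (by rw [← hc, h3, hd]; simp)
    · exact hs.nsq (c 0 / c 1) (by field_simp; linear_combination h3)
  refine (Submodule.smul_mem_iff _ hne).mp ?_
  rw [show (c 0 * c 0 - μ * (c 1 * c 1)) • r = c 0 • e + (-(c 1)) • (J *ᵥ e) by
    rw [← hc, mulVec_add, mulVec_smul, mulVec_smul, J_J hs]; module]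
  exact add_mem (Submodule.smul_mem _ _ (Submodule.subset_span ⟨2, rfl⟩))
    (Submodule.smul_mem _ _ (Submodule.subset_span ⟨3, rfl⟩))

theorem isom_le {g : GL ι F} (hgM : g ∈ M) (hgi : g ∈ isom f)
    (hg : ¬ ((∀ x, (g : Matrix ι ι F) *ᵥ (J *ᵥ x) = J *ᵥ ((g : Matrix ι ι F) *ᵥ x)) ∨
      ∀ x, (g : Matrix ι ι F) *ᵥ (J *ᵥ x) = -(J *ᵥ ((g : Matrix ι ι F) *ᵥ x)))) :
    isom f ≤ M := by
  obtain ⟨p, hp0, hpi, hp⟩ := exists_centre hs hn hM hgM hgi hg
  have hiso : ∀ e, f e (J *ᵥ e) = 0 → e ∈ centres f M := fun e he =>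
    centres_iso hs hn hM hp hp0 hpi he
  suffices ∀ x, x ∈ centres f M from isom_le_of_st_mem hs.symp fun v c => this v c
  intro x
  by_cases hx : x = 0
  · exact hiso x (by rw [hx, form_zero_left hs.symp.bilinear])
  obtain ⟨e, y, he, hy, t, rfl, hne⟩ := exists_iso_split hs hn x
  have := add_smul_mem_centres hs.symp (hiso y hy) (hiso e he) (hne hx) (-t)
  rwa [neg_smul, ← sub_eq_add_neg] at this

end Cfsg.Agent.UnitaryInSp
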