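import Cfsg.Agent.MaxSub.WreathBasic

/-!
Odd characteristic: a subgroup containing the elements of `Ω` permuting an orthogonal isometric
decomposition and one more element contains `Ω` (helper24).
-/

set_option autoImplicit false
set_option linter.unusedSectionVars false

namespace Cfsg.Agent.Wreath

open QuadraticMap Cfsg.Agent.UnitaryOrthogonal Cfsg.Agent.OrthStab
open scoped commutatorElement

variable {F : Type*} [Field F] [Finite F] {V : Type*} [AddCommGroup V] [Module F V]
variable [FiniteDimensional F V] {Q : QuadraticForm F V}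

/-- An orthogonal decomposition into isometric non-degenerate subspaces of dimension `k`. -/
structure IsSys (Q : QuadraticForm F V) {t : ℕ} (k : ℕ) (D : Fin t → Submodule F V) : Prop where
  nd : PolarND Q
  two : (2 : F) ≠ 0
  dim : ∀ i, Module.finrank F (D i) = k
  ndOn : ∀ i, Nd Q (D i)
  orth : ∀ i l, i ≠ l → ∀ x ∈ D i, ∀ y ∈ D l, polar Q x y = 0
  top : iSup D = ⊤
  iso : ∀ i l, ∃ e : D i ≃ₗ[F] D l, ∀ w : D i, Q ((e w : D l) : V) = Q (w : V)
  three : 3 ≤ k
  three_t : 3 ≤ t
  big : 5 ≤ Module.finrank F V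
  small : 4 ≤ Nat.card F ∨ 5 ≤ k

/-- `h` permutes the members. -/
def Perm {t : ℕ} (D : Fin t → Submodule F V) (h : orth Q) : Prop :=
  ∀ i, ∃ l, ∀ x ∈ D i, h.1 x ∈ D l

/-- `z` occurs with all its multiples among the root elements of `M` at `u`. -/
def A (M : Subgroup (orth Q)) (u : V) (hu : Q u = 0) : Submodule F V where
  carrier := {z | polar Q u z = 0 ∧ ∀ r : F, eich Q u (r • z) ∈ M}
  zero_mem' := ⟨polar_zero_right Q u, fun r => by rw [smul_zero, eich_zero]; exact one_mem M⟩
  add_mem' := fun {x y} hx hy => ⟨by rw [polar_add_right, hx.1, hy.1, add_zero], fun r => by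
    rw [smul_add, ← eich_mul hu (by rw [polar_smul_right, hx.1, smul_zero])
      (by rw [polar_smul_right, hy.1, smul_zero])]
    exact mul_mem (hx.2 r) (hy.2 r)⟩
  smul_mem' := fun c x hx => ⟨by rw [polar_smul_right, hx.1, smul_zero], fun r => by
    rw [smul_smul]; exact hx.2 _⟩

theorem mem_A {M : Subgroup (orth Q)} {u z : V} {hu : Q u = 0} :
    z ∈ A M u hu ↔ polar Q u z = 0 ∧ ∀ r : F, eich Q u (r • z) ∈ M := Iff.rfl

/-- An element of `M` transports root data. -/
theorem map_A {M : Subgroup (orth Q)} {u z : V} {hu : Q u = 0} {g : orth Q} (hg : g ∈ M)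
    (hz : z ∈ A M u hu) : g.1 z ∈ A M (g.1 u) (by rw [map_form, hu]) :=
  ⟨by rw [map_polar]; exact hz.1, fun r => by
    rw [← map_smul, ← conj_eich]; exact mul_mem (mul_mem hg (hz.2 r)) (inv_mem hg)⟩

/-- Root data at `u` spreads over a non-degenerate subspace orthogonal to `u`. -/
theorem spread {M : Subgroup (orth Q)} (h2 : (2 : F) ≠ 0) {S : Submodule F V} (hS : Nd Q S)
    (hd : 3 ≤ Module.finrank F S) {u z : V} (hu : Q u = 0) (huS : ∀ s ∈ S, polar Q u s = 0)
    (hSM : ∀ c ∈ S, ∀ b ∈ S, Q c = 0 → polar Q c b = 0 → eich Q c b ∈ M)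
    (hz : z ∈ A M u hu) (hne : ∃ s ∈ S, polar Q z s ≠ 0) : S ≤ A M u hu := by
  have move : ∀ z' ∈ A M u hu, ∀ c ∈ S, Q c = 0 → ∀ b ∈ S, polar Q c b = 0 →
      polar Q c z' • b - polar Q b z' • c ∈ A M u hu ∧
      (Q b * polar Q c z') • c ∈ A M u hu := by
    intro z' hz' c hc hcQ b hb hcb
    have key : ∀ b ∈ S, polar Q c b = 0 →
        polar Q c z' • b - polar Q b z' • c - (Q b * polar Q c z') • c ∈ A M u hu := by
      intro b hb hcb
      have h := map_A (hSM c hc b hb hcQ hcb) hz'
      have hfix : (eich Q c b).1 u = u := by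
        rw [eich_apply hcQ hcb, polar_comm Q c u, huS c hc, polar_comm Q b u, huS b hb]; simp
      have h' : (eich Q c b).1 z' ∈ A M u hu := by
        simp only [mem_A] at h ⊢
        rwa [hfix] at h
      have h3 := sub_mem h' hz'
      rw [eich_apply hcQ hcb] at h3
      convert! h3 using 1
      abel
    have h1 := key b hb hcb
    have h3 := key (-b) (neg_mem hb) (by rw [polar_neg_right, hcb, neg_zero])
    rw [polar_neg_left, QuadraticMap.map_neg] at h3
    refine ⟨?_, ?_⟩
    · have h4 := (A M u hu).smul_mem (2 : F)⁻¹ (sub_mem h1 h3)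
      convert! h4 using 1
      match_scalars <;> field_simp <;> ring
    · have h4 := (A M u hu).smul_mem (-(2 : F)⁻¹) (add_mem h1 h3)
      convert! h4 using 1
      match_scalars <;> field_simp <;> ring
  -- a singular `c` seeing `z` lies in `A`, with its orthogonal
  have step : ∀ z' ∈ A M u hu, ∀ c ∈ S, Q c = 0 → polar Q c z' ≠ 0 →
      c ∈ A M u hu ∧ ∀ b ∈ S, polar Q c b = 0 → b ∈ A M u hu := by
    intro z' hz' c hc hcQ hcz
    have hc0 : c ≠ 0 := fun h => hcz (by rw [h, polar_zero_left])
    obtain ⟨f, hf, hfQ, hcf⟩ := exists_partner_in h2 hS hc hcQ hc0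
    have hT := nd_cut_pair h2 hS hc hf hcQ hfQ hcf
    obtain ⟨b, hb, hbQ⟩ := exists_aniso h2 hT (by
      have h3 := finrank_cut (Q := Q) S c
      have h4 := finrank_cut (Q := Q) (cut Q S c) f
      omega)
    have hcA : c ∈ A M u hu :=
      ((A M u hu).smul_mem_iff (mul_ne_zero hbQ hcz)).mp (move z' hz' c hc hcQ b hb.1.1 hb.1.2).2
    refine ⟨hcA, fun y hy hcy => ?_⟩
    have h := add_mem (move z' hz' c hc hcQ y hy hcy).1 ((A M u hu).smul_mem (polar Q y z') hcA)
    rw [sub_add_cancel] at h
    exact ((A M u hu).smul_mem_iff hcz).mp h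
  obtain ⟨c, hc, hcQ, hcz⟩ : ∃ c ∈ S, Q c = 0 ∧ polar Q c z ≠ 0 := by
    by_contra hcon
    simp only [not_exists, not_and, not_not] at hcon
    obtain ⟨s, hs, hne⟩ := hne
    have := le_of_singular h2 hS hd (T := LinearMap.ker (polarBilin Q z)) (fun x hx hxQ => by
      show polar Q z x = 0
      rw [polar_comm]; exact hcon x hx hxQ) hs
    exact hne this
  obtain ⟨hcA, hcperp⟩ := step z hz c hc hcQ hcz
  have hc0 : c ≠ 0 := fun h => hcz (by rw [h, polar_zero_left])
  obtain ⟨f, hf, hfQ, hcf⟩ := exists_partner_in h2 hS hc hcQ hc0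
  have hfc : polar Q f c = 1 := by rw [polar_comm]; exact hcf
  obtain ⟨hfA, hfperp⟩ := step c hcA f hf hfQ (by rw [hfc]; exact one_ne_zero)
  intro x hx
  have h1 := hfperp (x - polar Q f x • c) (sub_mem hx (S.smul_mem _ hc))
    (by rw [polar_sub_right, polar_smul_right, hfc]; simp)
  simpa using add_mem h1 ((A M u hu).smul_mem (polar Q f x) hcA)

/-- Reflections in vectors with equal values of the form multiply into `Ω`. -/
theorem rf_mul_rf_mem (hnd : PolarND Q) (h5 : 5 ≤ Module.finrank F V) {x y : V} (hx : Q x ≠ 0)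
    (he : Q x = Q y) : rf Q x * rf Q y ∈ eichGroup Q := by
  obtain ⟨g, hg, hgx⟩ := exists_eich_map_of_form_eq hnd h5
    (fun h => hx (by rw [h, QuadraticMap.map_zero]))
    (fun h => hx (by rw [he, h, QuadraticMap.map_zero])) he
  rw [← hgx, ← conj_rf, ← mul_assoc, ← mul_assoc]
  nth_rewrite 2 [← rf_inv]
  exact mul_mem ((eichGroup_normal (Q := Q)).conj_mem g hg (rf Q x)) (inv_mem hg)

variable {t k : ℕ} {D : Fin t → Submodule F V} (hD : IsSys Q k D)
include hD

theorem exists_comp (i : Fin t) (x : V) :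
    ∃ c ∈ D i, ∀ y ∈ D i, polar Q c y = polar Q x y := by
  have hx : x ∈ iSup D := hD.top ▸ Submodule.mem_top
  refine Submodule.iSup_induction D (motive := fun x => ∃ c ∈ D i, ∀ y ∈ D i,
    polar Q c y = polar Q x y) hx (fun l x hl => ?_) ⟨0, zero_mem _, fun y _ => rfl⟩ ?_
  · by_cases h : l = i
    · exact ⟨x, h ▸ hl, fun y _ => rfl⟩
    · exact ⟨0, zero_mem _, fun y hy => by rw [polar_zero_left, hD.orth l i h x hl y hy]⟩
  · rintro a b ⟨c, hc, hca⟩ ⟨e, he, heb⟩
    exact ⟨c + e, add_mem hc he, fun y hy => by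
      rw [polar_add_left, polar_add_left, hca y hy, heb y hy]⟩

/-- The component in `D i`. -/
noncomputable def pr (i : Fin t) (x : V) : V := (exists_comp hD i x).choose

theorem pr_mem (i : Fin t) (x : V) : pr hD i x ∈ D i := (exists_comp hD i x).choose_spec.1

theorem pr_polar {i : Fin t} {y : V} (hy : y ∈ D i) (x : V) :
    polar Q (pr hD i x) y = polar Q x y := (exists_comp hD i x).choose_spec.2 y hy

theorem pr_unique {i : Fin t} {x c : V} (hc : c ∈ D i)
    (h : ∀ y ∈ D i, polar Q c y = polar Q x y) : pr hD i x = c :=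
  sub_eq_zero.mp (hD.ndOn i _ (sub_mem (pr_mem hD i x) hc) fun y hy => by
    rw [polar_sub_left, pr_polar hD hy, h y hy, sub_self])

theorem pr_self {i : Fin t} {x : V} (hx : x ∈ D i) : pr hD i x = x :=
  pr_unique hD hx fun _ _ => rfl

theorem pr_other {i l : Fin t} (hil : l ≠ i) {x : V} (hx : x ∈ D l) : pr hD i x = 0 :=
  pr_unique hD (zero_mem _) fun y hy => by rw [polar_zero_left, hD.orth l i hil x hx y hy]

theorem pr_add (i : Fin t) (x y : V) : pr hD i (x + y) = pr hD i x + pr hD i y :=
  pr_unique hD (add_mem (pr_mem hD i x) (pr_mem hD i y)) fun z hz => by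
    rw [polar_add_left, polar_add_left, pr_polar hD hz, pr_polar hD hz]

theorem pr_smul (i : Fin t) (c : F) (x : V) : pr hD i (c • x) = c • pr hD i x :=
  pr_unique hD ((D i).smul_mem c (pr_mem hD i x)) fun z hz => by
    rw [polar_smul_left, polar_smul_left, pr_polar hD hz]

/-- The projection as a linear map. -/
noncomputable def prL (i : Fin t) : V →ₗ[F] V where
  toFun := pr hD i
  map_add' := pr_add hD i
  map_smul' := pr_smul hD i

theorem pr_sub (i : Fin t) (x y : V) : pr hD i (x - y) = pr hD i x - pr hD i y :=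
  map_sub (prL hD i) x y

theorem sum_pr (x : V) : ∑ i, pr hD i x = x := by
  refine (sub_eq_zero.mp (hD.nd (x - ∑ i, pr hD i x) fun y => ?_)).symm
  have hy : y ∈ iSup D := hD.top ▸ Submodule.mem_top
  refine Submodule.iSup_induction D (motive := fun y => polar Q (x - ∑ i, pr hD i x) y = 0) hy
    (fun l y hl => ?_) (polar_zero_right Q _) (fun a b ha hb => by rw [polar_add_right, ha, hb, add_zero])
  rw [polar_sub_left, show polar Q (∑ i, pr hD i x) y = ∑ i, polar Q (pr hD i x) y from
    map_sum ((polarBilin Q).flip y) _ _, Finset.sum_eq_single l]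
  · rw [pr_polar hD hl, sub_self]
  · exact fun i _ hil => hD.orth i l hil _ (pr_mem hD i x) y hl
  · simp

theorem form_sum (x : V) : Q x = ∑ i, Q (pr hD i x) := by
  classical
  conv_lhs => rw [← sum_pr hD x]
  generalize (Finset.univ : Finset (Fin t)) = s
  induction s using Finset.induction with
  | empty => simp
  | insert a s ha ih =>
    rw [Finset.sum_insert ha, Finset.sum_insert ha, form_add, ih,
      show polar Q (pr hD a x) (∑ i ∈ s, pr hD i x) = 0 by
        rw [show polar Q (pr hD a x) (∑ i ∈ s, pr hD i x) = ∑ i ∈ s, polar Q (pr hD a x) (pr hD i x)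
          from map_sum (polarBilin Q (pr hD a x)) _ _]
        exact Finset.sum_eq_zero fun i hi => hD.orth a i (fun e => ha (e ▸ hi)) _ (pr_mem hD a x) _
          (pr_mem hD i x), add_zero]

theorem eq_pr_add_rest {j : Fin t} (x : V) {y : V} (hy : y ∈ D j) :
    polar Q (x - pr hD j x) y = 0 := by
  rw [polar_sub_left, pr_polar hD hy, sub_self]

variable {M : Subgroup (orth Q)} (hM : ∀ h ∈ eichGroup Q, Perm D h → h ∈ M)
include hM

theorem eich_mem {i : Fin t} {c b : V} (hc : c ∈ D i) (hb : b ∈ D i) (hcQ : Q c = 0)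
    (hcb : polar Q c b = 0) : eich Q c b ∈ M := by
  refine hM _ (eich_mem_eichGroup _ _) fun l => ⟨l, fun x hx => ?_⟩
  rw [eich_apply hcQ hcb]
  by_cases h : i = l
  · subst h
    exact sub_mem (sub_mem (add_mem hx ((D i).smul_mem _ hb)) ((D i).smul_mem _ hc))
      ((D i).smul_mem _ hc)
  · rw [hD.orth i l h c hc x hx, hD.orth i l h b hb x hx]; simpa using hx

theorem perm_rf {i : Fin t} {x : V} (hx : x ∈ D i) (l : Fin t) :
    ∀ y ∈ D l, (rf Q x).1 y ∈ D l := by
  intro y hy
  rw [rf_apply]
  by_cases h : i = l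
  · subst h; exact sub_mem hy ((D i).smul_mem _ hx)
  · rw [hD.orth i l h x hx y hy]; simpa using hy

theorem rf_pair_mem {i l : Fin t} {x y : V} (hx : x ∈ D i) (hy : y ∈ D l) (hxQ : Q x ≠ 0)
    (he : Q x = Q y) : rf Q x * rf Q y ∈ M :=
  hM _ (rf_mul_rf_mem hD.nd hD.big hxQ he) fun m => ⟨m, fun z hz => by
    rw [coe_mul_apply]; exact perm_rf hD hM hx m _ (perm_rf hD hM hy m z hz)⟩

/-- A root element mixing the member of its centre with the rest. -/
def Mixed (M : Subgroup (orth Q)) (D : Fin t → Submodule F V) : Prop :=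
  ∃ (j : Fin t) (a z : V) (ha : Q a = 0), a ∈ D j ∧ a ≠ 0 ∧ z ≠ 0 ∧
    (∀ x ∈ D j, polar Q z x = 0) ∧ z ∈ A M a ha

/-- Centre component anisotropic: a plane of `A` gives a mixed element. -/
theorem mixed_of_plane {u : V} (hu : Q u = 0) {j : Fin t} (hj : Q (pr hD j u) ≠ 0)
    (hP : cut Q (D j) (pr hD j u) ≤ A M u hu) : Mixed M D := by
  set uj := pr hD j u with huj
  have hujD := pr_mem hD j u
  set r := u - uj with hr
  have hrD : ∀ x ∈ D j, polar Q r x = 0 := fun x hx => eq_pr_add_rest hD u hx
  have hPd : 0 < Module.finrank F (cut Q (D j) uj) := by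
    have := finrank_cut (Q := Q) (D j) uj
    have := hD.dim j
    have := hD.three
    omega
  obtain ⟨y, hy, hyQ⟩ := exists_aniso hD.two (nd_cut hD.two (hD.ndOn j) hujD hj) hPd
  obtain ⟨a, ha, haQ, hau⟩ : ∃ a ∈ D j, Q a = 0 ∧ polar Q u a ≠ 0 := by
    by_contra hc
    simp only [not_exists, not_and, not_not] at hc
    have := le_of_singular hD.two (hD.ndOn j) (by rw [hD.dim]; exact hD.three)
      (T := LinearMap.ker (polarBilin Q u)) (fun x hx hxQ => hc x hx hxQ) hujD
    have h' : polar Q u uj = 0 := this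
    rw [← pr_polar hD hujD, ← huj, polar_self_eq] at h'
    exact mul_ne_zero hD.two hj h'
  obtain ⟨y, hy, hn⟩ : ∃ y ∈ cut Q (D j) uj, -polar Q y a - Q y * polar Q u a ≠ 0 := by
    by_cases h : -polar Q y a - Q y * polar Q u a = 0
    · refine ⟨-y, neg_mem hy, fun h' => mul_ne_zero (mul_ne_zero hD.two hyQ) hau ?_⟩
      rw [polar_neg_left, QuadraticMap.map_neg] at h'
      linear_combination -h - h'
    · exact ⟨y, hy, h⟩
  set n := -polar Q y a - Q y * polar Q u a
  have huy : polar Q u y = 0 := (hP hy).1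
  have hk : eich Q u y ∈ M := by simpa using (hP hy).2 1
  set v := n⁻¹ • (eich Q u y).1 a with hv
  set vj := v - r with hvj
  have hvjD : vj ∈ D j := by
    have e0 : (eich Q u y).1 a = a + polar Q u a • y + n • u := by
      rw [eich_apply hu huy]; simp only [n]; module
    have e : vj = n⁻¹ • (a + polar Q u a • y + n • uj) := by
      rw [hvj, hv, e0, hr]
      simp only [smul_add, inv_smul_smul₀ hn]
      abel
    rw [e]
    exact (D j).smul_mem _ (add_mem (add_mem ha ((D j).smul_mem _ hy.1)) ((D j).smul_mem _ hujD))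
  have hvv : vj + r = v := by rw [hvj, sub_add_cancel]
  have hQv : Q v = 0 := by rw [hv, form_smul, map_form, haQ, mul_zero]
  have hQeq : Q vj = Q uj := by
    have e1 : Q u = Q uj + Q r := by
      rw [show u = uj + r by rw [hr]; abel, form_add, polar_comm, hrD uj hujD, add_zero]
    rw [← hvv, form_add, polar_comm, hrD vj hvjD, add_zero] at hQv
    rw [hu] at e1
    linear_combination hQv + e1
  -- an element of `H` carrying `u` to `v`
  obtain ⟨g, hg, hgu, hgr, hgD⟩ : ∃ g ∈ M, g.1 uj = vj ∧ g.1 r = r ∧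
      ∀ x ∈ D j, g.1 x ∈ D j := by
    by_cases hd : Q (uj - vj) = 0
    · have hsum : Q (uj + vj) = (2 * 2) * Q vj := by
        rw [sub_eq_add_neg, form_add, QuadraticMap.map_neg, polar_neg_right, hQeq] at hd
        rw [form_add, hQeq]
        linear_combination -hd
      have hs : Q ((2 : F) • vj) = Q (uj + vj) := by rw [form_smul, hsum]
      have hne : Q (uj + vj) ≠ 0 := by
        rw [hsum]; exact mul_ne_zero (mul_ne_zero hD.two hD.two) (hQeq ▸ hj)
      refine ⟨rf Q ((2 : F) • vj) * rf Q (uj + vj), rf_pair_mem hD hM ((D j).smul_mem _ hvjD)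
        (add_mem hujD hvjD) (hs ▸ hne) hs, ?_, ?_, fun x hx => ?_⟩
      · rw [coe_mul_apply, show uj + vj = uj - (-vj) by abel,
          rf_sub_apply (by rw [QuadraticMap.map_neg, hQeq]) (by rwa [sub_neg_eq_add]),
          rf_smul hD.two, map_neg, rf_apply_self (hQeq ▸ hj), neg_neg]
      · rw [coe_mul_apply, rf_apply_of_polar (a := uj + vj)
            (by rw [polar_comm]; exact hrD _ (add_mem hujD hvjD)),
          rf_apply_of_polar (by rw [polar_comm]; exact hrD _ ((D j).smul_mem _ hvjD))]
      · rw [coe_mul_apply]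
        exact perm_rf hD hM ((D j).smul_mem _ hvjD) j _ (perm_rf hD hM (add_mem hujD hvjD) j x hx)
    · obtain ⟨s, hs, hsQ⟩ := exists_value hD.two
        (nd_cut hD.two (hD.ndOn j) hvjD (hQeq ▸ hj)) (by
          have := finrank_cut (Q := Q) (D j) vj
          have := hD.dim j
          have := hD.three
          omega) _ hd
      refine ⟨rf Q s * rf Q (uj - vj), rf_pair_mem hD hM hs.1 (sub_mem hujD hvjD) (hsQ ▸ hd) hsQ,
        ?_, ?_, fun x hx => ?_⟩
      · rw [coe_mul_apply, rf_sub_apply hQeq.symm hd,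
          rf_apply_of_polar (by rw [polar_comm]; exact hs.2)]
      · rw [coe_mul_apply, rf_apply_of_polar (a := uj - vj)
            (by rw [polar_comm]; exact hrD _ (sub_mem hujD hvjD)),
          rf_apply_of_polar (by rw [polar_comm]; exact hrD _ hs.1)]
      · rw [coe_mul_apply]
        exact perm_rf hD hM hs.1 j _ (perm_rf hD hM (sub_mem hujD hvjD) j x hx)
  have hgu' : g.1 u = v := by
    rw [show u = uj + r by rw [hr]; abel, map_add, hgu, hgr, hvv]
  set φ := (eich Q u y)⁻¹ * g with hφ
  have hφu : φ.1 u = n⁻¹ • a := by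
    rw [hφ, coe_mul_apply, hgu', hv, map_smul, coe_inv_apply_apply]
  set z₀ := g⁻¹.1 ((eich Q u y).1 r) with hz₀
  have hφz : φ.1 z₀ = r := by
    rw [hφ, coe_mul_apply, hz₀, coe_apply_inv_apply, coe_inv_apply_apply]
  -- `z₀` lies in `D j + F r`
  have hginv : ∀ x ∈ D j, g⁻¹.1 x ∈ D j := by
    let gr : D j →ₗ[F] D j := g.1.toLinearMap.restrict hgD
    have hinj : Function.Injective gr := fun p q hpq =>
      Subtype.ext (g.1.injective (congrArg Subtype.val hpq))
    intro x hx
    obtain ⟨⟨x', hx'⟩, hxx⟩ := LinearMap.injective_iff_surjective.mp hinj ⟨x, hx⟩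
    rw [← show g.1 x' = x from congrArg Subtype.val hxx, coe_inv_apply_apply]
    exact hx'
  obtain ⟨d, hd, γ, hz₀e⟩ : ∃ d ∈ D j, ∃ γ : F, z₀ = d + γ • r := by
    set β := polar Q u r
    set γ := 1 - polar Q y r - Q y * β
    have e : (eich Q u y).1 r = (β • y + (γ - 1) • uj) + γ • r := by
      rw [eich_apply hu huy, show u = uj + r by rw [hr]; abel]
      simp only [γ, β, show uj + r = u by rw [hr]; abel]
      module
    refine ⟨g⁻¹.1 (β • y + (γ - 1) • uj), hginv _ (add_mem ((D j).smul_mem _ hy.1)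
      ((D j).smul_mem _ hujD)), γ, ?_⟩
    have hgr' : g⁻¹.1 r = r := by
      conv_lhs => rw [← hgr]
      exact coe_inv_apply_apply _ _
    rw [hz₀, e, map_add, map_smul, hgr']
  have hua : polar Q u a ≠ 0 := hau
  have hz₀A : z₀ ∈ A M u hu := by
    have huz₀ : polar Q u z₀ = 0 := by
      rw [← map_polar φ, hφu, hφz, polar_smul_left, polar_comm, hrD a ha, smul_zero]
    have hP' : z₀ - γ • u ∈ cut Q (D j) uj := by
      have e : z₀ - γ • u = d - γ • uj := by rw [hz₀e, hr]; module
      rw [mem_cut, e]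
      refine ⟨sub_mem hd ((D j).smul_mem _ hujD), ?_⟩
      have hmem := sub_mem hd ((D j).smul_mem γ hujD)
      show polar Q (pr hD j u) (d - γ • pr hD j u) = 0
      rw [pr_polar hD hmem, ← huj, ← e, polar_sub_right, huz₀, polar_smul_right, polar_self_eq, hu]
      simp
    have huA : u ∈ A M u hu := ⟨by rw [polar_self_eq, hu, mul_zero], fun c => by
      have e : eich Q u (c • u) = 1 := orth_ext fun x => by
        rw [eich_apply hu (by rw [polar_smul_right, polar_self_eq, hu]; simp), form_smul, hu,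
          polar_smul_left]
        simp [smul_smul, mul_comm]
      rw [e]; exact one_mem M⟩
    simpa using add_mem (hP hP') ((A M u hu).smul_mem γ huA)
  have hφM : φ ∈ M := mul_mem (inv_mem hk) hg
  have h := map_A hφM hz₀A
  simp only [mem_A, hφu, hφz] at h
  have hn0 : n⁻¹ ≠ 0 := inv_ne_zero hn
  have har : polar Q a r = 0 := by rw [polar_comm]; exact hrD a ha
  refine ⟨j, a, r, haQ, ha, fun h0 => hau (by rw [h0, polar_zero_right]), fun h0 => ?_, hrD,
    har, fun c => ?_⟩
  · rw [h0] at hr
    have : u = uj := sub_eq_zero.mp hr.symm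
    exact hj (by rw [← this]; exact hu)
  · have h' := h.2 (n * c)
    rwa [eich_smul_left haQ (by rw [polar_smul_right, har, smul_zero]), smul_smul, ← mul_assoc,
      inv_mul_cancel₀ hn, one_mul] at h'

/-- An anisotropic centre component with an independent partner component. -/
theorem mixed_of_aniso {u w : V} (hu : Q u = 0) (hw : w ∈ A M u hu) {j : Fin t}
    (hj : Q (pr hD j u) ≠ 0) (hwj : pr hD j w ∉ Submodule.span F {pr hD j u}) : Mixed M D := by
  refine mixed_of_plane hD hM hu hj ?_
  set uj := pr hD j u with huj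
  have hujD := pr_mem hD j u
  set P := cut Q (D j) uj
  have hPnd : Nd Q P := nd_cut hD.two (hD.ndOn j) hujD hj
  have huP : ∀ s ∈ P, polar Q u s = 0 := fun s hs => by
    rw [← pr_polar hD hs.1]; exact hs.2
  -- `w` is seen by `P`
  have huu : polar Q uj uj ≠ 0 := by rw [polar_self_eq]; exact mul_ne_zero hD.two hj
  set w₀ := pr hD j w - (polar Q uj (pr hD j w) / polar Q uj uj) • uj with hw₀
  have hw₀P : w₀ ∈ P := ⟨sub_mem (pr_mem hD j w) ((D j).smul_mem _ hujD), by
    show polar Q uj w₀ = 0
    rw [hw₀, polar_sub_right, polar_smul_right, smul_eq_mul, div_mul_cancel₀ _ huu, sub_self]⟩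
  have hw₀0 : w₀ ≠ 0 := fun h => hwj (Submodule.mem_span_singleton.mpr ⟨_, (sub_eq_zero.mp h).symm⟩)
  obtain ⟨s, hs, hs1⟩ := exists_pair_ne hD.two hPnd hw₀P hw₀0
  have hsee : ∀ s ∈ P, polar Q w₀ s = polar Q w s := fun s hs => by
    rw [hw₀, polar_sub_left, polar_smul_left, pr_polar hD hs.1,
      show polar Q uj s = 0 from hs.2, smul_zero, sub_zero]
  rcases le_or_gt 5 k with hk | hk
  · refine spread hD.two hPnd (by
      have : Module.finrank F (D j) ≤ Module.finrank F P + 1 := finrank_cut (Q := Q) (D j) uj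
      have := hD.dim j
      omega) hu huP (fun c hc b hb hcQ hcb => eich_mem hD hM hc.1 hb.1 hcQ hcb) hw
      ⟨s, hs, by rw [← hsee s hs, hs1]; exact one_ne_zero⟩
  -- small members: reflections, with the help of a second anisotropic component
  have hF : 4 ≤ Nat.card F := hD.small.resolve_right (by omega)
  have avoid : ∀ a b : F, ∃ c : F, c ≠ 0 ∧ c ≠ a ∧ c ≠ b := by
    intro a b
    classical
    haveI := Fintype.ofFinite F
    obtain ⟨c, hc⟩ := Finset.exists_mem_notMem_of_card_lt_card (s := ({0, a, b} : Finset F))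
      (t := Finset.univ) (Finset.card_le_three.trans_lt (by
        rw [Finset.card_univ, ← Nat.card_eq_fintype_card]; omega))
    simp only [Finset.mem_univ, true_and, Finset.mem_insert, Finset.mem_singleton, not_or] at hc
    exact ⟨c, hc⟩
  obtain ⟨l, hlj, hl⟩ : ∃ l, l ≠ j ∧ Q (pr hD l u) ≠ 0 := by
    by_contra hc
    simp only [not_exists, not_and, not_not] at hc
    refine hj ?_
    have := form_sum hD u
    rw [hu, Finset.sum_eq_single j (fun l _ h => hc l h) (by simp)] at this
    exact this.symm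
  have hL : Nd Q (cut Q (D l) (pr hD l u)) := nd_cut hD.two (hD.ndOn l) (pr_mem hD l u) hl
  have hLd : 2 ≤ Module.finrank F (cut Q (D l) (pr hD l u)) := by
    have := finrank_cut (Q := Q) (D l) (pr hD l u)
    have := hD.dim l
    have := hD.three
    omega
  have refl : ∀ x ∈ P, Q x ≠ 0 → ∀ x' ∈ cut Q (D l) (pr hD l u), Q x = Q x' →
      ∀ z ∈ A M u hu, (rf Q x * rf Q x').1 z ∈ A M u hu := by
    intro x hx hxQ x' hx' he z hz
    have h := map_A (rf_pair_mem hD hM hx.1 hx'.1 hxQ he) hz
    have e : (rf Q x * rf Q x').1 u = u := by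
      rw [coe_mul_apply, rf_apply_of_polar (a := x')
          (by rw [polar_comm, ← pr_polar hD hx'.1]; exact hx'.2),
        rf_apply_of_polar (by rw [polar_comm]; exact huP x hx)]
    simp only [mem_A, e] at h
    exact h
  -- a non-zero element of `A` in `P`
  obtain ⟨z, hz, hzP, hz0⟩ : ∃ z, z ∈ A M u hu ∧ z ∈ P ∧ z ≠ 0 := by
    obtain ⟨x, hx, hxQ, hxw⟩ : ∃ x ∈ P, Q x ≠ 0 ∧ polar Q w x ≠ 0 := by
      by_cases h : Q w₀ = 0
      · obtain ⟨c, hc0, hc1, -⟩ := avoid (-Q s) 0
        refine ⟨s + c • w₀, add_mem hs (P.smul_mem _ hw₀P), ?_, ?_⟩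
        · rw [form_add, form_smul, h, polar_smul_right, polar_comm, hs1]
          simp only [smul_eq_mul, mul_one, mul_zero, add_zero]
          exact fun e => hc1 (eq_neg_of_add_eq_zero_right e)
        · rw [← hsee _ (add_mem hs (P.smul_mem _ hw₀P)), polar_add_right, polar_smul_right, hs1,
            polar_self_eq, h]
          simp
      · exact ⟨w₀, hw₀P, h, by
          rw [← hsee _ hw₀P, polar_self_eq]; exact mul_ne_zero hD.two h⟩
    obtain ⟨y₀, hy₀, hy₀Q⟩ := exists_aniso hD.two (nd_cut hD.two hPnd hx hxQ) (by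
      have := finrank_cut (Q := Q) P x
      have : Module.finrank F (D j) ≤ Module.finrank F P + 1 := finrank_cut (Q := Q) (D j) uj
      have := hD.dim j
      have := hD.three
      omega)
    obtain ⟨μ, hμ0, hμ⟩ : ∃ μ : F, μ ≠ 0 ∧ Q x + μ * μ * Q y₀ ≠ 0 := by
      by_contra hc
      simp only [not_exists, not_and, not_not] at hc
      obtain ⟨c, hc0, hc1, hc2⟩ := avoid 1 (-1)
      have h1 := hc 1 one_ne_zero
      have h3 := hc c hc0
      have : (c * c - 1) * Q y₀ = 0 := by linear_combination h3 - h1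
      rcases mul_self_eq_one_iff.mp
        (sub_eq_zero.mp ((mul_eq_zero.mp this).resolve_right hy₀Q)) with h | h
      · exact hc1 h
      · exact hc2 h
    set v := x + μ • y₀
    have hvP : v ∈ P := add_mem hx (P.smul_mem _ hy₀.1)
    have hxy : polar Q x y₀ = 0 := hy₀.2
    have hvQ : Q v ≠ 0 := by
      rw [form_add, form_smul, polar_smul_right, hxy, smul_zero, add_zero]; exact hμ
    set x₁ := (rf Q v).1 x with hx₁
    have hx₁P : x₁ ∈ P := by rw [hx₁, rf_apply]; exact sub_mem hx (P.smul_mem _ hvP)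
    have hx₁Q : Q x₁ = Q x := by rw [hx₁, map_form]
    obtain ⟨x', hx', hx'Q⟩ := exists_value hD.two hL hLd (Q x) hxQ
    have h1 := refl x hx hxQ x' hx' hx'Q.symm w hw
    have h3 := refl x₁ hx₁P (hx₁Q ▸ hxQ) x' hx' (by rw [hx₁Q, hx'Q]) w hw
    have hxx' : polar Q x x' = 0 := hD.orth j l hlj.symm x hx.1 x' hx'.1
    have hx₁x' : polar Q x₁ x' = 0 := hD.orth j l hlj.symm x₁ hx₁P.1 x' hx'.1
    set β := (Q x)⁻¹ * polar Q x w
    set β₁ := (Q x)⁻¹ * polar Q x₁ w
    refine ⟨β₁ • x₁ - β • x, ?_, sub_mem (P.smul_mem _ hx₁P) (P.smul_mem _ hx), fun h0 => ?_⟩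
    · convert! sub_mem h1 h3 using 1
      simp only [coe_mul_apply, rf_apply, polar_sub_right, polar_smul_right, hxx', hx₁x', hx₁Q,
        smul_zero, sub_zero, β, β₁]
      module
    · -- `x` and `x₁` are independent
      have e : x₁ = x - ((Q v)⁻¹ * polar Q v x) • v := by rw [hx₁, rf_apply]
      have hvx : polar Q v x ≠ 0 := by
        rw [polar_add_left, polar_smul_left, polar_comm Q y₀, hxy, smul_zero, add_zero,
          polar_self_eq]
        exact mul_ne_zero hD.two hxQ
      have e2 := congrArg (fun z => polar Q y₀ z) h0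
      simp only [e, v, polar_sub_right, polar_smul_right, polar_add_right, polar_comm Q y₀ x, hxy,
        polar_self_eq, polar_zero_right, smul_eq_mul, mul_zero, zero_add, zero_sub, sub_zero] at e2
      have hβ₁ : β₁ = 0 := by
        have h4 : β₁ * ((Q v)⁻¹ * polar Q v x * (μ * (2 * Q y₀))) = 0 := by
          linear_combination -e2
        exact (mul_eq_zero.mp h4).resolve_right (mul_ne_zero (mul_ne_zero (inv_ne_zero hvQ) hvx)
          (mul_ne_zero hμ0 (mul_ne_zero hD.two hy₀Q)))
      rw [hβ₁, zero_smul, zero_sub, neg_eq_zero] at h0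
      have hx0 : x ≠ 0 := fun h => hxQ (by rw [h, QuadraticMap.map_zero])
      have hβ : β ≠ 0 := mul_ne_zero (inv_ne_zero hxQ) (by rwa [polar_comm])
      exact hx0 ((smul_eq_zero.mp h0).resolve_left hβ)
  have good : ∀ x ∈ P, Q x ≠ 0 → polar Q x z ≠ 0 → x ∈ A M u hu := by
    intro x hx hxQ hxz
    obtain ⟨x', hx', hx'Q⟩ := exists_value hD.two hL hLd (Q x) hxQ
    have h1 := sub_mem (refl x hx hxQ x' hx' hx'Q.symm z hz) hz
    rw [coe_mul_apply, rf_apply_of_polar (a := x')
      (hD.orth l j hlj x' hx'.1 z hzP.1), rf_apply, sub_sub_cancel_left, ← neg_smul] at h1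
    exact ((A M u hu).smul_mem_iff (neg_ne_zero.mpr (mul_ne_zero (inv_ne_zero hxQ) hxz))).mp h1
  obtain ⟨x, hx, hxQ, hxz⟩ : ∃ x ∈ P, Q x ≠ 0 ∧ polar Q x z ≠ 0 := by
    by_cases h : Q z = 0
    · obtain ⟨y, hy, hzy⟩ := exists_pair_ne hD.two hPnd hzP hz0
      obtain ⟨c, -, hc1, -⟩ := avoid (-Q y) 0
      refine ⟨y + c • z, add_mem hy (P.smul_mem _ hzP), ?_, ?_⟩
      · rw [form_add, form_smul, h, polar_smul_right, polar_comm, hzy]
        simp only [smul_eq_mul, mul_one, mul_zero, add_zero]
        exact fun e => hc1 (eq_neg_of_add_eq_zero_right e)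
      · rw [polar_add_left, polar_smul_left, polar_self_eq, h, polar_comm, hzy]; simp
    · exact ⟨z, hzP, h, by rw [polar_self_eq]; exact mul_ne_zero hD.two h⟩
  intro p hp
  obtain ⟨p', hp', hp'z, hpp⟩ : ∃ p' ∈ P, polar Q p' z = 0 ∧
      p = p' + (polar Q p z / polar Q x z) • x :=
    ⟨p - (polar Q p z / polar Q x z) • x, sub_mem hp (P.smul_mem _ hx), by
      rw [polar_sub_left, polar_smul_left, smul_eq_mul, div_mul_cancel₀ _ hxz, sub_self],
      (sub_add_cancel _ _).symm⟩
  obtain ⟨c, hc0, hcQ⟩ : ∃ c : F, c ≠ 0 ∧ Q (p' + c • x) ≠ 0 := by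
    by_contra hc
    simp only [not_exists, not_and, not_not] at hc
    have e : ∀ c : F, c ≠ 0 → Q p' + c * c * Q x + c * polar Q p' x = 0 := fun c hc0 => by
      have := hc c hc0
      rwa [form_add, form_smul, polar_smul_right, smul_eq_mul] at this
    obtain ⟨c, hc0, hc1, hc2⟩ := avoid 1 (-1)
    have h1 := e 1 one_ne_zero
    have h3 := e (-1) (neg_ne_zero.mpr one_ne_zero)
    have hB : polar Q p' x = 0 := by
      have : 2 * polar Q p' x = 0 := by linear_combination h1 - h3
      exact (mul_eq_zero.mp this).resolve_left hD.two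
    have h4 : (c * c - 1) * Q x = 0 := by linear_combination e c hc0 - h1 - (c - 1) * hB
    rcases mul_self_eq_one_iff.mp
      (sub_eq_zero.mp ((mul_eq_zero.mp h4).resolve_right hxQ)) with h | h
    · exact hc1 h
    · exact hc2 h
  have h1 := good _ (add_mem hp' (P.smul_mem c hx)) hcQ (by
    rw [polar_add_left, polar_smul_left, hp'z, zero_add]; exact mul_ne_zero hc0 hxz)
  have hxA := good x hx hxQ hxz
  rw [hpp]
  have := add_mem (sub_mem h1 ((A M u hu).smul_mem c hxA))
    ((A M u hu).smul_mem (polar Q p z / polar Q x z) hxA)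
  rwa [add_sub_cancel_right] at this

/-- A component of the partner where the centre has none. -/
theorem mixed_of_zero {u w : V} (hu : Q u = 0) (hu0 : u ≠ 0) (hw : w ∈ A M u hu) {i : Fin t}
    (hi : pr hD i u = 0) (hwi : pr hD i w ≠ 0) : Mixed M D := by
  have huD : ∀ s ∈ D i, polar Q u s = 0 := fun s hs => by
    rw [← pr_polar hD hs, hi, polar_zero_left]
  obtain ⟨s, hs, hne⟩ := exists_pair_ne hD.two (hD.ndOn i) (pr_mem hD i w) hwi
  have hle := spread hD.two (hD.ndOn i) (by rw [hD.dim]; exact hD.three) hu huD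
    (fun c hc b hb hcQ hcb => eich_mem hD hM hc hb hcQ hcb) hw
    ⟨s, hs, by rw [← pr_polar hD hs, hne]; exact one_ne_zero⟩
  obtain ⟨c, hc, hcQ, hc0, -⟩ := exists_hyper hD.two (hD.ndOn i) (by rw [hD.dim]; exact hD.three)
  have huc : polar Q u c = 0 := huD c hc
  refine ⟨i, c, u, hcQ, hc, hc0, hu0, huD, by rw [polar_comm]; exact huc, fun r => ?_⟩
  have e : eich Q c (r • u) = eich Q u ((-r) • c) := orth_ext fun x => by
    rw [eich_apply hcQ (by rw [polar_smul_right, polar_comm, huc, smul_zero]),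
      eich_apply hu (by rw [polar_smul_right, huc, smul_zero]), form_smul, form_smul, hu, hcQ,
      polar_smul_left, polar_smul_left]
    simp only [smul_eq_mul]
    module
  rw [e]
  exact (hle hc).2 (-r)

/-- A singular centre component with an anisotropic orthogonal partner component. -/
theorem mixed_of_singular {u w : V} (hu : Q u = 0) (hw : w ∈ A M u hu) {j : Fin t}
    (hj : Q (pr hD j u) = 0) (hj0 : pr hD j u ≠ 0) (hne : pr hD j u ≠ u)
    (hwj : Q (pr hD j w) ≠ 0) (hperp : polar Q (pr hD j u) (pr hD j w) = 0) : Mixed M D := by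
  set a := pr hD j u with ha
  set b := pr hD j w with hb
  have haD := pr_mem hD j u
  have hbD := pr_mem hD j w
  have hua : polar Q u a = 0 := by rw [← pr_polar hD haD, ← ha, polar_self_eq, hj, mul_zero]
  have hwa : polar Q w a = 0 := by rw [← pr_polar hD haD, ← hb, polar_comm]; exact hperp
  have hub : polar Q u b = 0 := by rw [← pr_polar hD hbD, ← ha]; exact hperp
  have hk : eich Q u w ∈ M := by simpa using hw.2 1
  have h1 : (eich Q u w).1 a = a := by rw [eich_apply hu hw.1, hua, hwa]; simp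
  have h3 : (eich Q u w).1 b = b - (2 * Q b) • u := by
    rw [eich_apply hu hw.1, hub, ← pr_polar hD hbD, ← hb, polar_self_eq]; simp
  have hbA : b ∈ A M a hj := ⟨hperp, fun r => eich_mem hD hM haD ((D j).smul_mem r hbD) hj
    (by rw [polar_smul_right, hperp, smul_zero])⟩
  have haA : a ∈ A M a hj := ⟨by rw [polar_self_eq, hj, mul_zero], fun r => eich_mem hD hM haD
    ((D j).smul_mem r haD) hj (by rw [polar_smul_right, polar_self_eq, hj]; simp)⟩
  have h := map_A hk hbA
  simp only [mem_A, h1, h3] at h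
  have h4 := sub_mem hbA (show b - (2 * Q b) • u ∈ A M a hj from h)
  rw [sub_sub_cancel] at h4
  have huA := ((A M a hj).smul_mem_iff (mul_ne_zero hD.two hwj)).mp h4
  exact ⟨j, a, u - a, hj, haD, hj0, sub_ne_zero.mpr hne.symm, fun x hx => eq_pr_add_rest hD u hx,
    sub_mem huA haA⟩

/-- An element outside the stabiliser gives a mixed element. -/
theorem exists_mixed {g : orth Q} (hg : g ∈ M) (hgP : ¬ Perm D g) : Mixed M D := by
  simp only [Perm, not_forall] at hgP
  obtain ⟨l, hl⟩ := hgP
  simp only [not_exists] at hl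
  have hdl : 3 ≤ Module.finrank F (D l) := by rw [hD.dim]; exact hD.three
  -- root data at the image of a singular point
  have data : ∀ p ∈ D l, ∀ (hp : Q p = 0), ∀ q ∈ D l, polar Q p q = 0 →
      g.1 q ∈ A M (g.1 p) (by rw [map_form, hp]) :=
    fun p hp hpQ q hq hpq => map_A (u := p) (hu := hpQ) hg
      ⟨hpq, fun r => eich_mem hD hM hp ((D l).smul_mem r hq) hpQ
        (by rw [polar_smul_right, hpq, smul_zero])⟩
  by_cases hall : ∀ p ∈ D l, Q p = 0 → ∀ j, Q (pr hD j (g.1 p)) = 0
  swap
  · simp only [not_forall] at hall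
    obtain ⟨p, hp, hpQ, j, hj⟩ := hall
    have hp0 : p ≠ 0 := fun h => hj (by
      rw [h, map_zero, show pr hD j 0 = 0 from map_zero (prL hD j), QuadraticMap.map_zero])
    obtain ⟨f, hf, hfQ, hpf⟩ := exists_partner_in hD.two (hD.ndOn l) hp hpQ hp0
    have hT := nd_cut_pair hD.two (hD.ndOn l) hp hf hpQ hfQ hpf
    have hTd : Module.finrank F (D l) ≤ Module.finrank F (cut Q (cut Q (D l) p) f) + 2 := by
      have := finrank_cut (Q := Q) (D l) p
      have := finrank_cut (Q := Q) (cut Q (D l) p) f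
      omega
    set c₀ := Q (pr hD j (g.1 p))
    obtain ⟨q, hq, hqQ, hq1⟩ : ∃ q ∈ cut Q (cut Q (D l) p) f, Q q ≠ 0 ∧ Q q * c₀ ≠ 1 := by
      rcases le_or_gt 5 k with hk | hk
      · obtain ⟨q, hq, hqc⟩ := exists_value hD.two hT (by rw [hD.dim] at hTd; omega) (2 / c₀)
          (div_ne_zero hD.two hj)
        refine ⟨q, hq, hqc ▸ div_ne_zero hD.two hj, fun h => one_ne_zero (α := F) ?_⟩
        rw [hqc, div_mul_cancel₀ _ hj] at h
        linear_combination h
      · obtain ⟨q, hq, hqQ⟩ := exists_aniso hD.two hT (by omega)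
        by_cases h1 : Q q * c₀ = 1
        · classical
          haveI := Fintype.ofFinite F
          have hF : 4 ≤ Nat.card F := hD.small.resolve_right (by omega)
          obtain ⟨c, hc⟩ := Finset.exists_mem_notMem_of_card_lt_card
            (s := ({0, 1, -1} : Finset F)) (t := Finset.univ) (Finset.card_le_three.trans_lt (by
              rw [Finset.card_univ, ← Nat.card_eq_fintype_card]; omega))
          simp only [Finset.mem_univ, true_and, Finset.mem_insert, Finset.mem_singleton,
            not_or] at hc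
          refine ⟨c • q, Submodule.smul_mem _ _ hq, ?_, fun h => ?_⟩
          · rw [form_smul]; exact mul_ne_zero (mul_ne_zero hc.1 hc.1) hqQ
          · rw [form_smul, mul_assoc, h1, mul_one] at h
            exact (mul_self_eq_one_iff.mp h).elim hc.2.1 hc.2.2
        · exact ⟨q, hq, hqQ, h1⟩
    set u := g.1 p with hu'
    set w := g.1 q with hw'
    have hu : Q u = 0 := by rw [hu', map_form, hpQ]
    have hw : w ∈ A M u hu := data p hp hpQ q hq.1.1 hq.1.2
    have hwQ : Q w = Q q := by rw [hw', map_form]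
    set uj := pr hD j u with huj
    by_cases hwj : pr hD j w ∈ Submodule.span F {uj}
    swap
    · exact mixed_of_aniso hD hM hu hw hj hwj
    -- move to a new pair
    obtain ⟨c, hc⟩ := Submodule.mem_span_singleton.mp hwj
    have hujD := pr_mem hD j u
    obtain ⟨p', hp', hp'Q, hs⟩ : ∃ p' ∈ D j, Q p' = 0 ∧ polar Q u p' ≠ 0 := by
      by_contra hc'
      simp only [not_exists, not_and, not_not] at hc'
      have := le_of_singular hD.two (hD.ndOn j) (by rw [hD.dim]; exact hD.three)
        (T := LinearMap.ker (polarBilin Q u)) (fun x hx hxQ => hc' x hx hxQ) hujD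
      have h' : polar Q u uj = 0 := this
      rw [← pr_polar hD hujD, ← huj, polar_self_eq] at h'
      exact mul_ne_zero hD.two hj h'
    have hp'0 : p' ≠ 0 := fun h => hs (by rw [h, polar_zero_right])
    obtain ⟨f', hf', hf'Q, hpf'⟩ := exists_partner_in hD.two (hD.ndOn j) hp' hp'Q hp'0
    obtain ⟨q', hq', hq'Q⟩ := exists_aniso hD.two
      (nd_cut_pair hD.two (hD.ndOn j) hp' hf' hp'Q hf'Q hpf') (by
        have h1 := finrank_cut (Q := Q) (D j) p'
        have h3 := finrank_cut (Q := Q) (cut Q (D j) p') f'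
        have := hD.dim j
        have := hD.three
        omega)
    have hk : eich Q u w ∈ M := by simpa using hw.2 1
    have himg : ∀ x ∈ D j, pr hD j ((eich Q u w).1 x) = x - (Q w * polar Q u x) • uj := by
      intro x hx
      have e : polar Q w x = c * polar Q u x := by
        rw [← pr_polar hD hx, ← hc, polar_smul_left, smul_eq_mul, huj, pr_polar hD hx]
      rw [eich_apply hu hw.1, pr_sub, pr_sub, pr_add, pr_smul, pr_smul, pr_smul, pr_self hD hx,
        ← huj, ← hc, e]
      module
    have hA' : (eich Q u w).1 q' ∈ A M ((eich Q u w).1 p') (by rw [map_form, hp'Q]) :=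
      map_A (u := p') (hu := hp'Q) hk ⟨hq'.1.2, fun r => eich_mem hD hM hp'
        ((D j).smul_mem r hq'.1.1) hp'Q (by
          rw [polar_smul_right, show polar Q p' q' = 0 from hq'.1.2, smul_zero])⟩
    have hps : polar Q uj p' = polar Q u p' := pr_polar hD hp' u
    refine mixed_of_aniso hD hM _ hA' (j := j) ?_ ?_
    · rw [himg p' hp', sub_eq_add_neg, ← neg_smul, form_add, form_smul, hp'Q, polar_smul_right,
        polar_comm Q p', hps, smul_eq_mul, hwQ]
      intro h
      have h3 : polar Q u p' * polar Q u p' * Q q * (Q q * c₀ - 1) = 0 := by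
        linear_combination h
      exact mul_ne_zero (mul_ne_zero (mul_ne_zero hs hs) hqQ) (sub_ne_zero.mpr hq1) h3
    · rw [himg p' hp', himg q' hq'.1.1]
      intro hm
      obtain ⟨r, hr⟩ := Submodule.mem_span_singleton.mp hm
      have hpp' : polar Q p' p' = 0 := by rw [polar_self_eq, hp'Q, mul_zero]
      set μ := Q w * polar Q u q' - r * (Q w * polar Q u p')
      have e : q' - r • p' = μ • uj := by
        rw [← sub_eq_zero, ← sub_eq_zero.mpr hr.symm]; module
      have e1 := congrArg (polar Q p') e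
      rw [polar_sub_right, polar_smul_right, hpp', show polar Q p' q' = 0 from hq'.1.2,
        polar_smul_right, polar_comm Q p' uj, hps] at e1
      have hμ : μ = 0 := by simpa [hs] using e1.symm
      rw [hμ, zero_smul, sub_eq_zero] at e
      exact hq'Q (by rw [e, form_smul, hp'Q, mul_zero])
  -- every image component is singular
  obtain ⟨p, hp, hpQ, hp0, f, hf, hfQ, hpf⟩ := exists_hyper hD.two (hD.ndOn l) hdl
  have hT := nd_cut_pair hD.two (hD.ndOn l) hp hf hpQ hfQ hpf
  set T := cut Q (cut Q (D l) p) f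
  have hTd : Module.finrank F (D l) ≤ Module.finrank F T + 2 := by
    have := finrank_cut (Q := Q) (D l) p
    have : Module.finrank F (cut Q (D l) p) ≤ Module.finrank F T + 1 :=
      finrank_cut (Q := Q) (cut Q (D l) p) f
    omega
  let B' : Fin t → V → V → F := fun j x y => polar Q (pr hD j (g.1 x)) (pr hD j (g.1 y))
  have B'add : ∀ j x y, Q (pr hD j (g.1 (x + y))) =
      Q (pr hD j (g.1 x)) + Q (pr hD j (g.1 y)) + B' j x y := fun j x y => by
    rw [map_add, pr_add, form_add]
  have B'smul : ∀ (j : Fin t) (c : F) (x : V), Q (pr hD j (g.1 (c • x))) =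
      c * c * Q (pr hD j (g.1 x)) := fun j c x => by rw [map_smul, pr_smul, form_smul]
  -- singular points give linear relations
  have poly : ∀ e ∈ T, ∀ j, B' j p e = 0 ∧
      Q (pr hD j (g.1 e)) = Q e * B' j p f ∧ B' j e f = 0 := by
    intro e he j
    have hpe : polar Q p e = 0 := he.1.2
    have hfe : polar Q f e = 0 := he.2
    have key : ∀ r : F, r * B' j p e + (r * r) * (Q (pr hD j (g.1 e)) - Q e * B' j p f) -
        (r * r * r) * Q e * B' j e f = 0 := by
      intro r
      set s := r * r * Q e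
      have hsing : Q ((p + r • e) + (-s) • f) = 0 := by
        rw [form_add, form_add, form_smul, form_smul, hpQ, hfQ, polar_add_left, polar_smul_right,
          polar_smul_left, polar_smul_right, polar_smul_right, hpe, polar_comm Q e f, hfe, hpf]
        simp [s]
      have h := hall _ (add_mem (add_mem hp ((D l).smul_mem _ he.1.1)) ((D l).smul_mem _ hf))
        hsing j
      rw [B'add, B'add, B'smul, B'smul, hall p hp hpQ j, hall f hf hfQ j] at h
      simp only [B', map_add, map_smul, pr_add, pr_smul, polar_add_left, polar_smul_left,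
        polar_smul_right, smul_eq_mul, s] at h ⊢
      linear_combination h
    have h1 := key 1
    have hm := key (-1)
    have hX : Q (pr hD j (g.1 e)) = Q e * B' j p f := by
      have : 2 * (Q (pr hD j (g.1 e)) - Q e * B' j p f) = 0 := by linear_combination h1 + hm
      exact sub_eq_zero.mp ((mul_eq_zero.mp this).resolve_left hD.two)
    refine ⟨?_, hX, ?_⟩
    · rcases le_or_gt 5 k with hk | hk
      · -- singular vectors of `T` span it
        have := le_of_singular hD.two hT (by rw [hD.dim] at hTd; omega)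
          (T := LinearMap.ker ((polarBilin Q (pr hD j (g.1 p))).comp
            ((prL hD j).comp g.1.toLinearMap))) (fun x hx hxQ => by
            show B' j p x = 0
            have hsing : Q (p + x) = 0 := by
              rw [form_add, hpQ, hxQ, show polar Q p x = 0 from hx.1.2]; simp
            have h := hall _ (add_mem hp hx.1.1) hsing j
            rw [B'add, hall p hp hpQ j, hall x hx.1.1 hxQ j] at h
            simpa using h) he
        exact this
      · classical
        haveI := Fintype.ofFinite F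
        have hF : 4 ≤ Nat.card F := hD.small.resolve_right (by omega)
        obtain ⟨r, hr⟩ := Finset.exists_mem_notMem_of_card_lt_card
          (s := ({0, 1, -1} : Finset F)) (t := Finset.univ) (Finset.card_le_three.trans_lt (by
            rw [Finset.card_univ, ← Nat.card_eq_fintype_card]; omega))
        simp only [Finset.mem_univ, true_and, Finset.mem_insert, Finset.mem_singleton,
          not_or] at hr
        have h3 : r * (r * r - 1) * (B' j p e) = 0 := by
          linear_combination r * r * r * h1 - key r + (r * r - r * r * r) * hX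
        refine (mul_eq_zero.mp h3).resolve_left (mul_ne_zero hr.1 (sub_ne_zero.mpr fun h => ?_))
        exact (mul_self_eq_one_iff.mp h).elim hr.2.1 hr.2.2
    · rcases le_or_gt 5 k with hk | hk
      · have := le_of_singular hD.two hT (by rw [hD.dim] at hTd; omega)
          (T := LinearMap.ker ((polarBilin Q (pr hD j (g.1 f))).comp
            ((prL hD j).comp g.1.toLinearMap))) (fun x hx hxQ => by
            show B' j f x = 0
            have hsing : Q (f + x) = 0 := by
              rw [form_add, hfQ, hxQ, show polar Q f x = 0 from hx.2]; simp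
            have h := hall _ (add_mem hf hx.1.1) hsing j
            rw [B'add, hall f hf hfQ j, hall x hx.1.1 hxQ j] at h
            simpa using h) he
        exact (polar_comm Q _ _).trans this
      · classical
        haveI := Fintype.ofFinite F
        have hF : 4 ≤ Nat.card F := hD.small.resolve_right (by omega)
        obtain ⟨r, hr⟩ := Finset.exists_mem_notMem_of_card_lt_card
          (s := ({0, 1, -1} : Finset F)) (t := Finset.univ) (Finset.card_le_three.trans_lt (by
            rw [Finset.card_univ, ← Nat.card_eq_fintype_card]; omega))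
        simp only [Finset.mem_univ, true_and, Finset.mem_insert, Finset.mem_singleton,
          not_or] at hr
        by_cases hQe : Q e = 0
        · have hsing : Q (f + e) = 0 := by rw [form_add, hfQ, hQe, hfe]; simp
          have h := hall _ (add_mem hf he.1.1) hsing j
          rw [B'add, hall f hf hfQ j, hall e he.1.1 hQe j, add_zero, zero_add] at h
          exact (polar_comm Q _ _).trans h
        have h3 : r * (r * r - 1) * Q e * B' j e f = 0 := by
          linear_combination r * h1 - key r + (r * r - r) * hX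
        refine (mul_eq_zero.mp h3).resolve_left (mul_ne_zero (mul_ne_zero hr.1
          (sub_ne_zero.mpr fun h => ?_)) hQe)
        exact (mul_self_eq_one_iff.mp h).elim hr.2.1 hr.2.2
  have hpu : Q (g.1 p) = 0 := by rw [map_form, hpQ]
  obtain ⟨j, hj⟩ : ∃ j, B' j p f ≠ 0 := by
    by_contra hc
    simp only [not_exists, not_not] at hc
    have h1 := form_sum hD (g.1 (p + f))
    rw [map_form, form_add, hpQ, hfQ, hpf, Finset.sum_eq_zero] at h1
    · simp at h1
    · intro i _
      rw [B'add, hall p hp hpQ i, hall f hf hfQ i, hc i]; simp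
  obtain ⟨e, he, heQ⟩ := exists_aniso hD.two hT (by omega)
  obtain ⟨he1, he2, he3⟩ := poly e he j
  by_cases hpin : pr hD j (g.1 p) = g.1 p
  swap
  · exact mixed_of_singular hD hM hpu (data p hp hpQ e he.1.1 he.1.2) (hall p hp hpQ j)
      (fun h => hj (by simp only [B', h, polar_zero_left])) hpin
      (by rw [he2]; exact mul_ne_zero heQ hj) he1
  by_cases hfin : pr hD j (g.1 f) = g.1 f
  swap
  · exact mixed_of_singular hD hM (u := g.1 f) (by rw [map_form, hfQ])
      (data f hf hfQ e he.1.1 he.2) (hall f hf hfQ j)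
      (fun h => hj (by simp only [B', h, polar_zero_right])) hfin
      (by rw [he2]; exact mul_ne_zero heQ hj) ((polar_comm Q _ _).trans he3)
  -- some orthogonal vector leaves `D j`
  obtain ⟨x, hx, hxj⟩ : ∃ x ∈ T, g.1 x ∉ D j := by
    by_contra hc
    simp only [not_exists, not_and, not_not] at hc
    refine hl j fun x hx => ?_
    set y := x - polar Q f x • p - polar Q p x • f with hy
    have hyT : y ∈ T := ⟨⟨sub_mem (sub_mem hx ((D l).smul_mem _ hp)) ((D l).smul_mem _ hf), by
      show polar Q p y = 0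
      rw [hy, polar_sub_right, polar_sub_right, polar_smul_right, polar_smul_right, hpf,
        polar_self_eq, hpQ]; simp⟩, by
      show polar Q f y = 0
      rw [hy, polar_sub_right, polar_sub_right, polar_smul_right, polar_smul_right,
        polar_comm Q f p, hpf, polar_self_eq, hfQ]; simp⟩
    rw [show x = y + polar Q f x • p + polar Q p x • f by rw [hy]; module, map_add, map_add,
      map_smul, map_smul]
    exact add_mem (add_mem (hc y hyT) ((D j).smul_mem _ (hpin ▸ pr_mem hD j _)))
      ((D j).smul_mem _ (hfin ▸ pr_mem hD j _))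
  obtain ⟨i, hij, hi⟩ : ∃ i, i ≠ j ∧ pr hD i (g.1 x) ≠ 0 := by
    by_contra hc
    simp only [not_exists, not_and, not_not] at hc
    refine hxj ?_
    have := sum_pr hD (g.1 x)
    rw [Finset.sum_eq_single j (fun i _ h => hc i h) (by simp)] at this
    exact this ▸ pr_mem hD j _
  exact mixed_of_zero hD hM hpu (fun h => hp0 (g.1.map_eq_zero_iff.mp h))
    (data p hp hpQ x hx.1.1 hx.1.2) (by rw [← hpin]; exact pr_other hD hij.symm (pr_mem hD j _)) hi

/-- The members are linked. -/
def Link (M : Subgroup (orth Q)) (D : Fin t → Submodule F V) (i l : Fin t) : Prop :=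
  ∀ a (ha : Q a = 0), a ∈ D i → D l ≤ A M a ha

theorem exists_swap {i l : Fin t} (hil : i ≠ l) :
    ∃ s : orth Q, (∀ x ∈ D i, s.1 x ∈ D l) ∧ (∀ x ∈ D l, s.1 x ∈ D i) ∧
      ∀ m, m ≠ i → m ≠ l → ∀ x ∈ D m, s.1 x = x := by
  obtain ⟨e, he⟩ := hD.iso i l
  let P : ∀ m, V →ₗ[F] D m := fun m => (prL hD m).codRestrict (D m) (pr_mem hD m)
  let T : V →ₗ[F] V := LinearMap.id - prL hD i - prL hD l +
    (D l).subtype ∘ₗ e.toLinearMap ∘ₗ P i + (D i).subtype ∘ₗ e.symm.toLinearMap ∘ₗ P l
  have hT : ∀ x, T x = x - pr hD i x - pr hD l x + (e (P i x) : V) + (e.symm (P l x) : V) :=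
    fun x => rfl
  have hP : ∀ m x, (P m x : V) = pr hD m x := fun m x => rfl
  have hi : ∀ x, pr hD i (T x) = (e.symm (P l x) : V) := fun x => by
    rw [hT, pr_add, pr_add, pr_sub, pr_sub, pr_self hD (pr_mem hD i x),
      pr_other hD hil.symm (pr_mem hD l x), pr_other hD hil.symm (e (P i x)).2,
      pr_self hD (e.symm (P l x)).2]
    simp
  have hl : ∀ x, pr hD l (T x) = (e (P i x) : V) := fun x => by
    rw [hT, pr_add, pr_add, pr_sub, pr_sub, pr_self hD (pr_mem hD l x),
      pr_other hD hil (pr_mem hD i x), pr_self hD (e (P i x)).2,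
      pr_other hD hil (e.symm (P l x)).2]
    simp
  have hinv : Function.Involutive T := fun x => by
    have h1 : P i (T x) = e.symm (P l x) := Subtype.ext (hi x)
    have h3 : P l (T x) = e (P i x) := Subtype.ext (hl x)
    rw [hT (T x), hi, hl, h1, h3, LinearEquiv.apply_symm_apply, LinearEquiv.symm_apply_apply, hP,
      hP, hT]
    abel
  have hQ : ∀ x, Q (T x) = Q x := fun x => by
    classical
    rw [form_sum hD (T x), form_sum hD x]
    refine Finset.sum_equiv (Equiv.swap i l) (by simp) fun m _ => ?_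
    by_cases hmi : m = i
    · subst hmi
      rw [Equiv.swap_apply_left, hi, ← hP l x, ← he, LinearEquiv.apply_symm_apply]
    by_cases hml : m = l
    · subst hml
      rw [Equiv.swap_apply_right, hl, he, hP]
    rw [Equiv.swap_apply_of_ne_of_ne hmi hml, hT, pr_add, pr_add, pr_sub, pr_sub,
      pr_other hD (Ne.symm hmi) (pr_mem hD i x), pr_other hD (Ne.symm hml) (pr_mem hD l x),
      pr_other hD (Ne.symm hml) (e (P i x)).2, pr_other hD (Ne.symm hmi) (e.symm (P l x)).2]
    simp
  refine ⟨⟨LinearEquiv.ofInvolutive T hinv, hQ⟩, fun x hx => ?_, fun x hx => ?_,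
    fun m hmi hml x hx => ?_⟩
  · show T x ∈ D l
    rw [hT, pr_self hD hx, pr_other hD hil hx,
      show P l x = 0 from Subtype.ext (by rw [hP, pr_other hD hil hx]; rfl)]
    simp
  · show T x ∈ D i
    rw [hT, pr_self hD hx, pr_other hD hil.symm hx,
      show P i x = 0 from Subtype.ext (by rw [hP, pr_other hD hil.symm hx]; rfl)]
    simp
  · show T x = x
    rw [hT, pr_other hD hmi hx, pr_other hD hml hx,
      show P i x = 0 from Subtype.ext (by rw [hP, pr_other hD hmi hx]; rfl),
      show P l x = 0 from Subtype.ext (by rw [hP, pr_other hD hml hx]; rfl)]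
    simp

theorem exists_cycle {i l m : Fin t} (hil : i ≠ l) (him : i ≠ m) (hlm : l ≠ m) :
    ∃ h ∈ M, (∀ x ∈ D i, h.1 x ∈ D l) ∧ (∀ x ∈ D l, h.1 x ∈ D m) ∧
      ∀ x ∈ D m, h.1 x ∈ D i := by
  obtain ⟨a, a1, a2, a3⟩ := exists_swap hD hM hil
  obtain ⟨b, b1, b2, b3⟩ := exists_swap hD hM hlm
  have hinv : ∀ (s : orth Q) (p : Fin t) (q : Fin t), (∀ x ∈ D p, s.1 x ∈ D q) →
      ∀ x ∈ D q, s⁻¹.1 x ∈ D p := by
    intro s p q hs x hx
    let r : D p →ₗ[F] D q := s.1.toLinearMap.restrict hs
    have hinj : Function.Injective r := fun y z hyz =>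
      Subtype.ext (s.1.injective (congrArg Subtype.val hyz))
    obtain ⟨⟨x', hx'⟩, hxx⟩ := (LinearMap.injective_iff_surjective_of_finrank_eq_finrank
      (by rw [hD.dim, hD.dim])).mp hinj ⟨x, hx⟩
    rw [← show s.1 x' = x from congrArg Subtype.val hxx, coe_inv_apply_apply]
    exact hx'
  have hfix : ∀ (s : orth Q) (p : Fin t), (∀ x ∈ D p, s.1 x = x) →
      ∀ x ∈ D p, s⁻¹.1 x ∈ D p := fun s p hs => hinv s p p fun x hx => by rw [hs x hx]; exact hx
  set h := ⁅b, a⁆ with hh
  have happ : ∀ x, h.1 x = b.1 (a.1 (b⁻¹.1 (a⁻¹.1 x))) := fun x => by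
    rw [hh, commutatorElement_def]; rfl
  have afix : ∀ x ∈ D m, a.1 x = x := a3 m him.symm hlm.symm
  have bfix : ∀ x ∈ D i, b.1 x = x := b3 i hil him
  have hi : ∀ x ∈ D i, h.1 x ∈ D l := fun x hx => by
    have h' := hinv b m l b2 _ (hinv a l i a2 x hx)
    rw [happ, afix _ h']
    exact b2 _ h'
  have hl : ∀ x ∈ D l, h.1 x ∈ D m := fun x hx => by
    rw [happ]
    exact b1 _ (a1 _ (hfix b i bfix _ (hinv a i l a1 x hx)))
  have hm : ∀ x ∈ D m, h.1 x ∈ D i := fun x hx => by
    rw [happ]
    have h' := a2 _ (hinv b l m b1 _ (hfix a m afix x hx))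
    rw [bfix _ h']
    exact h'
  refine ⟨h, hM h ?_ fun p => ?_, hi, hl, hm⟩
  · rw [hh, ← commutator_eq hD.nd hD.big]
    exact Subgroup.commutator_mem_commutator (Subgroup.mem_top b) (Subgroup.mem_top a)
  by_cases hpi : p = i
  · subst hpi; exact ⟨l, hi⟩
  by_cases hpl : p = l
  · subst hpl; exact ⟨m, hl⟩
  by_cases hpm : p = m
  · subst hpm; exact ⟨i, hm⟩
  refine ⟨p, fun x hx => ?_⟩
  have ap : ∀ y ∈ D p, a.1 y = y := a3 p hpi hpl
  have bp : ∀ y ∈ D p, b.1 y = y := b3 p hpl hpm
  rw [happ]
  have h' := hfix b p bp _ (hfix a p ap x hx)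
  rw [ap _ h', bp _ h']
  exact h'

theorem map_link {i l i' l' : Fin t} {h : orth Q} (hh : h ∈ M)
    (hi : ∀ x ∈ D i, h.1 x ∈ D i') (hl : ∀ x ∈ D l, h.1 x ∈ D l') (hL : Link M D i l) :
    Link M D i' l' := by
  intro a ha haD z hz
  have back : ∀ p q : Fin t, (∀ x ∈ D p, h.1 x ∈ D q) → ∀ x ∈ D q, ∃ x' ∈ D p, h.1 x' = x := by
    intro p q hpq x hx
    let r : D p →ₗ[F] D q := h.1.toLinearMap.restrict hpq
    have hinj : Function.Injective r := fun y z hyz =>
      Subtype.ext (h.1.injective (congrArg Subtype.val hyz))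
    obtain ⟨⟨x', hx'⟩, hxx⟩ := (LinearMap.injective_iff_surjective_of_finrank_eq_finrank
      (by rw [hD.dim, hD.dim])).mp hinj ⟨x, hx⟩
    exact ⟨x', hx', congrArg Subtype.val hxx⟩
  obtain ⟨a', ha', rfl⟩ := back i i' hi a haD
  obtain ⟨z', hz', rfl⟩ := back l l' hl z hz
  exact map_A hh (hL a' (by rwa [map_form] at ha) ha' hz')

/-- A subgroup with the stabiliser and one more element contains `Ω`. -/
theorem eichGroup_le {g : orth Q} (hg : g ∈ M) (hgP : ¬ Perm D g) : eichGroup Q ≤ M := by
  classical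
  obtain ⟨j, a, z, ha, haD, ha0, hz0, hzD, hzA⟩ := exists_mixed hD hM hg hgP
  have hdim : ∀ i, 3 ≤ Module.finrank F (D i) := fun i => by rw [hD.dim]; exact hD.three
  -- one component of `z` spreads over its member
  obtain ⟨i, hi0⟩ : ∃ i, pr hD i z ≠ 0 := by
    by_contra hc
    simp only [not_exists, not_not] at hc
    exact hz0 (by rw [← sum_pr hD z]; exact Finset.sum_eq_zero fun i _ => hc i)
  have hij : i ≠ j := fun h => hi0 (by
    subst h
    exact pr_unique hD (zero_mem _) fun y hy => by rw [polar_zero_left, hzD y hy])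
  -- swapping centres
  have swap : ∀ a c : V, ∀ (ha : Q a = 0) (hc : Q c = 0), polar Q a c = 0 → c ∈ A M a ha →
      a ∈ A M c hc := by
    intro a c ha hc hac hA
    have hca : polar Q c a = 0 := by rw [polar_comm]; exact hac
    refine ⟨hca, fun r => ?_⟩
    have e : eich Q c (r • a) = eich Q a ((-r) • c) := orth_ext fun x => by
      rw [eich_apply hc (by rw [polar_smul_right, hca, smul_zero]),
        eich_apply ha (by rw [polar_smul_right, hac, smul_zero]), form_smul, form_smul, ha, hc,
        polar_smul_left, polar_smul_left]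
      simp only [smul_eq_mul]
      module
    rw [e]; exact hA.2 (-r)
  have reverse : ∀ {i l : Fin t}, i ≠ l → ∀ (a : V) (ha : Q a = 0), a ∈ D i → a ≠ 0 →
      D l ≤ A M a ha → Link M D l i := by
    intro i l hil a ha haD ha0 hle c hc hcD
    by_cases hc0 : c = 0
    · subst hc0
      intro x _
      refine ⟨polar_zero_left Q x, fun r => ?_⟩
      have e : eich Q (0 : V) (r • x) = 1 := orth_ext fun y => by
        rw [eich_apply (QuadraticMap.map_zero Q) (polar_zero_left Q _)]; simp
      rw [e]; exact one_mem M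
    have hac : polar Q a c = 0 := hD.orth i l hil a haD c hcD
    obtain ⟨y, hy, hay⟩ := exists_pair_ne hD.two (hD.ndOn i) haD ha0
    exact spread hD.two (hD.ndOn i) (hdim i) hc (fun s hs => hD.orth l i hil.symm c hcD s hs)
      (fun p hp b hb hpQ hpb => eich_mem hD hM hp hb hpQ hpb) (swap a c ha hc hac (hle hcD))
      ⟨y, hy, by rw [hay]; exact one_ne_zero⟩
  have symm : ∀ {i l : Fin t}, i ≠ l → Link M D i l → Link M D l i := by
    intro i l hil hL
    obtain ⟨c, hc, hcQ, hc0, -⟩ := exists_hyper hD.two (hD.ndOn i) (hdim i)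
    exact reverse hil c hcQ hc hc0 (hL c hcQ hc)
  obtain ⟨y, hy, hy1⟩ := exists_pair_ne hD.two (hD.ndOn i) (pr_mem hD i z) hi0
  have h0 : Link M D i j := reverse hij.symm a ha haD ha0
    (spread hD.two (hD.ndOn i) (hdim i) ha (fun s hs => hD.orth j i hij.symm a haD s hs)
      (fun p hp b hb hpQ hpb => eich_mem hD hM hp hb hpQ hpb) hzA
      ⟨y, hy, by rw [← pr_polar hD hy, hy1]; exact one_ne_zero⟩)
  -- adjacent links
  have adj : ∀ {i l : Fin t}, i ≠ l → Link M D i l → ∀ m, m ≠ i → Link M D i m := by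
    intro i l hil hL m hmi
    by_cases hml : m = l
    · subst hml; exact hL
    obtain ⟨h, hh, h1, h2', h3⟩ := exists_cycle hD hM hil (Ne.symm hmi) (Ne.symm hml)
    -- `(i, l) ↦ (l, m) ↦ (m, i)`
    exact symm hmi (map_link hD hM hh h2' h3 (map_link hD hM hh h1 h2' hL))
  have all : ∀ x y, x ≠ y → Link M D x y := by
    intro x y hxy
    by_cases hx : x = i
    · subst hx; exact adj hij h0 y hxy.symm
    · exact adj hx (symm (Ne.symm hx) (adj hij h0 x hx)) y hxy.symm
  have full : ∀ a ∈ D j, Q a = 0 → Full M a := by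
    intro a haD ha z hz
    have hzA : z ∈ A M a ha := by
      rw [← sum_pr hD z]
      refine Submodule.sum_mem _ fun l _ => ?_
      by_cases hl : l = j
      · subst hl
        have h1 : polar Q a (pr hD l z) = 0 := by rw [polar_comm, pr_polar hD haD, polar_comm, hz]
        exact ⟨h1, fun r => eich_mem hD hM haD ((D l).smul_mem r (pr_mem hD l z)) ha
          (by rw [polar_smul_right, h1, smul_zero])⟩
      · exact all j l (Ne.symm hl) a ha haD (pr_mem hD l z)
    simpa using hzA.2 1
  obtain ⟨f, hf, hfQ, haf⟩ := exists_partner_in hD.two (hD.ndOn j) haD ha ha0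
  exact eichGroup_le_of_hypPair hD.nd hD.big ha hfQ (by rw [haf]; exact one_ne_zero)
    (full a haD ha) (full f hf hfQ)

end Cfsg.Agent.Wreath
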