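import Cfsg.Agent.MaxSub.OrthVectorGL
import Cfsg.Agent.Lib.Reflections.OddIndex

/-!
Odd characteristic: non-degenerate subspaces, orthogonal decompositions and the root elements they
give; preparation for the maximality of wreath stabilisers in `Ω` (helper24).
-/

set_option autoImplicit false
set_option linter.unusedSectionVars false

namespace Cfsg.Agent.Wreath

open QuadraticMap Cfsg.Agent.UnitaryOrthogonal Cfsg.Agent.OrthStab

variable {F : Type*} [Field F] [Finite F] {V : Type*} [AddCommGroup V] [Module F V]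
variable [FiniteDimensional F V] {Q : QuadraticForm F V}

/-- A subspace on which the polar form is non-degenerate. -/
def Nd (Q : QuadraticForm F V) (S : Submodule F V) : Prop :=
  ∀ s ∈ S, (∀ y ∈ S, polar Q s y = 0) → s = 0

/-- The vectors of `S` orthogonal to `x`. -/
def cut (Q : QuadraticForm F V) (S : Submodule F V) (x : V) : Submodule F V :=
  S ⊓ LinearMap.ker (polarBilin Q x)

theorem mem_cut {S : Submodule F V} {x y : V} : y ∈ cut Q S x ↔ y ∈ S ∧ polar Q x y = 0 :=
  Iff.rfl

theorem finrank_cut (S : Submodule F V) (x : V) :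
    Module.finrank F S ≤ Module.finrank F (cut Q S x) + 1 := by
  have e1 := Submodule.finrank_sup_add_finrank_inf_eq S (LinearMap.ker (polarBilin Q x))
  have e2 := Submodule.finrank_le (S ⊔ LinearMap.ker (polarBilin Q x))
  have e3 := LinearMap.finrank_range_add_finrank_ker (polarBilin Q x)
  have e4 := Submodule.finrank_le (LinearMap.range (polarBilin Q x))
  rw [Module.finrank_self] at e4
  rw [cut]
  omega

variable {S : Submodule F V} (h2 : (2 : F) ≠ 0) (hS : Nd Q S)
include h2 hS

theorem nd_cut {x : V} (hx : x ∈ S) (hQ : Q x ≠ 0) : Nd Q (cut Q S x) := by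
  intro s hs h
  refine hS s hs.1 fun y hy => ?_
  have hxx : polar Q x x ≠ 0 := by rw [polar_self_eq]; exact mul_ne_zero h2 hQ
  have hsx : polar Q s x = 0 := by rw [polar_comm]; exact hs.2
  have := h (y - (polar Q x y / polar Q x x) • x) ⟨sub_mem hy (S.smul_mem _ hx), by
    show polar Q x _ = 0
    rw [polar_sub_right, polar_smul_right, smul_eq_mul, div_mul_cancel₀ _ hxx, sub_self]⟩
  rwa [polar_sub_right, polar_smul_right, hsx, smul_zero, sub_zero] at this

theorem exists_pair_ne {s : V} (hs : s ∈ S) (hs0 : s ≠ 0) : ∃ y ∈ S, polar Q s y = 1 := by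
  by_contra hc
  simp only [not_exists, not_and] at hc
  refine hs0 (hS s hs fun y hy => ?_)
  by_contra h
  exact hc _ (S.smul_mem (polar Q s y)⁻¹ hy)
    (by rw [polar_smul_right, smul_eq_mul, inv_mul_cancel₀ h])

theorem exists_aniso (hpos : 0 < Module.finrank F S) : ∃ x ∈ S, Q x ≠ 0 := by
  by_contra hc
  simp only [not_exists, not_and, not_not] at hc
  obtain ⟨x, hx, hx0⟩ := S.ne_bot_iff.mp fun h => by rw [h, finrank_bot] at hpos; omega
  obtain ⟨y, hy, hxy⟩ := exists_pair_ne h2 hS hx hx0
  have := hc _ (add_mem hx hy)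
  rw [form_add, hc x hx, hc y hy, hxy, add_zero, zero_add] at this
  exact one_ne_zero this

theorem exists_value (hd : 2 ≤ Module.finrank F S) (c : F) (hc : c ≠ 0) :
    ∃ s ∈ S, Q s = c := by
  haveI := Fintype.ofFinite F
  obtain ⟨x, hx, hxQ⟩ := exists_aniso h2 hS (by omega)
  obtain ⟨y, hy, hyQ⟩ := exists_aniso h2 (nd_cut h2 hS hx hxQ) (by
    have := finrank_cut (Q := Q) S x
    omega)
  obtain ⟨s, t, h⟩ := Reflections.exists_sum_sq h2 hxQ hyQ c
  refine ⟨s • x + t • y, add_mem (S.smul_mem _ hx) (S.smul_mem _ hy.1), ?_⟩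
  rw [form_add, form_smul, form_smul, polar_smul_left, polar_smul_right,
    show polar Q x y = 0 from hy.2]
  simp
  linear_combination h

theorem exists_hyper (hd : 3 ≤ Module.finrank F S) :
    ∃ p ∈ S, Q p = 0 ∧ p ≠ 0 ∧ ∃ f ∈ S, Q f = 0 ∧ polar Q p f = 1 := by
  obtain ⟨p, hp, hp0, hpQ⟩ := exists_singular_mem (Q := Q) S hd
  obtain ⟨c, hc, hpc⟩ := exists_pair_ne h2 hS hp hp0
  refine ⟨p, hp, hpQ, hp0, c + (-Q c) • p, add_mem hc (S.smul_mem _ hp), ?_, ?_⟩
  · rw [form_add, form_smul, hpQ, polar_smul_right, polar_comm, hpc]; simp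
  · rw [polar_add_right, polar_smul_right, polar_self_eq, hpQ, hpc]; simp

theorem exists_partner_in {p : V} (hp : p ∈ S) (hpQ : Q p = 0) (hp0 : p ≠ 0) :
    ∃ f ∈ S, Q f = 0 ∧ polar Q p f = 1 := by
  obtain ⟨c, hc, hpc⟩ := exists_pair_ne h2 hS hp hp0
  refine ⟨c + (-Q c) • p, add_mem hc (S.smul_mem _ hp), ?_, ?_⟩
  · rw [form_add, form_smul, hpQ, polar_smul_right, polar_comm, hpc]; simp
  · rw [polar_add_right, polar_smul_right, polar_self_eq, hpQ, hpc]; simp

theorem nd_cut_pair {p f : V} (hp : p ∈ S) (hf : f ∈ S) (hpQ : Q p = 0) (hfQ : Q f = 0)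
    (hpf : polar Q p f = 1) : Nd Q (cut Q (cut Q S p) f) := by
  intro s hs h
  refine hS s hs.1.1 fun y hy => ?_
  have hsp : polar Q s p = 0 := by rw [polar_comm]; exact hs.1.2
  have hsf : polar Q s f = 0 := by rw [polar_comm]; exact hs.2
  have hpp : polar Q p p = 0 := by rw [polar_self_eq, hpQ, mul_zero]
  have hff : polar Q f f = 0 := by rw [polar_self_eq, hfQ, mul_zero]
  have := h (y - polar Q f y • p - polar Q p y • f)
    ⟨⟨sub_mem (sub_mem hy (S.smul_mem _ hp)) (S.smul_mem _ hf), by
      show polar Q p _ = 0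
      rw [polar_sub_right, polar_sub_right, polar_smul_right, polar_smul_right, hpp, hpf]
      simp⟩, by
      show polar Q f _ = 0
      rw [polar_sub_right, polar_sub_right, polar_smul_right, polar_smul_right, hff,
        polar_comm Q f p, hpf]
      simp⟩
  rwa [polar_sub_right, polar_sub_right, polar_smul_right, polar_smul_right, hsp, hsf, smul_zero,
    smul_zero, sub_zero, sub_zero] at this

theorem le_of_singular (hd : 3 ≤ Module.finrank F S) {T : Submodule F V}
    (hT : ∀ x ∈ S, Q x = 0 → x ∈ T) : S ≤ T := by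
  obtain ⟨p, hp, hpQ, -, f, hf, hfQ, hpf⟩ := exists_hyper h2 hS hd
  intro x hx
  set e := x - polar Q f x • p - polar Q p x • f with he
  have heS : e ∈ S := sub_mem (sub_mem hx (S.smul_mem _ hp)) (S.smul_mem _ hf)
  have hpe : polar Q p e = 0 := by
    rw [he, polar_sub_right, polar_sub_right, polar_smul_right, polar_smul_right, hpf,
      polar_self_eq, hpQ]
    simp
  have hfe : polar Q f e = 0 := by
    rw [he, polar_sub_right, polar_sub_right, polar_smul_right, polar_smul_right,
      polar_comm Q f p, hpf, polar_self_eq, hfQ]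
    simp
  have h1 := hT (e + p + (-Q e) • f) (add_mem (add_mem heS hp) (S.smul_mem _ hf)) (by
    rw [form_add, form_add, form_smul, hfQ, hpQ, polar_comm Q e p, hpe, polar_add_left,
      polar_smul_right, polar_smul_right, polar_comm Q e f, hfe, hpf]
    simp)
  have hTp := hT p hp hpQ
  have hTf := hT f hf hfQ
  have : x = (e + p + (-Q e) • f) + (polar Q f x - 1) • p + (polar Q p x + Q e) • f := by
    rw [he]; module
  rw [this]
  exact add_mem (add_mem h1 (T.smul_mem _ hTp)) (T.smul_mem _ hTf)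

end Cfsg.Agent.Wreath
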